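/-
Basic API for `Cfsg.pCore` and `Cfsg.pPrimeCore`.
-/
import Cfsg.Prelude.Def_CaseTheorems
import Mathlib.GroupTheory.Sylow
import Mathlib.GroupTheory.GroupAction.ConjAct
import Mathlib.GroupTheory.SchurZassenhaus
set_option autoImplicit false

namespace CfsgLib.PLocal

open Cfsg Subgroup

variable {G : Type*} [Group G] {H : Type*} [Group H] {p : ℕ}

/-! ### Cardinality helpers -/

/-- The order of a homomorphic image divides the order of a subgroup; here for a join with a normal subgroup. -/
theorem card_sup_dvd_mul [Finite G] (A B : Subgroup G) [B.Normal] :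
    Nat.card ↥(A ⊔ B) ∣ Nat.card A * Nat.card B := by
  have h1 : B.relIndex (A ⊔ B) * Nat.card B = Nat.card ↥(A ⊔ B) := by
    have := relIndex_mul_relIndex (⊥ : Subgroup G) B (A ⊔ B) bot_le le_sup_right
    rw [relIndex_bot_left, relIndex_bot_left] at this
    rw [mul_comm]; exact this
  rw [← h1, relIndex_sup_right]
  exact Nat.mul_dvd_mul (B.relIndex_dvd_card A) dvd_rfl

/-- `|A| * |A : B| = |B|` for `A ≤ B`. -/
theorem card_mul_relIndex {A B : Subgroup G} (h : A ≤ B) :
    Nat.card A * A.relIndex B = Nat.card B := by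
  have := relIndex_mul_relIndex (⊥ : Subgroup G) A B bot_le h
  rwa [relIndex_bot_left, relIndex_bot_left] at this

theorem relIndex_map_dvd (f : G →* H) (A B : Subgroup G) [A.Normal] :
    (A.map f).relIndex (B.map f) ∣ A.relIndex B := by
  rw [← relIndex_comap]
  exact relIndex_dvd_of_le_left B (le_comap_map f A)

theorem relIndex_dvd_of_le_right_of_normal (A : Subgroup G) [A.Normal] {B C : Subgroup G}
    (h : B ≤ C) : A.relIndex B ∣ A.relIndex C := by
  rw [← relIndex_subgroupOf h (H := A)]
  exact relIndex_dvd_index_of_normal (A.subgroupOf C) (B.subgroupOf C)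

theorem coprime_card_of_le {A B : Subgroup G} (h : A ≤ B) (hB : (Nat.card B).Coprime p) :
    (Nat.card A).Coprime p :=
  Nat.Coprime.coprime_dvd_left (card_dvd_of_le h) hB

theorem not_dvd_iff_coprime [Fact p.Prime] {n : ℕ} : n.Coprime p ↔ ¬ p ∣ n := by
  rw [Nat.coprime_comm]
  exact (Fact.out : p.Prime).coprime_iff_not_dvd

/-- A `p`-subgroup and a subgroup of order prime to `p` meet trivially. -/
theorem disjoint_of_isPGroup_of_coprime {A B : Subgroup G} (hA : IsPGroup p A)
    (hB : (Nat.card B).Coprime p) : A ⊓ B = ⊥ := by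
  rw [eq_bot_iff]
  intro x hx
  obtain ⟨k, hk⟩ := hA ⟨x, hx.1⟩
  have h1 : orderOf x ∣ p ^ k := by
    rw [← Subgroup.orderOf_mk x hx.1]; exact orderOf_dvd_of_pow_eq_one hk
  have h2 : orderOf x ∣ Nat.card B := B.orderOf_dvd_natCard hx.2
  exact orderOf_eq_one_iff.mp (Nat.eq_one_of_dvd_coprimes (Nat.Coprime.pow_right k hB) h2 h1)

/-- A subgroup which is both a `p`-group and of order prime to `p` is trivial. -/
theorem eq_bot_of_isPGroup_of_coprime {A : Subgroup G} (hA : IsPGroup p A)
    (hA' : (Nat.card A).Coprime p) : A = ⊥ := by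
  simpa using disjoint_of_isPGroup_of_coprime hA hA'

theorem isPGroup_of_relIndex_eq_pow {A B : Subgroup G} (hA : IsPGroup p A) (hAB : A ≤ B)
    [Finite G] [Fact p.Prime] {k : ℕ} (h : A.relIndex B = p ^ k) : IsPGroup p B := by
  obtain ⟨n, hn⟩ := IsPGroup.iff_card.mp hA
  refine IsPGroup.of_card (n := n + k) ?_
  rw [← card_mul_relIndex hAB, hn, h, pow_add]

/-! ### The `p`-core -/

theorem le_pCore {N : Subgroup G} [hN : N.Normal] (hp : IsPGroup p N) : N ≤ pCore p G :=
  le_sSup ⟨hN, hp⟩

/-- `O_p(G)` is a `p`-group. -/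
theorem isPGroup_pCore (p : ℕ) (G : Type*) [Group G] : IsPGroup p (pCore p G) :=
  Sylow.sSup_of_normal _ (fun _ h => h.2) (fun _ h => h.1)

theorem pCore_le_sylow (P : Sylow p G) : pCore p G ≤ P :=
  (isPGroup_pCore p G).le_sylow_of_normal P

/-- `O_p(G)` is the intersection of the Sylow `p`-subgroups. -/
theorem pCore_eq_iInf_sylow [Finite G] [Fact p.Prime] :
    pCore p G = ⨅ P : Sylow p G, (P : Subgroup G) := by
  refine le_antisymm (le_iInf fun P => pCore_le_sylow P) ?_
  have : (⨅ P : Sylow p G, (P : Subgroup G)).Normal := by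
    constructor
    intro x hx g
    rw [Subgroup.mem_iInf] at hx ⊢
    intro P
    have h := hx (g⁻¹ • P)
    rw [Sylow.coe_subgroup_smul, Subgroup.mem_smul_pointwise_iff_exists] at h
    obtain ⟨y, hy, hyx⟩ := h
    have : y = g * x * g⁻¹ := by
      rw [← hyx]; simp [mul_assoc]
    rw [← this]; exact hy
  let P : Sylow p G := default
  exact le_pCore (P.isPGroup'.to_le (iInf_le _ P))

theorem map_pCore_le_of_surjective {f : G →* H} (hf : Function.Surjective f) :
    (pCore p G).map f ≤ pCore p H := by
  have : ((pCore p G).map f).Normal := Subgroup.Normal.map inferInstance f hf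
  exact le_pCore ((isPGroup_pCore p G).map f)

theorem map_pCore_equiv (e : G ≃* H) : (pCore p G).map e.toMonoidHom = pCore p H := by
  refine le_antisymm (map_pCore_le_of_surjective e.surjective) ?_
  intro x hx
  refine ⟨e.symm x, ?_, e.apply_symm_apply x⟩
  exact map_pCore_le_of_surjective (p := p) (f := e.symm.toMonoidHom) e.symm.surjective ⟨x, hx, rfl⟩

instance pCoreCharacteristic (p : ℕ) (G : Type*) [Group G] : (pCore p G).Characteristic :=
  characteristic_iff_map_eq.mpr fun e => map_pCore_equiv e

/-- A characteristic subgroup of a normal subgroup, pushed forward, is normal. -/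
theorem normal_map_subtype (N : Subgroup G) [N.Normal] (K : Subgroup N) [K.Characteristic] :
    (K.map N.subtype).Normal :=
  ConjAct.normal_of_characteristic_of_normal

theorem pCore_map_subtype_le (N : Subgroup G) [N.Normal] :
    (pCore p N).map N.subtype ≤ pCore p G := by
  have := normal_map_subtype N (pCore p N)
  exact le_pCore ((isPGroup_pCore p N).map N.subtype)

theorem pCore_subgroupOf_le (K : Subgroup G) : (pCore p G).subgroupOf K ≤ pCore p K :=
  le_pCore (IsPGroup.comap_subtype (isPGroup_pCore p G))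

/-- `O_p(N) = N ∩ O_p(G)` for normal `N`. -/
theorem pCore_map_subtype_eq (N : Subgroup G) [N.Normal] :
    (pCore p N).map N.subtype = N ⊓ pCore p G := by
  refine le_antisymm (le_inf (map_subtype_le _) (pCore_map_subtype_le N)) ?_
  intro x hx
  exact ⟨⟨x, hx.1⟩, pCore_subgroupOf_le N hx.2, rfl⟩

theorem pCore_eq_top_of_isPGroup (h : IsPGroup p G) : pCore p G = ⊤ :=
  top_unique (le_pCore (h.to_subgroup ⊤))

/-- `O_p(G / O_p(G)) = 1`, in the form: the full preimage of `O_p(G/N)` for a normal `p`-subgroup `N`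
is `O_p(G)`. -/
theorem comap_pCore_quotient (N : Subgroup G) [N.Normal] (hN : IsPGroup p N) :
    (pCore p (G ⧸ N)).comap (QuotientGroup.mk' N) = pCore p G := by
  refine le_antisymm ?_ ?_
  · refine le_pCore ((isPGroup_pCore p (G ⧸ N)).comap_of_ker_isPGroup _ ?_)
    rwa [QuotientGroup.ker_mk']
  · rw [← map_le_iff_le_comap]
    exact map_pCore_le_of_surjective (QuotientGroup.mk'_surjective N)

theorem pCore_quotient_pCore_eq_bot (p : ℕ) (G : Type*) [Group G] :
    pCore p (G ⧸ pCore p G) = ⊥ := by
  have h := congrArg (Subgroup.map (QuotientGroup.mk' (pCore p G)))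
    (comap_pCore_quotient (pCore p G) (isPGroup_pCore p G))
  rw [map_comap_eq_self_of_surjective (QuotientGroup.mk'_surjective _)] at h
  rw [h, eq_bot_iff, map_le_iff_le_comap, MonoidHom.comap_bot, QuotientGroup.ker_mk']

theorem map_pCore_quotient_eq (N : Subgroup G) [N.Normal] (hN : IsPGroup p N) :
    (pCore p G).map (QuotientGroup.mk' N) = pCore p (G ⧸ N) := by
  rw [← comap_pCore_quotient N hN, map_comap_eq_self_of_surjective (QuotientGroup.mk'_surjective _)]

/-- A `p`-subgroup normalized by a subnormal subgroup containing it lies in `O_p(G)`. -/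
theorem le_pCore_of_le_isSubnormal {A : Subgroup G} (hA : A.IsSubnormal) :
    ∀ X : Subgroup G, X ≤ A → A ≤ normalizer (X : Set G) → IsPGroup p X → X ≤ pCore p G := by
  induction hA with
  | top =>
    intro X _ hn hp
    have : X.Normal := normalizer_eq_top_iff.mp (top_unique hn)
    exact le_pCore hp
  | step A B hle _ hnorm ih =>
    intro X hXA hn hp x hx
    let A' : Subgroup B := A.subgroupOf B
    let X' : Subgroup A' := (X.subgroupOf B).subgroupOf A'
    have : A'.Normal := hnorm
    have hX'n : X'.Normal := ⟨fun n hn' g => le_normalizer_iff.mp hn _ g.2 _ hn'⟩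
    have h1 : X' ≤ pCore p A' := le_pCore ((IsPGroup.comap_subtype hp).comap_subtype)
    have h2 : (pCore p B).map B.subtype ≤ pCore p G := by
      refine ih _ (map_subtype_le _) ?_ ((isPGroup_pCore p B).map _)
      rintro b hb
      refine mem_normalizer_iff_map_conj_eq.mpr ?_
      have : (pCore p B).map (MulAut.conj (⟨b, hb⟩ : B)).toMonoidHom = pCore p B :=
        characteristic_iff_map_eq.mp inferInstance _
      conv_rhs => rw [← this]
      rw [map_map, map_map]
      rfl
    exact h2 ⟨⟨x, hle (hXA hx)⟩,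
      pCore_map_subtype_le A' ⟨⟨⟨x, hle (hXA hx)⟩, hXA hx⟩, h1 hx, rfl⟩, rfl⟩

/-- A subnormal `p`-subgroup lies in `O_p(G)`. -/
theorem le_pCore_of_isSubnormal {K : Subgroup G} (hK : K.IsSubnormal) (hp : IsPGroup p K) :
    K ≤ pCore p G :=
  le_pCore_of_le_isSubnormal hK K le_rfl le_normalizer hp

/-! ### The `p'`-core -/

theorem le_pPrimeCore {N : Subgroup G} [hN : N.Normal] (hp : (Nat.card N).Coprime p) :
    N ≤ pPrimeCore p G :=
  le_sSup ⟨hN, hp⟩

/-- A finite join of normal subgroups of order prime to `p` has order prime to `p`. -/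
theorem coprime_card_sSup [Finite G] (S : Set (Subgroup G)) (hn : ∀ N ∈ S, N.Normal)
    (hp : ∀ N ∈ S, (Nat.card N).Coprime p) : (Nat.card ↥(sSup S)).Coprime p := by
  induction S, S.toFinite using Set.Finite.induction_on with
  | empty => simp
  | @insert a s _ _ ih =>
    rw [sSup_insert]
    have := Subgroup.sSup_normal s fun N hN => hn N (Set.mem_insert_of_mem _ hN)
    exact Nat.Coprime.coprime_dvd_left (card_sup_dvd_mul a (sSup s))
      ((hp a (Set.mem_insert _ _)).mul_left
        (ih (fun N hN => hn N (Set.mem_insert_of_mem _ hN)) fun N hN => hp N (Set.mem_insert_of_mem _ hN)))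

/-- `O_{p'}(G)` has order prime to `p`. -/
theorem coprime_card_pPrimeCore (p : ℕ) (G : Type*) [Group G] [Finite G] :
    (Nat.card (pPrimeCore p G)).Coprime p :=
  coprime_card_sSup _ (fun _ h => h.1) (fun _ h => h.2)

theorem map_pPrimeCore_le_of_surjective [Finite G] {f : G →* H} (hf : Function.Surjective f) :
    (pPrimeCore p G).map f ≤ pPrimeCore p H := by
  have : ((pPrimeCore p G).map f).Normal := Subgroup.Normal.map inferInstance f hf
  exact le_pPrimeCore (Nat.Coprime.coprime_dvd_left (card_map_dvd _ f) (coprime_card_pPrimeCore p G))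

theorem map_pPrimeCore_equiv_le (e : G ≃* H) :
    (pPrimeCore p G).map e.toMonoidHom ≤ pPrimeCore p H := by
  rw [map_le_iff_le_comap]
  refine sSup_le fun N hN => map_le_iff_le_comap.mp ?_
  have : (N.map e.toMonoidHom).Normal := hN.1.map _ e.surjective
  refine le_pPrimeCore ?_
  rw [← Nat.card_congr (Subgroup.equivMapOfInjective N _ e.injective).toEquiv]
  exact hN.2

theorem map_pPrimeCore_equiv (e : G ≃* H) :
    (pPrimeCore p G).map e.toMonoidHom = pPrimeCore p H := by
  refine le_antisymm (map_pPrimeCore_equiv_le e) ?_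
  intro x hx
  refine ⟨e.symm x, ?_, e.apply_symm_apply x⟩
  exact map_pPrimeCore_equiv_le e.symm ⟨x, hx, rfl⟩

instance pPrimeCoreCharacteristic (p : ℕ) (G : Type*) [Group G] :
    (pPrimeCore p G).Characteristic :=
  characteristic_iff_map_eq.mpr fun e => map_pPrimeCore_equiv e

theorem pPrimeCore_map_subtype_le [Finite G] (N : Subgroup G) [N.Normal] :
    (pPrimeCore p N).map N.subtype ≤ pPrimeCore p G := by
  have := normal_map_subtype N (pPrimeCore p N)
  exact le_pPrimeCore (Nat.Coprime.coprime_dvd_left (card_map_dvd _ _) (coprime_card_pPrimeCore p N))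

theorem pPrimeCore_subgroupOf_le [Finite G] (K : Subgroup G) :
    (pPrimeCore p G).subgroupOf K ≤ pPrimeCore p K := by
  refine le_pPrimeCore (Nat.Coprime.coprime_dvd_left ?_ (coprime_card_pPrimeCore p G))
  rw [Nat.card_congr (Subgroup.equivMapOfInjective ((pPrimeCore p G).subgroupOf K) _
    K.subtype_injective).toEquiv]
  exact card_dvd_of_le (map_le_iff_le_comap.mpr le_rfl)

/-- `O_{p'}(N) = N ∩ O_{p'}(G)` for normal `N`. -/
theorem pPrimeCore_map_subtype_eq [Finite G] (N : Subgroup G) [N.Normal] :
    (pPrimeCore p N).map N.subtype = N ⊓ pPrimeCore p G := by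
  refine le_antisymm (le_inf (map_subtype_le _) (pPrimeCore_map_subtype_le N)) ?_
  intro x hx
  exact ⟨⟨x, hx.1⟩, pPrimeCore_subgroupOf_le N hx.2, rfl⟩

/-- For normal `N` of order prime to `p`, the preimage of `O_{p'}(G/N)` is `O_{p'}(G)`. -/
theorem comap_pPrimeCore_quotient [Finite G] (N : Subgroup G) [N.Normal]
    (hN : (Nat.card N).Coprime p) :
    (pPrimeCore p (G ⧸ N)).comap (QuotientGroup.mk' N) = pPrimeCore p G := by
  refine le_antisymm ?_ ?_
  · refine le_pPrimeCore ?_
    have hle : N ≤ (pPrimeCore p (G ⧸ N)).comap (QuotientGroup.mk' N) := by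
      intro x hx
      rw [mem_comap, (QuotientGroup.eq_one_iff x).mpr hx |> fun h => (show QuotientGroup.mk' N x = 1 from h)]
      exact one_mem _
    rw [← card_mul_relIndex hle]
    refine hN.mul_left ?_
    have : N = (⊥ : Subgroup (G ⧸ N)).comap (QuotientGroup.mk' N) := by
      rw [MonoidHom.comap_bot, QuotientGroup.ker_mk']
    nth_rewrite 1 [this]
    rw [relIndex_comap, map_comap_eq_self_of_surjective (QuotientGroup.mk'_surjective _),
      relIndex_bot_left]
    exact coprime_card_pPrimeCore p (G ⧸ N)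
  · rw [← map_le_iff_le_comap]
    exact map_pPrimeCore_le_of_surjective (QuotientGroup.mk'_surjective N)

theorem pPrimeCore_quotient_pPrimeCore_eq_bot (p : ℕ) (G : Type*) [Group G] [Finite G] :
    pPrimeCore p (G ⧸ pPrimeCore p G) = ⊥ := by
  have h := congrArg (Subgroup.map (QuotientGroup.mk' (pPrimeCore p G)))
    (comap_pPrimeCore_quotient (pPrimeCore p G) (coprime_card_pPrimeCore p G))
  rw [map_comap_eq_self_of_surjective (QuotientGroup.mk'_surjective _)] at h
  rw [h, eq_bot_iff, map_le_iff_le_comap, MonoidHom.comap_bot, QuotientGroup.ker_mk']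

theorem pPrimeCore_eq_bot_of_isPGroup [Finite G] (h : IsPGroup p G) : pPrimeCore p G = ⊥ :=
  eq_bot_of_isPGroup_of_coprime (h.to_subgroup _) (coprime_card_pPrimeCore p G)

/-- A subgroup of order prime to `p` normalized by a subnormal subgroup containing it lies in `O_{p'}(G)`. -/
theorem le_pPrimeCore_of_le_isSubnormal [Finite G] {A : Subgroup G} (hA : A.IsSubnormal) :
    ∀ X : Subgroup G, X ≤ A → A ≤ normalizer (X : Set G) → (Nat.card X).Coprime p →
      X ≤ pPrimeCore p G := by
  induction hA with
  | top =>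
    intro X _ hn hp
    have : X.Normal := normalizer_eq_top_iff.mp (top_unique hn)
    exact le_pPrimeCore hp
  | step A B hle _ hnorm ih =>
    intro X hXA hn hp x hx
    let A' : Subgroup B := A.subgroupOf B
    let X' : Subgroup A' := (X.subgroupOf B).subgroupOf A'
    have : A'.Normal := hnorm
    have hX'n : X'.Normal := ⟨fun n hn' g => le_normalizer_iff.mp hn _ g.2 _ hn'⟩
    have hX'p : (Nat.card X').Coprime p := by
      refine Nat.Coprime.coprime_dvd_left ?_ hp
      rw [Nat.card_congr (Subgroup.equivMapOfInjective X' _ A'.subtype_injective).toEquiv,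
        Nat.card_congr (Subgroup.equivMapOfInjective (map A'.subtype X') _ B.subtype_injective).toEquiv]
      refine card_dvd_of_le ?_
      rw [map_le_iff_le_comap, map_le_iff_le_comap]
      exact le_rfl
    have h1 : X' ≤ pPrimeCore p A' := le_pPrimeCore hX'p
    have h2 : (pPrimeCore p B).map B.subtype ≤ pPrimeCore p G := by
      refine ih _ (map_subtype_le _) ?_
        (Nat.Coprime.coprime_dvd_left (card_map_dvd _ _) (coprime_card_pPrimeCore p B))
      rintro b hb
      refine mem_normalizer_iff_map_conj_eq.mpr ?_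
      have : (pPrimeCore p B).map (MulAut.conj (⟨b, hb⟩ : B)).toMonoidHom = pPrimeCore p B :=
        characteristic_iff_map_eq.mp inferInstance _
      conv_rhs => rw [← this]
      rw [map_map, map_map]
      rfl
    exact h2 ⟨⟨x, hle (hXA hx)⟩,
      pPrimeCore_map_subtype_le A' ⟨⟨⟨x, hle (hXA hx)⟩, hXA hx⟩, h1 hx, rfl⟩, rfl⟩

/-- A subnormal subgroup of order prime to `p` lies in `O_{p'}(G)`. -/
theorem le_pPrimeCore_of_isSubnormal [Finite G] {K : Subgroup G} (hK : K.IsSubnormal)
    (hp : (Nat.card K).Coprime p) : K ≤ pPrimeCore p G :=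
  le_pPrimeCore_of_le_isSubnormal hK K le_rfl le_normalizer hp

theorem pCore_inf_pPrimeCore (p : ℕ) (G : Type*) [Group G] [Finite G] :
    pCore p G ⊓ pPrimeCore p G = ⊥ :=
  disjoint_of_isPGroup_of_coprime (isPGroup_pCore p G) (coprime_card_pPrimeCore p G)

theorem pPrimeCore_le_centralizer_pCore (p : ℕ) (G : Type*) [Group G] [Finite G] :
    pPrimeCore p G ≤ centralizer (pCore p G : Set G) := by
  rw [← commutator_eq_bot_iff_le_centralizer]
  exact commutator_eq_bot_of_disjoint
    (disjoint_iff.mpr (inf_comm (pPrimeCore p G) _ ▸ pCore_inf_pPrimeCore p G))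

end CfsgLib.PLocal
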