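/-
Elementary abelian subgroups, the Thompson subgroup (both versions) and their behaviour under
injective homomorphisms.
-/
import Cfsg.Agent.PLocal.Cores
import Cfsg.Prelude.Def_PLocal
set_option autoImplicit false

namespace CfsgLib.PLocal

open Cfsg Subgroup

universe u v

variable {G : Type u} [Group G] {H : Type v} [Group H] {p : ℕ}

/-! ### Elementary abelian subgroups -/

theorem isElementaryAbelian_bot : IsElementaryAbelian p (⊥ : Subgroup G) :=
  ⟨inferInstance, fun a ha => by rw [mem_bot.mp ha, one_pow]⟩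

theorem isMulCommutative_of_le {A B : Subgroup G} (hB : IsMulCommutative B) (h : A ≤ B) :
    IsMulCommutative A :=
  le_centralizer_iff_isMulCommutative.mp
    ((h.trans (le_centralizer_iff_isMulCommutative.mpr hB)).trans (centralizer_le h))

theorem isMulCommutative_map {A : Subgroup G} (hA : IsMulCommutative A) (f : G →* H) :
    IsMulCommutative (A.map f) := by
  refine le_centralizer_iff_isMulCommutative.mp ?_
  refine ((map_mono (le_centralizer_iff_isMulCommutative.mpr hA)).trans
    (map_centralizer_le_centralizer_image _ f)).trans ?_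
  rw [coe_map]

theorem isMulCommutative_of_map {A : Subgroup G} {f : G →* H} (hf : Function.Injective f)
    (hA : IsMulCommutative (A.map f)) : IsMulCommutative A := by
  refine le_centralizer_iff_isMulCommutative.mp fun x hx y hy => hf ?_
  rw [map_mul, map_mul]
  exact le_centralizer_iff_isMulCommutative.mpr hA (mem_map_of_mem f hx) _ (mem_map_of_mem f hy)

theorem isElementaryAbelian_of_le {A B : Subgroup G} (hB : IsElementaryAbelian p B) (h : A ≤ B) :
    IsElementaryAbelian p A :=
  ⟨isMulCommutative_of_le hB.1 h, fun a ha => hB.2 a (h ha)⟩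

theorem isElementaryAbelian_map {A : Subgroup G} (hA : IsElementaryAbelian p A) (f : G →* H) :
    IsElementaryAbelian p (A.map f) :=
  ⟨isMulCommutative_map hA.1 f, by
    rintro _ ⟨a, ha, rfl⟩; rw [← map_pow, hA.2 a ha, map_one]⟩

theorem isElementaryAbelian_map_iff {A : Subgroup G} {f : G →* H} (hf : Function.Injective f) :
    IsElementaryAbelian p (A.map f) ↔ IsElementaryAbelian p A :=
  ⟨fun h => ⟨isMulCommutative_of_map hf h.1, fun a ha => hf (by
    rw [map_pow, map_one]; exact h.2 _ (mem_map_of_mem f ha))⟩, fun h => isElementaryAbelian_map h f⟩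

theorem isPGroup_of_isElementaryAbelian {A : Subgroup G} (hA : IsElementaryAbelian p A) :
    IsPGroup p A :=
  fun a => ⟨1, Subtype.ext (by simpa using hA.2 a a.2)⟩

theorem isElementaryAbelian_closure {s : Set G} (hc : ∀ x ∈ s, ∀ y ∈ s, x * y = y * x)
    (hp : ∀ x ∈ s, x ^ p = 1) : IsElementaryAbelian p (Subgroup.closure s) := by
  have h := Subgroup.isMulCommutative_closure hc
  refine ⟨h, fun a ha => ?_⟩
  induction ha using Subgroup.closure_induction with
  | mem x hx => exact hp x hx
  | one => exact one_pow p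
  | mul x y hx hy ihx ihy =>
    rw [Commute.mul_pow (le_centralizer_iff_isMulCommutative.mpr h hy x hx), ihx, ihy, one_mul]
  | inv x _ ih => rw [inv_pow, ih, inv_one]

theorem sup_eq_closure_union (A B : Subgroup G) :
    A ⊔ B = Subgroup.closure ((A : Set G) ∪ B) := by
  rw [Subgroup.closure_union, Subgroup.closure_eq, Subgroup.closure_eq]

theorem isMulCommutative_sup {A B : Subgroup G} (hA : IsMulCommutative A) (hB : IsMulCommutative B)
    (hc : A ≤ centralizer (B : Set G)) : IsMulCommutative ↥(A ⊔ B) :=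
  le_centralizer_iff_isMulCommutative.mp (sup_le
    (le_centralizer_iff.mp (sup_le (le_centralizer_iff_isMulCommutative.mpr hA)
      (le_centralizer_iff.mp hc)))
    (le_centralizer_iff.mp (sup_le hc (le_centralizer_iff_isMulCommutative.mpr hB))))

theorem isElementaryAbelian_sup {A B : Subgroup G} (hA : IsElementaryAbelian p A)
    (hB : IsElementaryAbelian p B) (hc : A ≤ centralizer (B : Set G)) :
    IsElementaryAbelian p (A ⊔ B) := by
  have h := isMulCommutative_sup hA.1 hB.1 hc
  rw [sup_eq_closure_union] at h ⊢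
  refine isElementaryAbelian_closure (fun x hx y hy => ?_) fun x hx => hx.elim (hA.2 x) (hB.2 x)
  exact (le_centralizer_iff_isMulCommutative.mpr h (subset_closure hx) y (subset_closure hy)).symm

theorem isMulCommutative_zpowers (x : G) : IsMulCommutative (Subgroup.zpowers x) :=
  inferInstance

theorem isElementaryAbelian_zpowers {x : G} (hx : x ^ p = 1) :
    IsElementaryAbelian p (Subgroup.zpowers x) := by
  rw [Subgroup.zpowers_eq_closure]
  exact isElementaryAbelian_closure (by simp) (by simpa using hx)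

/-! ### `Ω₁` -/

theorem omegaOne_le (p : ℕ) (A : Subgroup G) : omegaOne p A ≤ A :=
  (closure_le _).mpr fun _ hx => hx.1

theorem mem_omegaOne {A : Subgroup G} {x : G} (hx : x ∈ A) (hp : x ^ p = 1) : x ∈ omegaOne p A :=
  subset_closure ⟨hx, hp⟩

theorem omegaOne_mono {A B : Subgroup G} (h : A ≤ B) : omegaOne p A ≤ omegaOne p B :=
  closure_mono fun _ hx => ⟨h hx.1, hx.2⟩

theorem map_omegaOne {f : G →* H} (hf : Function.Injective f) (A : Subgroup G) :
    (omegaOne p A).map f = omegaOne p (A.map f) := by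
  rw [omegaOne, MonoidHom.map_closure, omegaOne]
  congr 1
  ext y
  constructor
  · rintro ⟨x, hx, rfl⟩
    exact ⟨mem_map_of_mem f hx.1, by rw [← map_pow, hx.2, map_one]⟩
  · rintro ⟨⟨x, hx, rfl⟩, hy⟩
    exact ⟨x, ⟨hx, hf (by rw [map_pow, hy, map_one])⟩, rfl⟩

theorem isElementaryAbelian_omegaOne {A : Subgroup G} (hA : IsMulCommutative A) :
    IsElementaryAbelian p (omegaOne p A) :=
  isElementaryAbelian_closure
    (fun _ hx _ hy => (le_centralizer_iff_isMulCommutative.mpr hA hy.1 _ hx.1)) fun _ hx => hx.2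

theorem omegaOne_eq_self {A : Subgroup G} (hA : IsElementaryAbelian p A) : omegaOne p A = A :=
  le_antisymm (omegaOne_le p A) fun x hx => mem_omegaOne hx (hA.2 x hx)

theorem omegaOne_ne_bot [Finite G] [Fact p.Prime] {A : Subgroup G} (hA : p ∣ Nat.card A) :
    omegaOne p A ≠ ⊥ := by
  obtain ⟨x, hx⟩ := exists_prime_orderOf_dvd_card' p hA
  intro hbot
  have h1 : (x : G) ∈ omegaOne p A := mem_omegaOne x.2 (by
    rw [← Subgroup.coe_pow, ← hx, pow_orderOf_eq_one, Subgroup.coe_one])
  rw [hbot, mem_bot, OneMemClass.coe_eq_one] at h1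
  rw [h1, orderOf_one] at hx
  exact (Fact.out : p.Prime).one_lt.ne' hx.symm

instance omegaOneCharacteristic (A : Subgroup G) [hA : A.Characteristic] :
    (omegaOne p A).Characteristic := by
  refine characteristic_iff_map_eq.mpr fun e => ?_
  rw [map_omegaOne (f := e.toMonoidHom) e.injective, characteristic_iff_map_eq.mp hA e]

/-! ### Maximal-order (elementary) abelian subgroups inside a subgroup -/

/-- The elementary abelian subgroups of `P` of largest order, as subgroups of the ambient group. -/
def maxEAIn (p : ℕ) (P : Subgroup G) : Set (Subgroup G) :=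
  {A | A ≤ P ∧ IsElementaryAbelian p A ∧
    ∀ B : Subgroup G, B ≤ P → IsElementaryAbelian p B → Nat.card B ≤ Nat.card A}

/-- The abelian subgroups of `P` of largest order, as subgroups of the ambient group. -/
def maxAbIn (P : Subgroup G) : Set (Subgroup G) :=
  {A | A ≤ P ∧ IsMulCommutative A ∧
    ∀ B : Subgroup G, B ≤ P → IsMulCommutative B → Nat.card B ≤ Nat.card A}

theorem maxEAIn_nonempty [Finite G] (p : ℕ) (P : Subgroup G) : (maxEAIn p P).Nonempty := by
  obtain ⟨A, hA, hmax⟩ := Set.exists_max_image {A : Subgroup G | A ≤ P ∧ IsElementaryAbelian p A}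
    (fun A => Nat.card A) (Set.toFinite _) ⟨⊥, bot_le, isElementaryAbelian_bot⟩
  exact ⟨A, hA.1, hA.2, fun B h1 h2 => hmax B ⟨h1, h2⟩⟩

theorem maxAbIn_nonempty [Finite G] (P : Subgroup G) : (maxAbIn P).Nonempty := by
  obtain ⟨A, hA, hmax⟩ := Set.exists_max_image {A : Subgroup G | A ≤ P ∧ IsMulCommutative A}
    (fun A => Nat.card A) (Set.toFinite _) ⟨⊥, bot_le, (isElementaryAbelian_bot (p := 1)).1⟩
  exact ⟨A, hA.1, hA.2, fun B h1 h2 => hmax B ⟨h1, h2⟩⟩

theorem maxEA_eq_maxEAIn_top (p : ℕ) :
    maxElementaryAbelianSubgroups p G = maxEAIn p (⊤ : Subgroup G) := by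
  ext A; simp [maxElementaryAbelianSubgroups, maxEAIn]

theorem maxAb_eq_maxAbIn_top : maxAbelianSubgroups G = maxAbIn (⊤ : Subgroup G) := by
  ext A; simp [maxAbelianSubgroups, maxAbIn]

theorem map_maxEAIn {f : G →* H} (hf : Function.Injective f) (P : Subgroup G) :
    maxEAIn p (P.map f) = Subgroup.map f '' maxEAIn p P := by
  have hcard : ∀ B : Subgroup G, Nat.card (B.map f) = Nat.card B := fun B =>
    (Nat.card_congr (equivMapOfInjective B f hf).toEquiv).symm
  ext A
  constructor
  · rintro ⟨hAP, hA, hmax⟩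
    have hAe : (A.comap f).map f = A :=
      map_comap_eq_self (hAP.trans (map_le_range f P))
    refine ⟨A.comap f, ⟨?_, ?_, ?_⟩, hAe⟩
    · rw [← comap_map_eq_self_of_injective hf P]; exact comap_mono hAP
    · rw [← isElementaryAbelian_map_iff hf, hAe]; exact hA
    · intro B hB hBe
      rw [← hcard B, ← hcard (A.comap f), hAe]
      exact hmax _ (map_mono hB) (isElementaryAbelian_map hBe f)
  · rintro ⟨A₀, ⟨hAP, hA, hmax⟩, rfl⟩
    refine ⟨map_mono hAP, isElementaryAbelian_map hA f, fun B hB hBe => ?_⟩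
    have hBe' : (B.comap f).map f = B := map_comap_eq_self (hB.trans (map_le_range f P))
    rw [← hBe', hcard, hcard]
    refine hmax _ ?_ ?_
    · rw [← comap_map_eq_self_of_injective hf P]; exact comap_mono hB
    · rw [← isElementaryAbelian_map_iff hf, hBe']; exact hBe

theorem map_maxAbIn {f : G →* H} (hf : Function.Injective f) (P : Subgroup G) :
    maxAbIn (P.map f) = Subgroup.map f '' maxAbIn P := by
  have hcard : ∀ B : Subgroup G, Nat.card (B.map f) = Nat.card B := fun B =>
    (Nat.card_congr (equivMapOfInjective B f hf).toEquiv).symm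
  ext A
  constructor
  · rintro ⟨hAP, hA, hmax⟩
    have hAe : (A.comap f).map f = A :=
      map_comap_eq_self (hAP.trans (map_le_range f P))
    refine ⟨A.comap f, ⟨?_, ?_, ?_⟩, hAe⟩
    · rw [← comap_map_eq_self_of_injective hf P]; exact comap_mono hAP
    · exact isMulCommutative_of_map hf (hAe.symm ▸ hA)
    · intro B hB hBe
      rw [← hcard B, ← hcard (A.comap f), hAe]
      exact hmax _ (map_mono hB) (isMulCommutative_map hBe f)
  · rintro ⟨A₀, ⟨hAP, hA, hmax⟩, rfl⟩
    refine ⟨map_mono hAP, isMulCommutative_map hA f, fun B hB hBe => ?_⟩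
    have hBe' : (B.comap f).map f = B := map_comap_eq_self (hB.trans (map_le_range f P))
    rw [← hBe', hcard, hcard]
    refine hmax _ ?_ ?_
    · rw [← comap_map_eq_self_of_injective hf P]; exact comap_mono hB
    · exact isMulCommutative_of_map hf (hBe'.symm ▸ hBe)

theorem image_map_maxEA (p : ℕ) (P : Subgroup G) :
    Subgroup.map P.subtype '' maxElementaryAbelianSubgroups p P = maxEAIn p P := by
  rw [maxEA_eq_maxEAIn_top, ← map_maxEAIn P.subtype_injective, ← MonoidHom.range_eq_map,
    range_subtype]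

theorem image_map_maxAb (P : Subgroup G) :
    Subgroup.map P.subtype '' maxAbelianSubgroups P = maxAbIn P := by
  rw [maxAb_eq_maxAbIn_top, ← map_maxAbIn P.subtype_injective, ← MonoidHom.range_eq_map,
    range_subtype]

theorem thompsonSubgroupOf_eq (p : ℕ) (P : Subgroup G) :
    thompsonSubgroupOf p P = sSup (maxEAIn p P) := by
  rw [thompsonSubgroupOf, thompsonSubgroup, (gc_map_comap P.subtype).l_sSup, ← image_map_maxEA,
    sSup_image]

theorem thompsonSubgroupAOf_eq (P : Subgroup G) :
    thompsonSubgroupAOf P = sSup (maxAbIn P) := by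
  rw [thompsonSubgroupAOf, thompsonSubgroupA, (gc_map_comap P.subtype).l_sSup, ← image_map_maxAb,
    sSup_image]

theorem thompsonSubgroupOf_top (p : ℕ) :
    thompsonSubgroupOf p (⊤ : Subgroup G) = thompsonSubgroup p G := by
  rw [thompsonSubgroupOf_eq, ← maxEA_eq_maxEAIn_top, thompsonSubgroup]

theorem thompsonSubgroupAOf_top :
    thompsonSubgroupAOf (⊤ : Subgroup G) = thompsonSubgroupA G := by
  rw [thompsonSubgroupAOf_eq, ← maxAb_eq_maxAbIn_top, thompsonSubgroupA]

theorem thompsonSubgroupOf_le (p : ℕ) (P : Subgroup G) : thompsonSubgroupOf p P ≤ P :=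
  map_subtype_le _

theorem thompsonSubgroupAOf_le (P : Subgroup G) : thompsonSubgroupAOf P ≤ P :=
  map_subtype_le _

theorem le_thompsonSubgroupOf {A P : Subgroup G} (hA : A ∈ maxEAIn p P) :
    A ≤ thompsonSubgroupOf p P := by
  rw [thompsonSubgroupOf_eq]; exact le_sSup hA

theorem le_thompsonSubgroupAOf {A P : Subgroup G} (hA : A ∈ maxAbIn P) :
    A ≤ thompsonSubgroupAOf P := by
  rw [thompsonSubgroupAOf_eq]; exact le_sSup hA

theorem map_thompsonSubgroupOf {f : G →* H} (hf : Function.Injective f) (P : Subgroup G) :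
    (thompsonSubgroupOf p P).map f = thompsonSubgroupOf p (P.map f) := by
  rw [thompsonSubgroupOf_eq, thompsonSubgroupOf_eq, map_maxEAIn hf, (gc_map_comap f).l_sSup,
    sSup_image]

theorem map_thompsonSubgroupAOf {f : G →* H} (hf : Function.Injective f) (P : Subgroup G) :
    (thompsonSubgroupAOf P).map f = thompsonSubgroupAOf (P.map f) := by
  rw [thompsonSubgroupAOf_eq, thompsonSubgroupAOf_eq, map_maxAbIn hf, (gc_map_comap f).l_sSup,
    sSup_image]

theorem map_thompsonSubgroup {f : G →* H} (hf : Function.Injective f) :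
    (thompsonSubgroup p G).map f = thompsonSubgroupOf p f.range := by
  rw [← thompsonSubgroupOf_top, map_thompsonSubgroupOf hf, MonoidHom.range_eq_map]

theorem normalizer_le_normalizer_thompsonSubgroupOf (p : ℕ) (P : Subgroup G) :
    normalizer (P : Set G) ≤ normalizer (thompsonSubgroupOf p P : Set G) := by
  intro g hg
  rw [mem_normalizer_iff_map_conj_eq] at hg ⊢
  exact (map_thompsonSubgroupOf (f := (MulAut.conj g).toMonoidHom) (MulAut.conj g).injective P).trans
    (congrArg _ hg)

theorem normalizer_le_normalizer_thompsonSubgroupAOf (P : Subgroup G) :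
    normalizer (P : Set G) ≤ normalizer (thompsonSubgroupAOf P : Set G) := by
  intro g hg
  rw [mem_normalizer_iff_map_conj_eq] at hg ⊢
  exact (map_thompsonSubgroupAOf (f := (MulAut.conj g).toMonoidHom) (MulAut.conj g).injective P).trans
    (congrArg _ hg)

instance thompsonSubgroupCharacteristic (p : ℕ) (G : Type u) [Group G] :
    (thompsonSubgroup p G).Characteristic := by
  refine characteristic_iff_map_eq.mpr fun e => ?_
  rw [map_thompsonSubgroup (f := e.toMonoidHom) e.injective,
    MonoidHom.range_eq_top.mpr e.surjective, thompsonSubgroupOf_top]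

instance thompsonSubgroupACharacteristic (G : Type u) [Group G] :
    (thompsonSubgroupA G).Characteristic := by
  refine characteristic_iff_map_eq.mpr fun e => ?_
  rw [← thompsonSubgroupAOf_top, map_thompsonSubgroupAOf (f := e.toMonoidHom) e.injective,
    Subgroup.map_top_of_surjective _ e.surjective]

/-- If a member of `maxEAIn p P` lies in `T ≤ P`, the members for `T` are those for `P` inside `T`. -/
theorem maxEAIn_of_le {T P : Subgroup G} (hTP : T ≤ P) {A : Subgroup G} (hA : A ∈ maxEAIn p P)
    (hAT : A ≤ T) : maxEAIn p T = {B | B ∈ maxEAIn p P ∧ B ≤ T} := by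
  ext B
  constructor
  · rintro ⟨hBT, hBe, hmax⟩
    exact ⟨⟨hBT.trans hTP, hBe, fun C hC hCe => (hA.2.2 C hC hCe).trans (hmax A hAT hA.2.1)⟩, hBT⟩
  · rintro ⟨hB, hBT⟩
    exact ⟨hBT, hB.2.1, fun C hC hCe => hB.2.2 C (hC.trans hTP) hCe⟩

theorem thompsonSubgroupOf_eq_of_le [Finite G] {T P : Subgroup G} (hTP : T ≤ P)
    (h : thompsonSubgroupOf p P ≤ T) : thompsonSubgroupOf p T = thompsonSubgroupOf p P := by
  obtain ⟨A, hA⟩ := maxEAIn_nonempty p P
  rw [thompsonSubgroupOf_eq p T, thompsonSubgroupOf_eq p P,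
    maxEAIn_of_le hTP hA ((le_thompsonSubgroupOf hA).trans h)]
  congr 1
  ext B
  exact ⟨fun hB => hB.1, fun hB => ⟨hB, (le_thompsonSubgroupOf hB).trans h⟩⟩

theorem maxAbIn_of_le {T P : Subgroup G} (hTP : T ≤ P) {A : Subgroup G} (hA : A ∈ maxAbIn P)
    (hAT : A ≤ T) : maxAbIn T = {B | B ∈ maxAbIn P ∧ B ≤ T} := by
  ext B
  constructor
  · rintro ⟨hBT, hBe, hmax⟩
    exact ⟨⟨hBT.trans hTP, hBe, fun C hC hCe => (hA.2.2 C hC hCe).trans (hmax A hAT hA.2.1)⟩, hBT⟩
  · rintro ⟨hB, hBT⟩
    exact ⟨hBT, hB.2.1, fun C hC hCe => hB.2.2 C (hC.trans hTP) hCe⟩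

theorem thompsonSubgroupAOf_eq_of_le [Finite G] {T P : Subgroup G} (hTP : T ≤ P)
    (h : thompsonSubgroupAOf P ≤ T) : thompsonSubgroupAOf T = thompsonSubgroupAOf P := by
  obtain ⟨A, hA⟩ := maxAbIn_nonempty P
  rw [thompsonSubgroupAOf_eq T, thompsonSubgroupAOf_eq P,
    maxAbIn_of_le hTP hA ((le_thompsonSubgroupAOf hA).trans h)]
  congr 1
  ext B
  exact ⟨fun hB => hB.1, fun hB => ⟨hB, (le_thompsonSubgroupAOf hB).trans h⟩⟩

/-- Elementary abelian subgroups of largest order of a group lie in Sylow subgroups, and conversely the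
largest-order ones of a Sylow subgroup are largest in the group. -/
theorem maxEAIn_sylow [Finite G] [Fact p.Prime] (S : Sylow p G) :
    maxEAIn p (S : Subgroup G) = {A | A ∈ maxElementaryAbelianSubgroups p G ∧ A ≤ S} := by
  rw [maxEA_eq_maxEAIn_top]
  obtain ⟨A, hA⟩ := maxEAIn_nonempty p (⊤ : Subgroup G)
  obtain ⟨T, hT⟩ := (isPGroup_of_isElementaryAbelian hA.2.1).exists_le_sylow
  obtain ⟨g, hg⟩ := MulAction.exists_smul_eq G T S
  have hg' : (T : Subgroup G).map (MulAut.conj g).toMonoidHom = S := by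
    rw [← hg]; rfl
  refine maxEAIn_of_le le_top (A := A.map (MulAut.conj g).toMonoidHom) ?_ (hg' ▸ map_mono hT)
  have := map_maxEAIn (p := p) (f := (MulAut.conj g).toMonoidHom) (MulAut.conj g).injective
    (⊤ : Subgroup G)
  rw [Subgroup.map_top_of_surjective _ (MulAut.conj g).surjective] at this
  rw [this]
  exact ⟨A, hA, rfl⟩

/-- The centre of `J_e(P)`, as a subgroup of the ambient group, in the form used by the definitions. -/
theorem map_inf_centralizer {f : G →* H} (hf : Function.Injective f) (A B : Subgroup G) :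
    (A ⊓ centralizer (B : Set G)).map f = A.map f ⊓ centralizer ((B.map f : Subgroup H) : Set H) := by
  refine le_antisymm ?_ ?_
  · rintro _ ⟨x, hx, rfl⟩
    refine ⟨mem_map_of_mem f hx.1, ?_⟩
    rintro _ ⟨y, hy, rfl⟩
    rw [← map_mul, ← map_mul, mem_centralizer_iff.mp hx.2 y hy]
  · rintro _ ⟨⟨x, hx, rfl⟩, hc⟩
    refine mem_map_of_mem f ⟨hx, fun y hy => hf ?_⟩
    rw [map_mul, map_mul]
    exact hc _ (mem_map_of_mem f hy)

theorem map_omegaCenterThompson {f : G →* H} (hf : Function.Injective f) :
    (omegaCenterThompson p G).map f =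
      omegaOne p (thompsonSubgroupOf p f.range ⊓ centralizer (thompsonSubgroupOf p f.range : Set H)) := by
  rw [omegaCenterThompson, map_omegaOne hf, map_inf_centralizer hf, map_thompsonSubgroup hf]

theorem map_centerThompsonAOf {f : G →* H} (hf : Function.Injective f) (P : Subgroup G) :
    (centerThompsonAOf P).map f = centerThompsonAOf (P.map f) := by
  rw [centerThompsonAOf, centerThompsonAOf, map_inf_centralizer hf, map_thompsonSubgroupAOf hf]

end CfsgLib.PLocal
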