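/-
Small facts on commutator subgroups, products of subgroups and nilpotent actions.
-/
import Cfsg.Agent.PLocal.Thompson
import Cfsg.Agent.Coprime.Basic
import Mathlib.GroupTheory.Nilpotent
set_option autoImplicit false

namespace CfsgLib.PLocal

open Cfsg Subgroup
open scoped commutatorElement

variable {G : Type*} [Group G] {p : ℕ}

theorem commutator_eq_bot_iff_forall {A B : Subgroup G} :
    ⁅A, B⁆ = ⊥ ↔ ∀ a ∈ A, ∀ b ∈ B, a * b = b * a := by
  rw [commutator_eq_bot_iff_le_centralizer]
  exact ⟨fun h a ha b hb => (h ha b hb).symm, fun h a ha b hb => (h a ha b hb).symm⟩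

/-- `[V, A] ≤ V` when `A` normalizes `V`. -/
theorem commutator_le_of_le_normalizer {V A : Subgroup G} (h : A ≤ normalizer (V : Set G)) :
    ⁅V, A⁆ ≤ V :=
  le_normalizer_iff_commutator_le_left.mp h

theorem conj_eq_inv_commutator_mul (v a : G) : a * v * a⁻¹ = ⁅v, a⁆⁻¹ * v := by
  simp [commutatorElement_def, mul_assoc]

/-- Commutators are multiplicative in the first variable on an abelian subgroup. -/
theorem commutatorElement_mul_left_of_abelian {V : Subgroup G} (hV : IsMulCommutative V) {u v a : G}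
    (hu : u ∈ V) (hv : v ∈ V) (ha : a ∈ normalizer (V : Set G)) :
    ⁅u * v, a⁆ = ⁅u, a⁆ * ⁅v, a⁆ := by
  have hua : ⁅u, a⁆ ∈ V := by
    rw [commutatorElement_def, mul_assoc u a, mul_assoc u]
    exact mul_mem hu ((mem_normalizer_iff.mp ha _).mp (inv_mem hu))
  have hva : ⁅v, a⁆ ∈ V := by
    rw [commutatorElement_def, mul_assoc v a, mul_assoc v]
    exact mul_mem hv ((mem_normalizer_iff.mp ha _).mp (inv_mem hv))
  have hc : ∀ x ∈ V, ∀ y ∈ V, x * y = y * x := fun x hx y hy =>
    (le_centralizer_iff_isMulCommutative.mpr hV hy x hx)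
  rw [commutatorElement_mul_left_eq_conj_mul, hc u hu _ hva, mul_assoc, mul_assoc, ← mul_assoc u,
    mul_inv_cancel, one_mul, hc _ hva _ hua]

theorem centralizer_commutator_eq (U A : Subgroup G) :
    centralizer ((⁅U, A⁆ : Subgroup G) : Set G) = centralizer {x : G | ∃ u ∈ U, ∃ a ∈ A, ⁅u, a⁆ = x} := by
  rw [Subgroup.commutator_def, centralizer_closure]

theorem inf_centralizer_mono (V : Subgroup G) {A B : Subgroup G} (h : B ≤ A) :
    V ⊓ centralizer (A : Set G) ≤ V ⊓ centralizer (B : Set G) :=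
  inf_le_inf_left _ (centralizer_le h)

theorem centralizer_sup (A B : Subgroup G) :
    centralizer ((A ⊔ B : Subgroup G) : Set G) = centralizer (A : Set G) ⊓ centralizer (B : Set G) := by
  refine le_antisymm (le_inf (centralizer_le (SetLike.coe_subset_coe.mpr le_sup_left))
    (centralizer_le (SetLike.coe_subset_coe.mpr le_sup_right))) ?_
  rw [le_centralizer_iff]
  exact sup_le (le_centralizer_iff.mp inf_le_left) (le_centralizer_iff.mp inf_le_right)

/-- The product formula for two subgroups, one normalizing the other. -/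
theorem card_sup_mul_card_inf {A B : Subgroup G} (h : A ≤ normalizer (B : Set G)) :
    Nat.card ↥(A ⊔ B) * Nat.card ↥(A ⊓ B) = Nat.card A * Nat.card B := by
  have h1 : Nat.card B * B.relIndex (A ⊔ B) = Nat.card ↥(A ⊔ B) := card_mul_relIndex le_sup_right
  have h2 : Nat.card ↥(A ⊓ B) * (A ⊓ B).relIndex A = Nat.card A := card_mul_relIndex inf_le_left
  rw [inf_relIndex_left] at h2
  have h3 : B.relIndex (A ⊔ B) = B.relIndex A := by
    have e := relIndex_sup_right (A.subgroupOf (normalizer (B : Set G)))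
      (B.subgroupOf (normalizer (B : Set G)))
    rwa [← subgroupOf_sup h le_normalizer, relIndex_subgroupOf (sup_le h le_normalizer),
      relIndex_subgroupOf h] at e
  rw [← h1, ← h2, h3]
  ring

/-- A normal subgroup of a nilpotent group equal to its commutator with the group is trivial. -/
theorem eq_bot_of_le_commutator_top [Group.IsNilpotent G] {X : Subgroup G}
    (h : X ≤ ⁅X, (⊤ : Subgroup G)⁆) : X = ⊥ := by
  obtain ⟨n, hn⟩ := Subgroup.nilpotent_iff_lowerCentralSeries.mp (inferInstance : Group.IsNilpotent G)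
  have : ∀ k, X ≤ (⊤ : Subgroup G).lowerCentralSeries k := by
    intro k
    induction k with
    | zero => simp
    | succ k ih =>
      exact h.trans ((commutator_mono ih le_rfl).trans (by rw [Subgroup.lowerCentralSeries_succ]))
  exact le_bot_iff.mp ((this n).trans hn.le)

/-- If `A` normalizes a `p`-group `X`, the `p`-th powers of `A` centralize `X` and `X ≤ [X, A]`, then `X = 1`. -/
theorem eq_bot_of_le_commutator [Finite G] [Fact p.Prime] {X A : Subgroup G} (hX : IsPGroup p X)
    (hA : A ≤ normalizer (X : Set G)) (hpow : ∀ a ∈ A, a ^ p ∈ centralizer (X : Set G))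
    (h : X ≤ ⁅X, A⁆) : X = ⊥ := by
  let S : Sylow p A := default
  let S' : Subgroup G := (S : Subgroup A).map A.subtype
  have hS'A : S' ≤ A := map_subtype_le _
  have hsplit : ∀ a ∈ A, ∃ s ∈ S', ∃ c ∈ centralizer (X : Set G), a = s * c := by
    intro a ha
    let C : Subgroup A := (centralizer (X : Set G)).subgroupOf A
    have hCn : C.Normal := by
      refine ⟨fun c hc g => ?_⟩
      have h1 := (Subgroup.normal_subgroupOf_centralizer_normalizer (X : Set G)).conj_mem
        ⟨(c : G), hA c.2⟩ hc ⟨(g : G), hA g.2⟩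
      exact h1
    have hp : IsPGroup p (A ⧸ C) := by
      intro q
      obtain ⟨x, rfl⟩ := QuotientGroup.mk'_surjective C q
      refine ⟨1, ?_⟩
      rw [pow_one, ← map_pow, QuotientGroup.mk'_apply, QuotientGroup.eq_one_iff]
      exact hpow x x.2
    let Q := S.mapSurjective (QuotientGroup.mk'_surjective C)
    have htop : (Q : Subgroup (A ⧸ C)) = ⊤ := (Q.is_maximal' (hp.to_subgroup ⊤) le_top).symm
    have : QuotientGroup.mk' C ⟨a, ha⟩ ∈ (Q : Subgroup (A ⧸ C)) := htop ▸ mem_top _
    obtain ⟨s, hs, hsa⟩ := this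
    obtain ⟨c, hc, hcs⟩ := (QuotientGroup.mk'_eq_mk' (N := C)).mp hsa
    exact ⟨s, ⟨s, hs, rfl⟩, c, hc, congrArg Subtype.val hcs.symm⟩
  have hcomm : ⁅X, A⁆ ≤ ⁅X, S'⁆ := by
    rw [commutator_le]
    intro x hx a ha
    obtain ⟨s, hs, c, hc, rfl⟩ := hsplit a ha
    rw [commutatorElement_mul_right_eq_mul_conj,
      commutatorElement_eq_one_iff_mul_comm.mpr (mem_centralizer_iff.mp hc x hx), mul_one,
      mul_inv_cancel_right]
    exact commutator_mem_commutator hx hs
  have hK : IsPGroup p ↥(S' ⊔ X) :=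
    IsPGroup.to_sup_of_normal_right' (S.isPGroup'.map _) hX (hS'A.trans hA)
  have : Group.IsNilpotent ↥(S' ⊔ X) := hK.isNilpotent
  have h1 : X.subgroupOf (S' ⊔ X) = ⊥ := by
    refine eq_bot_of_le_commutator_top ?_
    intro x hx
    have h2 : (x : G) ∈ ⁅X, S'⁆ := hcomm (h hx)
    have h3 : ⁅X, S'⁆ ≤ ⁅X.subgroupOf (S' ⊔ X), (⊤ : Subgroup ↥(S' ⊔ X))⁆.map (S' ⊔ X).subtype := by
      rw [map_commutator, subgroupOf_map_subtype, inf_eq_left.mpr le_sup_right,
        ← MonoidHom.range_eq_map, range_subtype]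
      exact commutator_mono le_rfl le_sup_left
    obtain ⟨y, hy, hyx⟩ := h3 h2
    rwa [Subtype.ext hyx] at hy
  rw [subgroupOf_eq_bot] at h1
  exact disjoint_self.mp (h1.mono_right le_sup_right)

end CfsgLib.PLocal
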