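/-
`p`-soluble groups: closure properties, cores, and the Hall-Higman Lemma 1.2.3.
-/
import Cfsg.Agent.PLocal.Cores
import Cfsg.Prelude.Def_Local
set_option autoImplicit false

namespace CfsgLib.PLocal

open Cfsg Subgroup

variable {G : Type*} [Group G] {H : Type*} [Group H] {p : ℕ}

theorem coprime_or_pow_of_dvd [Fact p.Prime] {a b : ℕ} (hab : a ∣ b)
    (hb : (∃ m : ℕ, b = p ^ m) ∨ b.Coprime p) : (∃ m : ℕ, a = p ^ m) ∨ a.Coprime p := by
  rcases hb with ⟨m, rfl⟩ | hb
  · obtain ⟨i, _, rfl⟩ := (Nat.dvd_prime_pow Fact.out).mp hab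
    exact Or.inl ⟨i, rfl⟩
  · exact Or.inr (hb.coprime_dvd_left hab)

/-- A homomorphic image of a `p`-soluble group is `p`-soluble. -/
theorem isPSolvable_of_surjective [Fact p.Prime] (hG : IsPSolvable p G) {f : G →* H}
    (hf : Function.Surjective f) : IsPSolvable p H := by
  obtain ⟨n, C, h0, hlast, hmono, hnorm, hfac⟩ := hG
  refine ⟨n, fun i => (C i).map f, by simp [h0], ?_, fun i j h => map_mono (hmono h),
    fun i => (hnorm i).map f hf, fun i => ?_⟩
  · simp [hlast, map_top_of_surjective _ hf]
  · have := hnorm i.castSucc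
    exact coprime_or_pow_of_dvd (relIndex_map_dvd f _ _) (hfac i)

theorem isPSolvable_congr [Fact p.Prime] (hG : IsPSolvable p G) (e : G ≃* H) : IsPSolvable p H :=
  isPSolvable_of_surjective hG (f := e.toMonoidHom) e.surjective

theorem isPSolvable_quotient [Fact p.Prime] (hG : IsPSolvable p G) (N : Subgroup G) [N.Normal] :
    IsPSolvable p (G ⧸ N) :=
  isPSolvable_of_surjective hG (QuotientGroup.mk'_surjective N)

/-- A subgroup of a `p`-soluble group is `p`-soluble. -/
theorem isPSolvable_subgroup [Fact p.Prime] (hG : IsPSolvable p G) (K : Subgroup G) :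
    IsPSolvable p K := by
  obtain ⟨n, C, h0, hlast, hmono, hnorm, hfac⟩ := hG
  refine ⟨n, fun i => (C i).subgroupOf K, by simp [h0], by simp [hlast],
    fun i j h => comap_mono (hmono h), fun i => ?_, fun i => ?_⟩
  · have := hnorm i
    exact (hnorm i).subgroupOf K
  · have := hnorm i.castSucc
    refine coprime_or_pow_of_dvd ?_ (hfac i)
    show ((C i.castSucc).comap K.subtype).relIndex ((C i.succ).comap K.subtype) ∣ _
    rw [relIndex_comap]
    exact relIndex_dvd_of_le_right_of_normal _ (map_comap_le _ _)

theorem isPSolvable_of_isPGroup [Fact p.Prime] [Finite G] (h : IsPGroup p G) :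
    IsPSolvable p G := by
  obtain ⟨k, hk⟩ := IsPGroup.iff_card.mp h
  refine ⟨1, ![⊥, ⊤], rfl, rfl, ?_, ?_, fun i => Or.inl ⟨k, ?_⟩⟩
  · rw [Fin.monotone_iff_le_succ]; intro i; fin_cases i; simp
  · intro i; fin_cases i <;> simp
  · fin_cases i; simpa using hk

theorem isPSolvable_of_coprime (h : (Nat.card G).Coprime p) : IsPSolvable p G := by
  refine ⟨1, ![⊥, ⊤], rfl, rfl, ?_, ?_, fun i => Or.inr ?_⟩
  · rw [Fin.monotone_iff_le_succ]; intro i; fin_cases i; simp
  · intro i; fin_cases i <;> simp
  · fin_cases i; simpa using h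

/-- A nontrivial `p`-soluble group has a nontrivial `p`-core or a nontrivial `p'`-core. -/
theorem pCore_ne_bot_or_of_isPSolvable [Fact p.Prime] [Finite G] [Nontrivial G]
    (hG : IsPSolvable p G) : pCore p G ≠ ⊥ ∨ pPrimeCore p G ≠ ⊥ := by
  obtain ⟨n, C, h0, hlast, hmono, hnorm, hfac⟩ := hG
  by_contra hcon
  push Not at hcon
  have hall : ∀ i, C i = ⊥ := by
    intro i
    induction i using Fin.induction with
    | zero => exact h0
    | succ i ih =>
      have := hnorm i.succ
      rcases hfac i with ⟨m, hm⟩ | hm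
      · rw [ih, relIndex_bot_left] at hm
        exact le_bot_iff.mp (hcon.1 ▸ le_pCore (IsPGroup.of_card hm))
      · rw [ih, relIndex_bot_left] at hm
        exact le_bot_iff.mp (hcon.2 ▸ le_pPrimeCore hm)
  exact top_ne_bot (hlast ▸ hall (Fin.last n))

/-- If every proper quotient of a finite group has a nontrivial `p`-core or `p'`-core, the group is
`p`-soluble. -/
theorem isPSolvable_of_forall_quotient [Fact p.Prime] [Finite G]
    (h : ∀ (M : Subgroup G) [M.Normal], M ≠ ⊤ →
      pCore p (G ⧸ M) ≠ ⊥ ∨ pPrimeCore p (G ⧸ M) ≠ ⊥) : IsPSolvable p G := by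
  suffices key : ∀ k : ℕ, ∀ (M : Subgroup G), M.Normal → M.index = k →
      ∃ (n : ℕ) (C : Fin (n + 1) → Subgroup G),
        C 0 = M ∧ C (Fin.last n) = ⊤ ∧ Monotone C ∧ (∀ i, (C i).Normal) ∧
        ∀ i : Fin n, (∃ m : ℕ, (C i.castSucc).relIndex (C i.succ) = p ^ m) ∨
          ((C i.castSucc).relIndex (C i.succ)).Coprime p by
    exact key _ ⊥ inferInstance rfl
  intro k
  induction k using Nat.strongRecOn with
  | ind k ih =>
    intro M hM hk
    by_cases hMtop : M = ⊤
    · refine ⟨0, fun _ => ⊤, hMtop.symm, rfl, monotone_const, fun _ => inferInstance, fun i => i.elim0⟩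
    -- pick the next term
    have hstep : ∃ K : Subgroup (G ⧸ M), K.Normal ∧ K ≠ ⊥ ∧
        ((∃ m : ℕ, Nat.card K = p ^ m) ∨ (Nat.card K).Coprime p) := by
      rcases h M hMtop with h1 | h1
      · exact ⟨_, inferInstance, h1, Or.inl (IsPGroup.iff_card.mp (isPGroup_pCore p _))⟩
      · exact ⟨_, inferInstance, h1, Or.inr (coprime_card_pPrimeCore p _)⟩
    obtain ⟨K, hK, hKbot, hKcard⟩ := hstep
    let M' : Subgroup G := K.comap (QuotientGroup.mk' M)
    have hMM' : M ≤ M' := by
      have := comap_mono (f := QuotientGroup.mk' M) (bot_le (a := K))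
      rwa [MonoidHom.comap_bot, QuotientGroup.ker_mk'] at this
    have hlt : M < M' := by
      refine lt_of_le_of_ne hMM' fun hEq => hKbot ?_
      have h2 : K = M'.map (QuotientGroup.mk' M) :=
        (map_comap_eq_self_of_surjective (QuotientGroup.mk'_surjective _) K).symm
      rw [h2, ← hEq, eq_bot_iff, map_le_iff_le_comap, MonoidHom.comap_bot, QuotientGroup.ker_mk']
    have hrel : M.relIndex M' = Nat.card K := by
      have : M = (⊥ : Subgroup (G ⧸ M)).comap (QuotientGroup.mk' M) := by
        rw [MonoidHom.comap_bot, QuotientGroup.ker_mk']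
      nth_rewrite 1 [this]
      rw [relIndex_comap, map_comap_eq_self_of_surjective (QuotientGroup.mk'_surjective _),
        relIndex_bot_left]
    obtain ⟨n, C, h0, hlast, hmono, hnorm, hfac⟩ :=
      ih M'.index (hk ▸ index_strictAnti hlt) M' (hK.comap _) rfl
    refine ⟨n + 1, Fin.cons M C, rfl, ?_, ?_, ?_, ?_⟩
    · simp [← Fin.succ_last, hlast]
    · rw [Fin.monotone_iff_le_succ]
      intro i
      induction i using Fin.cases with
      | zero => simp [h0, hMM']
      | succ i => simpa [← Fin.succ_castSucc] using hmono (Fin.castSucc_le_succ i)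
    · intro i
      induction i using Fin.cases with
      | zero => simpa using hM
      | succ i => simpa using hnorm i
    · intro i
      induction i using Fin.cases with
      | zero => simpa [h0, hrel] using hKcard
      | succ i => simpa [← Fin.succ_castSucc] using hfac i

/-- An extension of a `p`-soluble group by a `p`-soluble group is `p`-soluble. -/
theorem isPSolvable_of_extension [Fact p.Prime] [Finite G] (N : Subgroup G) [N.Normal]
    (hN : IsPSolvable p N) (hQ : IsPSolvable p (G ⧸ N)) : IsPSolvable p G := by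
  refine isPSolvable_of_forall_quotient fun M _ hM => ?_
  let π := QuotientGroup.mk' M
  by_cases hNM : N ≤ M
  · have hf : Function.Surjective (QuotientGroup.map N M (MonoidHom.id G) hNM) := by
      intro x
      obtain ⟨g, rfl⟩ := QuotientGroup.mk'_surjective M x
      exact ⟨(g : G ⧸ N), rfl⟩
    have : Nontrivial (G ⧸ M) := QuotientGroup.nontrivial_iff.mpr hM
    exact pCore_ne_bot_or_of_isPSolvable (isPSolvable_of_surjective hQ hf)
  · let N' : Subgroup (G ⧸ M) := N.map π
    have hN'n : N'.Normal := Subgroup.Normal.map inferInstance π (QuotientGroup.mk'_surjective M)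
    have hN' : IsPSolvable p N' :=
      isPSolvable_of_surjective hN (f := π.subgroupMap N) (π.subgroupMap_surjective N)
    have : Nontrivial N' := by
      rw [nontrivial_iff_ne_bot]
      intro hbot
      rw [eq_bot_iff, map_le_iff_le_comap, MonoidHom.comap_bot, QuotientGroup.ker_mk'] at hbot
      exact hNM hbot
    rcases pCore_ne_bot_or_of_isPSolvable hN' with h | h
    · left
      intro hbot
      have := pCore_map_subtype_le (p := p) N'
      rw [hbot, le_bot_iff, map_eq_bot_iff_of_injective _ N'.subtype_injective] at this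
      exact h this
    · right
      intro hbot
      have := pPrimeCore_map_subtype_le (p := p) N'
      rw [hbot, le_bot_iff, map_eq_bot_iff_of_injective _ N'.subtype_injective] at this
      exact h this

/-- Hall-Higman Lemma 1.2.3 when only the centralizer of `O_p(G)` is assumed `p`-soluble. -/
theorem centralizer_pCore_le_of_isPSolvable [Fact p.Prime] [Finite G]
    (hG : IsPSolvable p ↥(centralizer (pCore p G : Set G)))
    (hO : pPrimeCore p G = ⊥) : centralizer (pCore p G : Set G) ≤ pCore p G := by
  set P := pCore p G with hP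
  set C := centralizer (P : Set G) with hC
  set Z := C ⊓ P with hZdef
  by_contra hcon
  let π := QuotientGroup.mk' Z
  let C' : Subgroup (G ⧸ Z) := C.map π
  have hC'n : C'.Normal := Subgroup.Normal.map inferInstance π (QuotientGroup.mk'_surjective Z)
  have : Nontrivial C' := by
    rw [nontrivial_iff_ne_bot]
    intro hbot
    rw [eq_bot_iff, map_le_iff_le_comap, MonoidHom.comap_bot, QuotientGroup.ker_mk'] at hbot
    exact hcon (hbot.trans inf_le_right)
  have hC' : IsPSolvable p C' :=
    isPSolvable_of_surjective hG (f := π.subgroupMap C) (π.subgroupMap_surjective C)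
  -- a normal subgroup `D` of `G` with `Z < D ≤ C`
  suffices key : ∀ D' : Subgroup (G ⧸ Z), D'.Normal → D' ≤ C' →
      (IsPGroup p D' ∨ (Nat.card D').Coprime p) → D' = ⊥ by
    rcases pCore_ne_bot_or_of_isPSolvable hC' with h | h
    · refine h ((map_eq_bot_iff_of_injective _ C'.subtype_injective).mp
        (key _ (normal_map_subtype C' _) (map_subtype_le _) (Or.inl ((isPGroup_pCore p C').map _))))
    · refine h ((map_eq_bot_iff_of_injective _ C'.subtype_injective).mp
        (key _ (normal_map_subtype C' _) (map_subtype_le _) (Or.inr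
          (Nat.Coprime.coprime_dvd_left (card_map_dvd _ _) (coprime_card_pPrimeCore p C')))))
  intro D' hD'n hD'C hD'
  let D : Subgroup G := D'.comap π
  have hDC : D ≤ C := by
    refine (comap_mono hD'C).trans ?_
    rw [comap_map_eq, QuotientGroup.ker_mk']
    exact sup_le le_rfl inf_le_left
  have hZD : Z ≤ D := by
    have := comap_mono (f := π) (bot_le (a := D'))
    rwa [MonoidHom.comap_bot, QuotientGroup.ker_mk'] at this
  have hDn : D.Normal := hD'n.comap π
  have hZp : IsPGroup p Z := (isPGroup_pCore p G).to_inf_right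
  suffices hDZ : D ≤ Z by
    rw [eq_bot_iff, ← map_comap_eq_self_of_surjective (QuotientGroup.mk'_surjective Z) D',
      map_le_iff_le_comap, MonoidHom.comap_bot, QuotientGroup.ker_mk']
    exact hDZ
  rcases hD' with hp' | hp'
  · refine le_inf hDC (le_pCore (hp'.comap_of_ker_isPGroup π ?_))
    rwa [QuotientGroup.ker_mk']
  · -- Schur-Zassenhaus: `Z` is central in `D` of order prime to its index
    let Z' : Subgroup D := Z.subgroupOf D
    have hidx : Z'.index.Coprime p := by
      have h1 : Z'.index = Z.relIndex D := rfl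
      have : Z = (⊥ : Subgroup (G ⧸ Z)).comap π := by
        rw [MonoidHom.comap_bot, QuotientGroup.ker_mk']
      rw [h1]
      nth_rewrite 1 [this]
      rw [relIndex_comap, map_comap_eq_self_of_surjective (QuotientGroup.mk'_surjective _),
        relIndex_bot_left]
      exact hp'
    have hZ'p : IsPGroup p Z' := hZp.comap_subtype
    obtain ⟨m, hm⟩ := IsPGroup.iff_card.mp hZ'p
    obtain ⟨K, hK⟩ := exists_left_complement'_of_coprime (N := Z')
      (by rw [hm]; exact hidx.symm.pow_left m)
    have hcomm : ∀ z ∈ Z', ∀ x : D, z * x = x * z := by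
      intro z hz x
      have h1 : (z : G) ∈ P := hz.2
      have h2 : (x : G) ∈ C := hDC x.2
      exact Subtype.ext (mem_centralizer_iff.mp h2 _ h1)
    have hKn : K.Normal := by
      constructor
      intro k hk g
      have hg : g ∈ K ⊔ Z' := hK.sup_eq_top ▸ mem_top g
      obtain ⟨a, ha, z, hz, rfl⟩ := mem_sup_of_normal_right.mp hg
      have : a * z * k * (a * z)⁻¹ = a * k * a⁻¹ := by
        rw [mul_inv_rev, mul_assoc a z k, hcomm z hz k]
        group
      rw [this]
      exact mul_mem (mul_mem ha hk) (inv_mem ha)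
    have hKp : (Nat.card K).Coprime p := by
      rw [← hK.index_eq_card]; exact hidx
    have hKbot : K = ⊥ := by
      have h1 : (pPrimeCore p D).map D.subtype = ⊥ :=
        le_bot_iff.mp (hO ▸ pPrimeCore_map_subtype_le D)
      rw [map_eq_bot_iff_of_injective _ D.subtype_injective] at h1
      exact le_bot_iff.mp (h1 ▸ le_pPrimeCore hKp)
    intro x hx
    have : (⟨x, hx⟩ : D) ∈ K ⊔ Z' := hK.sup_eq_top ▸ mem_top _
    rw [hKbot, bot_sup_eq] at this
    exact this

/-- A finite soluble group is `p`-soluble. -/
theorem isPSolvable_of_isSolvable [Fact p.Prime] [Finite G] [Group.IsSolvable G] :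
    IsPSolvable p G := by
  refine isPSolvable_of_forall_quotient fun M _ hM => ?_
  have : Nontrivial (G ⧸ M) := QuotientGroup.nontrivial_iff.mpr hM
  -- a nontrivial abelian normal subgroup
  obtain ⟨A, hAn, hA, hAbot⟩ :
      ∃ A : Subgroup (G ⧸ M), A.Normal ∧ IsMulCommutative A ∧ A ≠ ⊥ := by
    have hsol : ∃ n, derivedSeries (G ⧸ M) n = ⊥ := (Group.isSolvable_def (G ⧸ M)).mp inferInstance
    classical
    have h0 : Nat.find hsol ≠ 0 := by
      intro h
      have := Nat.find_spec hsol
      rw [h, derivedSeries_zero] at this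
      exact top_ne_bot this
    obtain ⟨k, hk⟩ := Nat.exists_eq_succ_of_ne_zero h0
    refine ⟨derivedSeries (G ⧸ M) k, inferInstance, ?_, Nat.find_min hsol (by omega)⟩
    rw [← Subgroup.commutator_self_eq_bot_iff, ← derivedSeries_succ]
    have := Nat.find_spec hsol
    rwa [hk] at this
  let P : Sylow p A := default
  have hPn : (P : Subgroup A).Normal := Subgroup.normal_of_isMulCommutative _
  have hPc : (P : Subgroup A).Characteristic := Sylow.characteristic_of_normal P hPn
  by_cases hP : (P : Subgroup A) = ⊥
  · right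
    intro hbot
    refine hAbot (le_bot_iff.mp (hbot ▸ le_pPrimeCore ?_))
    have := P.not_dvd_index
    rw [hP, index_bot] at this
    exact not_dvd_iff_coprime.mpr this
  · left
    intro hbot
    have hN := normal_map_subtype A (P : Subgroup A)
    have := le_bot_iff.mp (hbot ▸ le_pCore (P.isPGroup'.map A.subtype))
    exact hP ((map_eq_bot_iff_of_injective _ A.subtype_injective).mp this)

/-- **Hall-Higman Lemma 1.2.3**: in a `p`-soluble group with `O_{p'}(G) = 1`, the centralizer of
`O_p(G)` lies in `O_p(G)`. -/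
theorem centralizer_pCore_le [Fact p.Prime] [Finite G] (hG : IsPSolvable p G)
    (hO : pPrimeCore p G = ⊥) : centralizer (pCore p G : Set G) ≤ pCore p G :=
  centralizer_pCore_le_of_isPSolvable (isPSolvable_subgroup hG _) hO

end CfsgLib.PLocal
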