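/-
`O_{p',p}(G)`, normalizers and centralizers of `p`-subgroups modulo a normal `p'`-subgroup,
and `p`-constraint.
-/
import Cfsg.Agent.PLocal.PSolvable
set_option autoImplicit false

namespace CfsgLib.PLocal

open Cfsg Subgroup

variable {G : Type*} [Group G] {p : ℕ}

/-! ### Normalizers and centralizers of `p`-subgroups in quotients by `p'`-groups -/

/-- In a finite group, if `P` is a `p`-subgroup and `N` is normal of order prime to `p`, then the
normalizer of the image of `P` in `G/N` is the image of the normalizer of `P`. -/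
theorem normalizer_map_mk'_eq [Finite G] [Fact p.Prime] (N : Subgroup G) [N.Normal]
    (hN : (Nat.card N).Coprime p) {P : Subgroup G} (hP : IsPGroup p P) :
    normalizer (P.map (QuotientGroup.mk' N) : Set (G ⧸ N)) =
      (normalizer (P : Set G)).map (QuotientGroup.mk' N) := by
  refine le_antisymm ?_ (le_normalizer_map _)
  intro q hq
  obtain ⟨g, rfl⟩ := QuotientGroup.mk'_surjective N q
  let K : Subgroup G := P ⊔ N
  have hKdef : K = (P.map (QuotientGroup.mk' N)).comap (QuotientGroup.mk' N) := by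
    rw [comap_map_eq, QuotientGroup.ker_mk']
  have hgK : g ∈ normalizer (K : Set G) := by
    rw [hKdef]
    exact le_normalizer_comap _ hq
  have hidx : ¬ p ∣ (P.subgroupOf K).index := by
    rw [← not_dvd_iff_coprime]
    refine hN.coprime_dvd_left ?_
    show P.relIndex K ∣ Nat.card N
    have h1 : Nat.card P * P.relIndex K = Nat.card K := card_mul_relIndex le_sup_left
    have h2 : Nat.card K ∣ Nat.card P * Nat.card N := card_sup_dvd_mul P N
    rw [← h1] at h2
    exact Nat.dvd_of_mul_dvd_mul_left Nat.card_pos h2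
  let PK : Sylow p K := (hP.comap_subtype (K := K)).toSylow hidx
  let φ : MulAut K :=
    { toFun := fun x => ⟨g * x * g⁻¹, (mem_normalizer_iff.mp hgK x).mp x.2⟩
      invFun := fun x => ⟨g⁻¹ * x * g, (mem_normalizer_iff''.mp hgK x).mp x.2⟩
      left_inv := fun x => by ext; simp [mul_assoc]
      right_inv := fun x => by ext; simp [mul_assoc]
      map_mul' := fun x y => by ext; simp [mul_assoc] }
  obtain ⟨k, hk⟩ := MulAction.exists_smul_eq K PK (φ • PK)
  have hconj : ∀ x : G, x ∈ P → (g⁻¹ * k) * x * (g⁻¹ * k)⁻¹ ∈ P := by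
    intro x hx
    have hxK : x ∈ K := le_sup_left (b := N) hx
    have h1 : (MulAut.conj k) ⟨x, hxK⟩ ∈ ((k • PK : Sylow p K) : Subgroup K) := by
      rw [Sylow.coe_subgroup_smul]
      exact smul_mem_pointwise_smul _ (MulAut.conj k) (PK : Subgroup K) (show (⟨x, hxK⟩ : K) ∈ PK from hx)
    rw [hk, Sylow.pointwise_smul_def, mem_smul_pointwise_iff_exists] at h1
    obtain ⟨y, hy, hyx⟩ := h1
    have h2 : g * (y : G) * g⁻¹ = (k : G) * x * (k : G)⁻¹ := congrArg Subtype.val hyx
    have h3 : (y : G) = g⁻¹ * k * x * (g⁻¹ * k)⁻¹ := by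
      calc (y : G) = g⁻¹ * (g * y * g⁻¹) * g := by group
        _ = _ := by rw [h2]; group
    rw [← h3]
    exact hy
  have hu : g⁻¹ * k ∈ normalizer (P : Set G) := by
    rw [mem_normalizer_iff_map_conj_eq]
    refine eq_of_le_of_card_ge ?_ ?_
    · rintro _ ⟨x, hx, rfl⟩
      exact hconj x hx
    · exact (Nat.card_congr (equivMapOfInjective P _ (MulAut.conj (g⁻¹ * (k : G))).injective).toEquiv).le
  obtain ⟨a, ha, n, hn, hkan⟩ := mem_sup_of_normal_right.mp k.2
  refine ⟨a * (g⁻¹ * k)⁻¹, mul_mem (le_normalizer ha) (inv_mem hu), ?_⟩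
  refine (QuotientGroup.mk'_eq_mk' (N := N)).mpr ⟨?_, ?_, ?_⟩
  · exact (a * (g⁻¹ * (k : G))⁻¹)⁻¹ * g
  · have : (a * (g⁻¹ * (k : G))⁻¹)⁻¹ * g = g⁻¹ * (a * n * a⁻¹) * g := by
      rw [← hkan]; group
    rw [this]
    have h1 := Subgroup.Normal.conj_mem inferInstance (a * n * a⁻¹)
      (Subgroup.Normal.conj_mem inferInstance n hn a) g⁻¹
    simpa using h1
  · group

/-- In a finite group, if `P` is a `p`-subgroup and `N` is normal of order prime to `p`, then the
centralizer of the image of `P` in `G/N` is the image of the centralizer of `P`. -/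
theorem centralizer_map_mk'_eq [Finite G] [Fact p.Prime] (N : Subgroup G) [N.Normal]
    (hN : (Nat.card N).Coprime p) {P : Subgroup G} (hP : IsPGroup p P) :
    centralizer (P.map (QuotientGroup.mk' N) : Set (G ⧸ N)) =
      (centralizer (P : Set G)).map (QuotientGroup.mk' N) := by
  refine le_antisymm ?_ ?_
  · intro q hq
    have hq' : q ∈ (normalizer (P : Set G)).map (QuotientGroup.mk' N) := by
      rw [← normalizer_map_mk'_eq N hN hP]
      exact centralizer_le_normalizer _ hq
    obtain ⟨g, hg, rfl⟩ := hq'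
    refine ⟨g, ?_, rfl⟩
    show g ∈ centralizer (P : Set G)
    rw [mem_centralizer_iff]
    intro x hx
    have h1 : QuotientGroup.mk' N (x * g * x⁻¹ * g⁻¹) = 1 := by
      rw [map_mul, map_mul, map_mul, mem_centralizer_iff.mp hq _ (mem_map_of_mem _ hx)]
      simp
    have h2 : x * g * x⁻¹ * g⁻¹ ∈ P ⊓ N := by
      refine ⟨?_, (QuotientGroup.eq_one_iff _).mp h1⟩
      have := (mem_normalizer_iff.mp hg x⁻¹).mp (inv_mem hx)
      rw [mul_assoc x, mul_assoc x]
      exact mul_mem hx this
    rw [disjoint_of_isPGroup_of_coprime hP hN, mem_bot, mul_inv_eq_one, mul_inv_eq_iff_eq_mul] at h2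
    exact h2
  · refine (map_centralizer_le_centralizer_image _ _).trans ?_
    rw [coe_map]

/-! ### `O_{p',p}(G)` -/

instance pPrimePCoreNormal (p : ℕ) (G : Type*) [Group G] : (pPrimePCore p G).Normal :=
  Subgroup.Normal.comap inferInstance _

theorem pPrimeCore_le_pPrimePCore (p : ℕ) (G : Type*) [Group G] :
    pPrimeCore p G ≤ pPrimePCore p G := by
  intro x hx
  rw [pPrimePCore, mem_comap, QuotientGroup.mk'_apply, (QuotientGroup.eq_one_iff x).mpr hx]
  exact one_mem _

theorem map_pPrimePCore (p : ℕ) (G : Type*) [Group G] :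
    (pPrimePCore p G).map (QuotientGroup.mk' (pPrimeCore p G)) = pCore p (G ⧸ pPrimeCore p G) :=
  map_comap_eq_self_of_surjective (QuotientGroup.mk'_surjective _) _

theorem pCore_le_pPrimePCore (p : ℕ) (G : Type*) [Group G] : pCore p G ≤ pPrimePCore p G :=
  map_le_iff_le_comap.mp (map_pCore_le_of_surjective (QuotientGroup.mk'_surjective _))

theorem pPrimePCore_eq_pCore {G : Type*} [Group G] {p : ℕ} (h : pPrimeCore p G = ⊥) :
    pPrimePCore p G = pCore p G :=
  comap_pCore_quotient _ (h ▸ IsPGroup.of_bot)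

theorem relIndex_pPrimeCore_pPrimePCore [Finite G] [Fact p.Prime] :
    ∃ k, (pPrimeCore p G).relIndex (pPrimePCore p G) = p ^ k := by
  have h := relIndex_ker (K := pPrimePCore p G) (QuotientGroup.mk' (pPrimeCore p G))
  rw [QuotientGroup.ker_mk', map_pPrimePCore] at h
  obtain ⟨k, hk⟩ := IsPGroup.iff_card.mp (isPGroup_pCore p (G ⧸ pPrimeCore p G))
  exact ⟨k, h.trans hk⟩

/-- A `p`-subgroup of `O_{p',p}(G)` whose index there is prime to `p` maps onto `O_p(G/O_{p'}(G))`. -/
theorem map_sylow_pPrimePCore [Finite G] [Fact p.Prime] (P : Sylow p (pPrimePCore p G)) :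
    ((P : Subgroup (pPrimePCore p G)).map (pPrimePCore p G).subtype).map
        (QuotientGroup.mk' (pPrimeCore p G)) = pCore p (G ⧸ pPrimeCore p G) := by
  let T := pPrimePCore p G
  let f : T →* ↥(T.map (QuotientGroup.mk' (pPrimeCore p G))) :=
    (QuotientGroup.mk' (pPrimeCore p G)).subgroupMap T
  have hf : Function.Surjective f := MonoidHom.subgroupMap_surjective _ T
  let Q := P.mapSurjective hf
  have hp : IsPGroup p ↥(T.map (QuotientGroup.mk' (pPrimeCore p G))) := by
    rw [map_pPrimePCore]; exact isPGroup_pCore _ _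
  have htop : (Q : Subgroup ↥(T.map (QuotientGroup.mk' (pPrimeCore p G)))) = ⊤ := (Q.is_maximal' (hp.to_subgroup ⊤) le_top).symm
  refine le_antisymm ?_ ?_
  · rw [← map_pPrimePCore]; exact map_mono (map_subtype_le _)
  · rw [← map_pPrimePCore]
    intro x hx
    have : (⟨x, hx⟩ : ↥(T.map (QuotientGroup.mk' (pPrimeCore p G)))) ∈ (Q : Subgroup _) :=
      htop ▸ mem_top _
    obtain ⟨y, hy, hyx⟩ := this
    exact ⟨y, ⟨y, hy, rfl⟩, congrArg Subtype.val hyx⟩

theorem sylow_pPrimePCore_sup [Finite G] [Fact p.Prime] (P : Sylow p (pPrimePCore p G)) :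
    (P : Subgroup (pPrimePCore p G)).map (pPrimePCore p G).subtype ⊔ pPrimeCore p G =
      pPrimePCore p G := by
  have h := congrArg (comap (QuotientGroup.mk' (pPrimeCore p G))) (map_sylow_pPrimePCore P)
  rw [comap_map_eq, QuotientGroup.ker_mk'] at h
  exact h

/-- Frattini argument for `O_{p',p}(G)`. -/
theorem normalizer_sylow_pPrimePCore_sup [Finite G] [Fact p.Prime]
    (P : Sylow p (pPrimePCore p G)) :
    normalizer (((P : Subgroup (pPrimePCore p G)).map (pPrimePCore p G).subtype : Subgroup G) : Set G) ⊔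
      pPrimeCore p G = ⊤ := by
  have h := Sylow.normalizer_sup_eq_top P
  rw [← top_le_iff, ← h]
  refine sup_le le_sup_left ?_
  conv_lhs => rw [← sylow_pPrimePCore_sup P]
  exact sup_le_sup_right le_normalizer _

/-! ### `p`-constraint -/

/-- `G` is `p`-constrained iff in `G/O_{p'}(G)` the `p`-core contains its centralizer. -/
theorem isPConstrained_iff [Finite G] [Fact p.Prime] :
    IsPConstrained p G ↔
      centralizer (pCore p (G ⧸ pPrimeCore p G) : Set (G ⧸ pPrimeCore p G)) ≤
        pCore p (G ⧸ pPrimeCore p G) := by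
  constructor
  · intro h
    let P : Sylow p (pPrimePCore p G) := default
    have hC := map_mono (f := QuotientGroup.mk' (pPrimeCore p G)) (h P)
    rw [← centralizer_map_mk'_eq _ (coprime_card_pPrimeCore p G) (P.isPGroup'.map _),
      map_sylow_pPrimePCore P, map_pPrimePCore] at hC
    exact hC
  · intro h P
    rw [← map_sylow_pPrimePCore P,
      centralizer_map_mk'_eq _ (coprime_card_pPrimeCore p G) (P.isPGroup'.map _),
      map_sylow_pPrimePCore P] at h
    exact map_le_iff_le_comap.mp h

theorem isPConstrained_congr {H : Type*} [Group H] [Finite G] [Fact p.Prime] (e : G ≃* H)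
    (h : IsPConstrained p G) : IsPConstrained p H := by
  have : Finite H := Finite.of_equiv G e.toEquiv
  rw [isPConstrained_iff] at h ⊢
  let e' : G ⧸ pPrimeCore p G ≃* H ⧸ pPrimeCore p H :=
    QuotientGroup.congr _ _ e (map_pPrimeCore_equiv e)
  rw [← map_pCore_equiv e']
  intro y hy
  refine ⟨e'.symm y, h ?_, e'.apply_symm_apply y⟩
  intro x hx
  apply e'.injective
  rw [map_mul, map_mul, e'.apply_symm_apply]
  exact hy _ ⟨x, hx, rfl⟩

/-- A `p`-soluble group is `p`-constrained. -/
theorem isPConstrained_of_isPSolvable [Finite G] [Fact p.Prime] (h : IsPSolvable p G) :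
    IsPConstrained p G :=
  isPConstrained_iff.mpr (centralizer_pCore_le (isPSolvable_quotient h _)
    (pPrimeCore_quotient_pPrimeCore_eq_bot p G))

end CfsgLib.PLocal
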