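/-
`p`-constraint of local subgroups, quotients by `p'`-groups, and the upper `p`-series.
-/
import Cfsg.Agent.PLocal.Constraint
import Cfsg.Agent.Coprime.PTimesQ
set_option autoImplicit false

namespace CfsgLib.PLocal

open Cfsg Subgroup

variable {G : Type*} [Group G] {H : Type*} [Group H] {p : ℕ}

theorem relIndex_comap_of_surjective {f : G →* H} (hf : Function.Surjective f) (A B : Subgroup H) :
    (A.comap f).relIndex (B.comap f) = A.relIndex B := by
  rw [relIndex_comap, map_comap_eq_self_of_surjective hf]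

theorem ker_le_comap_of_bot (f : G →* H) (A : Subgroup H) : f.ker ≤ A.comap f :=
  fun x hx => by rw [mem_comap, MonoidHom.mem_ker.mp hx]; exact one_mem _

theorem comap_pPrimeCore_of_surjective [Finite G] {f : G →* H} (hf : Function.Surjective f)
    (hker : (Nat.card f.ker).Coprime p) : (pPrimeCore p H).comap f = pPrimeCore p G := by
  have : Finite H := Finite.of_surjective f hf
  refine le_antisymm (le_pPrimeCore ?_) ?_
  · rw [← card_mul_relIndex (ker_le_comap_of_bot f _)]
    refine hker.mul_left ?_
    rw [← MonoidHom.comap_bot, relIndex_comap_of_surjective hf, relIndex_bot_left]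
    exact coprime_card_pPrimeCore p H
  · rw [← map_le_iff_le_comap]
    exact map_pPrimeCore_le_of_surjective hf

/-- For surjective homomorphisms with kernel of order prime to `p`, the quotients by `O_{p'}` agree. -/
noncomputable def quotientPPrimeCoreEquiv [Finite G] {f : G →* H} (hf : Function.Surjective f)
    (hker : (Nat.card f.ker).Coprime p) : G ⧸ pPrimeCore p G ≃* H ⧸ pPrimeCore p H :=
  (QuotientGroup.quotientMulEquivOfEq (by
    rw [← MonoidHom.comap_ker, QuotientGroup.ker_mk', comap_pPrimeCore_of_surjective hf hker])).trans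
    (QuotientGroup.quotientKerEquivOfSurjective ((QuotientGroup.mk' (pPrimeCore p H)).comp f)
      ((QuotientGroup.mk'_surjective _).comp hf))

theorem centralizer_pCore_le_congr (e : G ≃* H)
    (h : centralizer (pCore p G : Set G) ≤ pCore p G) :
    centralizer (pCore p H : Set H) ≤ pCore p H := by
  rw [← map_pCore_equiv e]
  intro y hy
  refine ⟨e.symm y, h ?_, e.apply_symm_apply y⟩
  intro x hx
  apply e.injective
  rw [map_mul, map_mul, e.apply_symm_apply]
  exact hy _ ⟨x, hx, rfl⟩

/-- `p`-constraint passes to and from quotients by normal subgroups of order prime to `p`. -/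
theorem isPConstrained_iff_of_surjective [Finite G] [Fact p.Prime] {f : G →* H}
    (hf : Function.Surjective f) (hker : (Nat.card f.ker).Coprime p) :
    IsPConstrained p G ↔ IsPConstrained p H := by
  have : Finite H := Finite.of_surjective f hf
  rw [isPConstrained_iff, isPConstrained_iff]
  exact ⟨centralizer_pCore_le_congr (quotientPPrimeCoreEquiv hf hker),
    centralizer_pCore_le_congr (quotientPPrimeCoreEquiv hf hker).symm⟩

/-- When `O_{p'}(G) = 1`, `p`-constraint is `C_G(O_p(G)) ≤ O_p(G)`. -/
theorem isPConstrained_iff_of_pPrimeCore_eq_bot [Finite G] [Fact p.Prime]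
    (h : pPrimeCore p G = ⊥) :
    IsPConstrained p G ↔ centralizer (pCore p G : Set G) ≤ pCore p G := by
  rw [isPConstrained_iff]
  let e : G ≃* G ⧸ pPrimeCore p G :=
    (QuotientGroup.quotientBot (G := G)).symm.trans (QuotientGroup.quotientMulEquivOfEq h.symm)
  exact ⟨centralizer_pCore_le_congr e.symm, centralizer_pCore_le_congr e⟩

/-- `O_{p'}(G) = 1` when `C_G(O_p(G)) ≤ O_p(G)`. -/
theorem pPrimeCore_eq_bot_of_centralizer_le [Finite G]
    (h : centralizer (pCore p G : Set G) ≤ pCore p G) : pPrimeCore p G = ⊥ :=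
  eq_bot_of_isPGroup_of_coprime
    ((isPGroup_pCore p G).to_le ((pPrimeCore_le_centralizer_pCore p G).trans h))
    (coprime_card_pPrimeCore p G)

/-- If `C_G(O_p(G)) ≤ O_p(G)`, then a subgroup `L` between `C_G(P)` and `N_G(P)` of a `p`-subgroup `P`
has the same property. -/
theorem centralizer_pCore_le_local [Finite G] [Fact p.Prime]
    (hc : centralizer (pCore p G : Set G) ≤ pCore p G) {P L : Subgroup G} (hP : IsPGroup p P)
    (hLN : L ≤ normalizer (P : Set G)) (hCL : centralizer (P : Set G) ≤ L)
    (hPL : P ≤ L ∨ L ≤ centralizer (P : Set G)) :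
    centralizer (pCore p L : Set L) ≤ pCore p L := by
  set R := pCore p G
  set CR := R ⊓ centralizer (P : Set G)
  have hCRn : (CR.subgroupOf L).Normal := by
    rw [normal_subgroupOf_iff_le_normalizer (inf_le_right.trans hCL)]
    intro g hg
    refine mem_normalizer_iff_map_conj_eq.mpr (eq_of_le_of_card_ge ?_
      (Nat.card_congr (equivMapOfInjective CR (MulAut.conj g : G →* G)
        (MulAut.conj g).injective).toEquiv).le)
    rintro _ ⟨x, hx, rfl⟩
    refine mem_inf.mpr ⟨Subgroup.Normal.conj_mem inferInstance x hx.1 g, ?_⟩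
    intro y hy
    have h1 := mem_centralizer_iff.mp hx.2 _ ((mem_normalizer_iff''.mp (hLN hg) y).mp hy)
    have h2 := congrArg (fun z => g * z * g⁻¹) h1
    simpa [mul_assoc] using h2
  have hCRle : CR.subgroupOf L ≤ pCore p L :=
    le_pCore ((isPGroup_pCore p G).to_inf_left.comap_subtype)
  have key : IsPGroup p ↥(centralizer (pCore p L : Set L)) := by
    refine (isPGroup_iff_orderOf_dvd_pow).mpr ?_
    suffices h : ∀ x : L, x ∈ centralizer (pCore p L : Set L) → (orderOf x).Coprime p → x = 1 by
      intro y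
      obtain ⟨e, m, hm, he⟩ := Nat.exists_eq_pow_mul_and_not_dvd (orderOf_pos y).ne' p
        (Fact.out : p.Prime).ne_one
      refine ⟨e, orderOf_dvd_of_pow_eq_one (Subtype.ext (h _ (y ^ p ^ e).2 ?_))⟩
      rw [Subgroup.orderOf_coe, orderOf_pow' y (pow_ne_zero e (Fact.out : p.Prime).ne_zero), he,
        Nat.gcd_mul_right_left, Nat.mul_div_cancel_left _ (pow_pos (Fact.out : p.Prime).pos e)]
      exact not_dvd_iff_coprime.mpr hm
    intro x hx hxo
    have hxP : (x : G) ∈ centralizer (P : Set G) := by
      rcases hPL with hPL | hPL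
      · intro y hy
        have hy' : (⟨y, hPL hy⟩ : L) ∈ pCore p L :=
          le_pCore (N := P.subgroupOf L) (hN := (normal_subgroupOf_iff_le_normalizer hPL).mpr hLN)
            (hP.comap_subtype) (show (⟨y, hPL hy⟩ : L) ∈ P.subgroupOf L from hy)
        exact congrArg Subtype.val (mem_centralizer_iff.mp hx _ hy')
      · exact hPL x.2
    have hQ : (Nat.card (Subgroup.zpowers (x : G))).Coprime p := by
      rwa [Nat.card_zpowers, Subgroup.orderOf_coe]
    have hPQ : P ≤ centralizer (Subgroup.zpowers (x : G) : Set G) := by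
      rw [le_centralizer_iff, zpowers_le]; exact hxP
    have hle : Subgroup.zpowers (x : G) ≤ centralizer (R : Set G) := by
      refine CfsgLib.Coprime.le_centralizer_of_inf_centralizer_le hP hQ (isPGroup_pCore p G) hPQ
        (le_top.trans (normalizer_eq_top R).ge) (le_top.trans (normalizer_eq_top R).ge) ?_
      rw [le_centralizer_iff, zpowers_le]
      intro y hy
      have h1 := mem_centralizer_iff.mp hx _
        (hCRle (show (⟨y, hCL hy.2⟩ : L) ∈ CR.subgroupOf L from hy))
      exact congrArg Subtype.val h1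
    have hxR : (x : G) ∈ R ⊓ Subgroup.zpowers (x : G) :=
      ⟨hc (hle (mem_zpowers _)), mem_zpowers _⟩
    rw [disjoint_of_isPGroup_of_coprime (isPGroup_pCore p G) hQ, mem_bot] at hxR
    exact Subtype.ext hxR
  exact le_pCore key

theorem normalizer_map_le_local [Finite G] [Fact p.Prime] (N : Subgroup G) [N.Normal]
    (hN : (Nat.card N).Coprime p) {P : Subgroup G} (hP : IsPGroup p P)
    (hc : centralizer (pCore p (G ⧸ N) : Set (G ⧸ N)) ≤ pCore p (G ⧸ N)) :
    pPrimeCore p ↥((normalizer (P : Set G)).map (QuotientGroup.mk' N)) = ⊥ := by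
  have h := centralizer_pCore_le_local hc (hP.map (QuotientGroup.mk' N)) le_rfl
    (centralizer_le_normalizer _) (Or.inl le_normalizer)
  rw [← normalizer_map_mk'_eq N hN hP]
  exact pPrimeCore_eq_bot_of_centralizer_le h

/-! ### The upper `p`-series -/

theorem upperPSeries_odd_eq (p : ℕ) (G : Type*) [Group G] (k : ℕ) :
    (upperPSeries p G (2 * k + 1)).1 =
      (pPrimeCore p (G ⧸ (upperPSeries p G (2 * k)).1)).comap
        (QuotientGroup.mk' (upperPSeries p G (2 * k)).1) := by
  simp [upperPSeries]

theorem upperPSeries_even_eq (p : ℕ) (G : Type*) [Group G] (k : ℕ) :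
    (upperPSeries p G (2 * k + 2)).1 =
      (pCore p (G ⧸ (upperPSeries p G (2 * k + 1)).1)).comap
        (QuotientGroup.mk' (upperPSeries p G (2 * k + 1)).1) := by
  conv_lhs => rw [show 2 * k + 2 = (2 * k + 1) + 1 from rfl, upperPSeries]
  have : ¬ Even (2 * k + 1) := by simp
  simp [this]

theorem le_upperPSeries_succ (p : ℕ) (G : Type*) [Group G] (n : ℕ) :
    (upperPSeries p G n).1 ≤ (upperPSeries p G (n + 1)).1 := by
  have h : ∀ (N : Subgroup G) [N.Normal] (A : Subgroup (G ⧸ N)), N ≤ A.comap (QuotientGroup.mk' N) := by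
    intro N _ A
    simpa using ker_le_comap_of_bot (QuotientGroup.mk' N) A
  rw [upperPSeries]
  by_cases hn : Even n
  · simp only [hn, ↓reduceIte]; exact h _ _
  · simp only [hn, ↓reduceIte]; exact h _ _

/-- The `p'`-core above a `p'`-core layer is trivial. -/
theorem pPrimeCore_quotient_eq_bot_of_comap [Finite G] {U V : Subgroup G} [U.Normal] [V.Normal]
    (hV : V = (pPrimeCore p (G ⧸ U)).comap (QuotientGroup.mk' U)) :
    pPrimeCore p (G ⧸ V) = ⊥ := by
  let W : Subgroup G := (pPrimeCore p (G ⧸ V)).comap (QuotientGroup.mk' V)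
  have hUV : U ≤ V := by
    rw [hV]; simpa using ker_le_comap_of_bot (QuotientGroup.mk' U) (pPrimeCore p (G ⧸ U))
  have hVW : V ≤ W := by simpa using ker_le_comap_of_bot (QuotientGroup.mk' V) (pPrimeCore p (G ⧸ V))
  have e1 : U.relIndex V = Nat.card (pPrimeCore p (G ⧸ U)) := by
    have := relIndex_comap_of_surjective (QuotientGroup.mk'_surjective U) ⊥ (pPrimeCore p (G ⧸ U))
    rwa [MonoidHom.comap_bot, QuotientGroup.ker_mk', relIndex_bot_left, ← hV] at this
  have e2 : V.relIndex W = Nat.card (pPrimeCore p (G ⧸ V)) := by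
    have := relIndex_comap_of_surjective (QuotientGroup.mk'_surjective V) ⊥ (pPrimeCore p (G ⧸ V))
    rwa [MonoidHom.comap_bot, QuotientGroup.ker_mk', relIndex_bot_left] at this
  have hWle : W ≤ V := by
    rw [hV, ← map_le_iff_le_comap]
    have : (W.map (QuotientGroup.mk' U)).Normal :=
      Subgroup.Normal.map inferInstance _ (QuotientGroup.mk'_surjective U)
    refine le_pPrimeCore ?_
    rw [← relIndex_ker (K := W), QuotientGroup.ker_mk', ← relIndex_mul_relIndex U V W hUV hVW, e1, e2]
    exact (coprime_card_pPrimeCore p _).mul_left (coprime_card_pPrimeCore p _)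
  rw [← map_comap_eq_self_of_surjective (QuotientGroup.mk'_surjective V) (pPrimeCore p (G ⧸ V)),
    Subgroup.map_eq_bot_iff, QuotientGroup.ker_mk']
  exact hWle

theorem pPrimeCore_quotient_upperPSeries_odd [Finite G] (k : ℕ) :
    pPrimeCore p (G ⧸ (upperPSeries p G (2 * k + 1)).1) = ⊥ :=
  pPrimeCore_quotient_eq_bot_of_comap (upperPSeries_odd_eq p G k)

end CfsgLib.PLocal
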