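/-
Thompson's and Timmesfeld's replacement, and offenders coming from maximal elementary abelian subgroups.
-/
import Cfsg.Agent.PLocal.CommutatorFacts
set_option autoImplicit false

namespace CfsgLib.PLocal

open Cfsg Subgroup
open scoped commutatorElement

variable {G : Type*} [Group G] {p : ℕ}

/-- `|A| · |C_V(A)|`, the quantity compared by offenders. -/
noncomputable def offenderWeight (V A : Subgroup G) : ℕ :=
  Nat.card A * Nat.card ↥(V ⊓ centralizer (A : Set G))

theorem offenderWeight_pos [Finite G] (V A : Subgroup G) : 0 < offenderWeight V A :=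
  Nat.mul_pos Nat.card_pos Nat.card_pos

theorem comm_of_isMulCommutative {V : Subgroup G} (hV : IsMulCommutative V) {x y : G} (hx : x ∈ V)
    (hy : y ∈ V) : x * y = y * x :=
  le_centralizer_iff_isMulCommutative.mpr hV hy x hx

theorem commutatorElement_mem {V : Subgroup G} {u a : G} (hu : u ∈ V)
    (ha : a ∈ normalizer (V : Set G)) : ⁅u, a⁆ ∈ V := by
  rw [commutatorElement_def, mul_assoc u a, mul_assoc u]
  exact mul_mem hu ((mem_normalizer_iff.mp ha _).mp (inv_mem hu))

/-- Elements of `A` that act on `V` commute there when `[A,A]` centralizes `V`. -/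
theorem conj_comm_of_commutator_le {V A : Subgroup G} (hab : ⁅A, A⁆ ≤ centralizer (V : Set G))
    (hAV : A ≤ normalizer (V : Set G)) {a b v : G} (ha : a ∈ A) (hb : b ∈ A) (hv : v ∈ V) :
    a * (b * v * b⁻¹) * a⁻¹ = b * (a * v * a⁻¹) * b⁻¹ := by
  have hw : b * (a * v * a⁻¹) * b⁻¹ ∈ V :=
    (mem_normalizer_iff.mp (hAV hb) _).mp ((mem_normalizer_iff.mp (hAV ha) _).mp hv)
  have hc := mem_centralizer_iff.mp (hab (commutator_mem_commutator ha hb)) _ hw
  calc a * (b * v * b⁻¹) * a⁻¹ = ⁅a, b⁆ * (b * (a * v * a⁻¹) * b⁻¹) * ⁅a, b⁆⁻¹ := by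
        simp [commutatorElement_def, mul_assoc]
    _ = _ := by rw [← hc, mul_inv_cancel_right]

/-- One step of the replacement: for `u ∈ V`, the centralizer `B` in `A` of `{[u,a] | a ∈ A}` and
`W = ⟨[u,a] | a ∈ A⟩ C_V(A)` satisfy `|A : B| ≤ |W : C_V(A)|` and `W ≤ C_V(B)`. -/
theorem offenderWeight_single_le [Finite G] {V A : Subgroup G} (hV : IsMulCommutative V)
    (hAV : A ≤ normalizer (V : Set G)) (hab : ⁅A, A⁆ ≤ centralizer (V : Set G)) {u : G}
    (hu : u ∈ V) :
    offenderWeight V A ≤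
      Nat.card ↥(A ⊓ centralizer ((fun a => ⁅u, a⁆) '' (A : Set G))) *
        Nat.card ↥(closure ((fun a => ⁅u, a⁆) '' (A : Set G)) ⊔ (V ⊓ centralizer (A : Set G))) := by
  set s : Set G := (fun a => ⁅u, a⁆) '' (A : Set G) with hs
  set C := V ⊓ centralizer (A : Set G) with hC
  set B := A ⊓ centralizer s with hB
  set W := closure s ⊔ C with hW
  have hmem : ∀ a : A, ⁅u, (a : G)⁆ ∈ W := fun a =>
    le_sup_left (b := C) (subset_closure ⟨a, a.2, rfl⟩)
  have key : ∀ a a' : A, ⁅u, (a : G)⁆⁻¹ * ⁅u, (a' : G)⁆ ∈ C →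
      (a : G)⁻¹ * (a' : G) ∈ B := by
    intro a a' hc
    refine mem_inf.mpr ⟨mul_mem (inv_mem a.2) a'.2, ?_⟩
    rw [mem_centralizer_iff]
    rintro _ ⟨b, hb, rfl⟩
    show ⁅u, b⁆ * ((a : G)⁻¹ * a') = (a : G)⁻¹ * a' * ⁅u, b⁆
    -- conjugation by `a` and `a'` on `u` differ by an element of `C_V(A)`
    set c := ⁅u, (a : G)⁆⁻¹ * ⁅u, (a' : G)⁆ with hcdef
    have hcA : ∀ x ∈ A, x * c * x⁻¹ = c := fun x hx => by
      rw [mem_centralizer_iff.mp hc.2 x hx, mul_inv_cancel_right]
    have hpu : (a : G) * u⁻¹ * (a : G)⁻¹ * c = (a' : G) * u⁻¹ * (a' : G)⁻¹ := by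
      rw [hcdef, commutatorElement_def, commutatorElement_def]
      simp [mul_assoc]
    have hub : ⁅u, b⁆ = u * (b * u⁻¹ * b⁻¹) := by simp [commutatorElement_def, mul_assoc]
    have hx := hAV a.2
    have e1 : (a' : G) * ⁅u, b⁆ * (a' : G)⁻¹ = (a : G) * ⁅u, b⁆ * (a : G)⁻¹ := by
      have hP : (a : G) * u * (a : G)⁻¹ ∈ V := (mem_normalizer_iff.mp hx _).mp hu
      have hPb : b * ((a : G) * u⁻¹ * (a : G)⁻¹) * b⁻¹ ∈ V :=
        (mem_normalizer_iff.mp (hAV hb) _).mp ((mem_normalizer_iff.mp hx _).mp (inv_mem hu))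
      have l1 : (a' : G) * u * (a' : G)⁻¹ = c⁻¹ * ((a : G) * u * (a : G)⁻¹) := by
        have := congrArg (fun z => z⁻¹) hpu
        simp only [mul_inv_rev, inv_inv] at this
        rw [← mul_assoc, ← mul_assoc, mul_assoc (a : G)] at *
        simpa [mul_assoc] using this.symm
      calc (a' : G) * ⁅u, b⁆ * (a' : G)⁻¹
          = ((a' : G) * u * (a' : G)⁻¹) * ((a' : G) * (b * u⁻¹ * b⁻¹) * (a' : G)⁻¹) := by
            rw [hub]; group
        _ = ((a' : G) * u * (a' : G)⁻¹) * (b * ((a' : G) * u⁻¹ * (a' : G)⁻¹) * b⁻¹) := by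
            rw [conj_comm_of_commutator_le hab hAV a'.2 hb (inv_mem hu)]
        _ = c⁻¹ * ((a : G) * u * (a : G)⁻¹) *
              ((b * ((a : G) * u⁻¹ * (a : G)⁻¹) * b⁻¹) * (b * c * b⁻¹)) := by
            rw [l1, ← hpu]; group
        _ = c⁻¹ * (((a : G) * u * (a : G)⁻¹) * (b * ((a : G) * u⁻¹ * (a : G)⁻¹) * b⁻¹)) * c := by
            rw [hcA b hb]; group
        _ = ((a : G) * u * (a : G)⁻¹) * (b * ((a : G) * u⁻¹ * (a : G)⁻¹) * b⁻¹) := by
            rw [comm_of_isMulCommutative hV (inv_mem hc.1) (mul_mem hP hPb), inv_mul_cancel_right]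
        _ = ((a : G) * u * (a : G)⁻¹) * ((a : G) * (b * u⁻¹ * b⁻¹) * (a : G)⁻¹) := by
            rw [conj_comm_of_commutator_le hab hAV a.2 hb (inv_mem hu)]
        _ = (a : G) * ⁅u, b⁆ * (a : G)⁻¹ := by
            rw [hub]; group
    calc ⁅u, b⁆ * ((a : G)⁻¹ * a')
        = (a : G)⁻¹ * ((a : G) * ⁅u, b⁆ * (a : G)⁻¹) * a' := by group
      _ = (a : G)⁻¹ * a' * ⁅u, b⁆ := by rw [← e1]; group
  have hle : B.relIndex A ≤ C.relIndex W := by
    refine Nat.card_le_card_of_injective
      (fun q : A ⧸ B.subgroupOf A => ((⟨⁅u, ((q.out : A) : G)⁆, hmem q.out⟩ : W) : W ⧸ C.subgroupOf W)) ?_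
    intro q q' h
    rw [QuotientGroup.eq] at h
    rw [← QuotientGroup.out_eq' q, ← QuotientGroup.out_eq' q', QuotientGroup.eq]
    exact key _ _ h
  have h1 : Nat.card B * B.relIndex A = Nat.card A := card_mul_relIndex inf_le_left
  have h2 : Nat.card C * C.relIndex W = Nat.card W := card_mul_relIndex le_sup_right
  rw [offenderWeight, ← h1, ← h2, mul_assoc]
  exact Nat.mul_le_mul_left _ (by rw [mul_comm]; exact Nat.mul_le_mul_left _ hle)

/-- **Replacement**: if no subgroup of `A` has larger weight than `A`, then `B = C_A([U,A])` has the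
same weight and `C_V(B) = [U,A] C_V(A)`. -/
theorem replacement [Finite G] {V A : Subgroup G} (hV : IsMulCommutative V)
    (hAV : A ≤ normalizer (V : Set G)) (hab : ⁅A, A⁆ ≤ centralizer (V : Set G))
    (hmax : ∀ B : Subgroup G, B ≤ A → offenderWeight V B ≤ offenderWeight V A) {U : Subgroup G}
    (hU : U ≤ V) :
    offenderWeight V (A ⊓ centralizer ((⁅U, A⁆ : Subgroup G) : Set G)) = offenderWeight V A ∧
      V ⊓ centralizer ((A ⊓ centralizer ((⁅U, A⁆ : Subgroup G) : Set G) : Subgroup G) : Set G) =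
        ⁅U, A⁆ ⊔ (V ⊓ centralizer (A : Set G)) := by
  classical
  set C := V ⊓ centralizer (A : Set G) with hC
  let Sset : G → Set G := fun u => (fun a => ⁅u, a⁆) '' (A : Set G)
  have hS : ∀ u ∈ V, Sset u ⊆ (V : Set G) := by
    rintro u hu _ ⟨a, ha, rfl⟩
    exact commutatorElement_mem hu (hAV ha)
  suffices main : ∀ s : Set G, s.Finite → s ⊆ (U : Set G) →
      offenderWeight V (A ⊓ centralizer (⋃ u ∈ s, Sset u)) = offenderWeight V A ∧
        V ⊓ centralizer ((A ⊓ centralizer (⋃ u ∈ s, Sset u) : Subgroup G) : Set G) =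
          closure (⋃ u ∈ s, Sset u) ⊔ C by
    have h := main (U : Set G) (Set.toFinite _) subset_rfl
    have hunion : (⋃ u ∈ (U : Set G), Sset u) = {x : G | ∃ u ∈ U, ∃ a ∈ A, ⁅u, a⁆ = x} := by
      ext x
      simp [Sset]
    rw [hunion, ← Subgroup.commutator_def, ← centralizer_commutator_eq] at h
    exact h
  intro s hsfin
  induction s, hsfin using Set.Finite.induction_on with
  | empty =>
    intro _
    simp [show (centralizer (∅ : Set G)) = ⊤ from top_unique fun x _ y hy => hy.elim, hC]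
  | @insert u t _ _ ih =>
    intro hins
    rw [Set.insert_subset_iff] at hins
    obtain ⟨ih1, ih2⟩ := ih hins.2
    set T := ⋃ v ∈ t, Sset v with hT
    have hTV : T ⊆ (V : Set G) := Set.iUnion₂_subset fun v hv => hS v (hU (hins.2 hv))
    set B1 := A ⊓ centralizer T with hB1
    set B2 := A ⊓ centralizer (Sset u) with hB2
    have hU' : (⋃ v ∈ insert u t, Sset v) = T ∪ Sset u := by
      rw [Set.biUnion_insert, Set.union_comm]
    have hB12 : A ⊓ centralizer (T ∪ Sset u) = B1 ⊓ B2 := by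
      ext x
      simp only [mem_inf, hB1, hB2, mem_centralizer_iff, Set.mem_union]
      exact ⟨fun h => ⟨⟨h.1, fun g hg => h.2 g (Or.inl hg)⟩, h.1, fun g hg => h.2 g (Or.inr hg)⟩,
        fun h => ⟨h.1.1, fun g hg => hg.elim (h.1.2 g) (h.2.2 g)⟩⟩
    rw [hU', hB12, Subgroup.closure_union]
    -- weight of `B2`
    have hW2 : closure (Sset u) ⊔ C ≤ V ⊓ centralizer (B2 : Set G) := by
      refine sup_le (le_inf ((closure_le _).mpr (hS u (hU hins.1))) ?_)
        (inf_centralizer_mono V inf_le_left)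
      rw [closure_le]
      intro x hx y hy
      exact (mem_centralizer_iff.mp hy.2 x hx).symm
    have h2 := (offenderWeight_single_le hV hAV hab (hU hins.1)).trans
      (Nat.mul_le_mul_left _ (card_le_of_le hW2))
    have h2eq : offenderWeight V B2 = offenderWeight V A := le_antisymm (hmax B2 inf_le_left) h2
    have h2C : V ⊓ centralizer (B2 : Set G) = closure (Sset u) ⊔ C := by
      refine (eq_of_le_of_card_ge hW2 ?_).symm
      exact Nat.le_of_mul_le_mul_left ((hmax B2 inf_le_left).trans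
        (offenderWeight_single_le hV hAV hab (hU hins.1))) Nat.card_pos
    -- combine
    have hAn : ∀ Bi : Subgroup G, Bi ≤ A → A ⊓ centralizer (V : Set G) ≤ Bi →
        A ≤ normalizer (Bi : Set G) := by
      intro Bi hBi hK
      rw [le_normalizer_iff_commutator_le_left]
      exact (le_inf ((commutator_mono hBi le_rfl).trans A.commutator_le_self)
        ((commutator_mono hBi le_rfl).trans hab)).trans hK
    have hB2n : A ≤ normalizer (B2 : Set G) :=
      hAn B2 inf_le_left (inf_le_inf_left _ (centralizer_le (hS u (hU hins.1))))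
    have hcardB := card_sup_mul_card_inf (A := B1) (B := B2) (inf_le_left.trans hB2n)
    set C1 := V ⊓ centralizer (B1 : Set G)
    set C2 := V ⊓ centralizer (B2 : Set G)
    have hcardC := card_sup_mul_card_inf (A := C1) (B := C2)
      (le_trans (inf_le_left.trans (le_centralizer_iff_isMulCommutative.mpr hV))
        ((centralizer_le (inf_le_left : C2 ≤ V)).trans (centralizer_le_normalizer _)))
    have hsupC : V ⊓ centralizer ((B1 ⊔ B2 : Subgroup G) : Set G) = C1 ⊓ C2 := by
      rw [centralizer_sup]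
      exact inf_inf_distrib_left _ _ _
    have hle12 : C1 ⊔ C2 ≤ V ⊓ centralizer ((B1 ⊓ B2 : Subgroup G) : Set G) :=
      sup_le (inf_centralizer_mono V inf_le_left) (inf_centralizer_mono V inf_le_right)
    have hprod : offenderWeight V A * offenderWeight V A =
        offenderWeight V (B1 ⊔ B2) * (Nat.card ↥(B1 ⊓ B2) * Nat.card ↥(C1 ⊔ C2)) := by
      calc offenderWeight V A * offenderWeight V A
          = offenderWeight V B1 * offenderWeight V B2 := by rw [ih1, h2eq]
        _ = (Nat.card B1 * Nat.card B2) * (Nat.card C1 * Nat.card C2) := by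
            simp only [offenderWeight]; ring
        _ = _ := by rw [← hcardB, ← hcardC, offenderWeight, hsupC]; ring
    have hge : offenderWeight V A ≤ Nat.card ↥(B1 ⊓ B2) * Nat.card ↥(C1 ⊔ C2) :=
      Nat.le_of_mul_le_mul_left (hprod.le.trans
        (Nat.mul_le_mul_right _ (hmax _ (sup_le inf_le_left inf_le_left)))) (offenderWeight_pos V A)
    have hge' : offenderWeight V A ≤ offenderWeight V (B1 ⊓ B2) :=
      hge.trans (Nat.mul_le_mul_left _ (card_le_of_le hle12))
    have heq : offenderWeight V (B1 ⊓ B2) = offenderWeight V A :=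
      le_antisymm (hmax _ (inf_le_left.trans inf_le_left)) hge'
    refine ⟨heq, ?_⟩
    rw [← eq_of_le_of_card_ge hle12 (Nat.le_of_mul_le_mul_left (heq.le.trans hge) Nat.card_pos)]
    show C1 ⊔ C2 = _
    simp only [C1, C2, ih2, h2C]
    exact (sup_sup_distrib_right _ _ _).symm

end CfsgLib.PLocal
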