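/-
Glauberman's replacement: from an abelian `A` and `b ∈ B` one gets the abelian subgroup
`A* = (A ⊓ b⁻¹Ab) ⊔ ⟨a b⁻¹ a⁻¹ b | a ∈ A⟩` of the same order meeting `B` in a larger subgroup.
-/
import Cfsg.Agent.PLocal.Replacement
import Cfsg.Agent.Transfer.Alperin
import Mathlib.GroupTheory.Exponent
import Mathlib.Data.Nat.Choose.Basic
set_option autoImplicit false

namespace CfsgLib.PLocal

open Cfsg Subgroup
open scoped commutatorElement

variable {G : Type*} [Group G] {p : ℕ}

/-- `a b⁻¹ a⁻¹ b`. -/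
def twistComm (b a : G) : G := a * b⁻¹ * a⁻¹ * b

/-- The replacement `A*` of `A` by `b`. -/
def replStar (A : Subgroup G) (b : G) : Subgroup G :=
  (A ⊓ A.map (MulAut.conj (b⁻¹)).toMonoidHom) ⊔
    Subgroup.closure {g : G | ∃ a ∈ A, g = a * b⁻¹ * a⁻¹ * b}

theorem mem_map_conj_inv {A : Subgroup G} {b x : G} :
    x ∈ A.map (MulAut.conj (b⁻¹)).toMonoidHom ↔ b * x * b⁻¹ ∈ A := by
  constructor
  · rintro ⟨a, ha, rfl⟩
    simpa [mul_assoc] using ha
  · intro h
    exact ⟨b * x * b⁻¹, h, by simp [mul_assoc]⟩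

/-- The hypotheses of the replacement step: `A ≤ N`, `N` normalizes `A` and `B`, `b ∈ B` normalizes `N`,
`[B, B] ≤ A`, and `B` is abelian or of odd order. -/
structure ReplData (A B N : Subgroup G) (b : G) : Prop where
  comm : IsMulCommutative A
  derived : ⁅B, B⁆ ≤ A
  mem : b ∈ B
  le : A ≤ N
  normA : N ≤ normalizer (A : Set G)
  normB : N ≤ normalizer (B : Set G)
  normN : b ∈ normalizer (N : Set G)
  odd : IsMulCommutative B ∨ Odd (Nat.card B)

namespace ReplData

variable {A B N : Subgroup G} {b : G}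

theorem conj_A_le (h : ReplData A B N b) : A.map (MulAut.conj (b⁻¹)).toMonoidHom ≤ N := by
  intro x hx
  rw [mem_map_conj_inv] at hx
  have h1 := (mem_normalizer_iff.mp (inv_mem h.normN) _).mp (h.le hx)
  simpa [mul_assoc] using h1

theorem N_le_normalizer_conj (h : ReplData A B N b) :
    N ≤ normalizer (A.map (MulAut.conj (b⁻¹)).toMonoidHom : Set G) := by
  intro n hn
  have hm : b * n * b⁻¹ ∈ normalizer (A : Set G) :=
    h.normA ((mem_normalizer_iff.mp h.normN n).mp hn)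
  rw [mem_normalizer_iff]
  intro x
  rw [mem_map_conj_inv, mem_map_conj_inv, mem_normalizer_iff.mp hm]
  simp [mul_assoc]

theorem A_normB (h : ReplData A B N b) {a : G} (ha : a ∈ A) : a ∈ normalizer (B : Set G) :=
  h.normB (h.le ha)

theorem twistComm_mem_B (h : ReplData A B N b) {a : G} (ha : a ∈ A) : twistComm b a ∈ B :=
  mul_mem ((mem_normalizer_iff.mp (h.A_normB ha) _).mp (inv_mem h.mem)) h.mem

theorem commutatorElement_mem_A {x y : G} (h : ReplData A B N b) (hx : x ∈ B) (hy : y ∈ B) :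
    ⁅x, y⁆ ∈ A :=
  h.derived (commutator_mem_commutator hx hy)

theorem commutatorElement_mem_B {x : G} (h : ReplData A B N b) {n : G} (hn : n ∈ N) (hx : x ∈ B) :
    ⁅n, x⁆ ∈ B := by
  rw [commutatorElement_def]
  exact mul_mem ((mem_normalizer_iff.mp (h.normB hn) x).mp hx) (inv_mem hx)

theorem conj_commutatorElement_B {x y : G} (h : ReplData A B N b) (hx : x ∈ B) (hy : y ∈ B) :
    b * ⁅x, y⁆ * b⁻¹ ∈ A := by
  rw [← MulAut.conj_apply b ⁅x, y⁆, map_commutatorElement, MulAut.conj_apply, MulAut.conj_apply]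
  exact h.commutatorElement_mem_A (mul_mem (mul_mem h.mem hx) (inv_mem h.mem))
    (mul_mem (mul_mem h.mem hy) (inv_mem h.mem))

theorem commutatorElement_mem_I {x y : G} (h : ReplData A B N b) (hx : x ∈ B) (hy : y ∈ B) :
    ⁅x, y⁆ ∈ A ⊓ A.map (MulAut.conj (b⁻¹)).toMonoidHom :=
  mem_inf.mpr ⟨h.commutatorElement_mem_A hx hy, mem_map_conj_inv.mpr (h.conj_commutatorElement_B hx hy)⟩

theorem inf_B_le (h : ReplData A B N b) : A ⊓ B ≤ A ⊓ A.map (MulAut.conj (b⁻¹)).toMonoidHom := by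
  intro x hx
  refine mem_inf.mpr ⟨hx.1, mem_map_conj_inv.mpr ?_⟩
  have : b * x * b⁻¹ = ⁅b, x⁆ * x := by simp [commutatorElement_def]
  rw [this]
  exact mul_mem (h.commutatorElement_mem_A h.mem hx.2) hx.1

theorem A_commutes (h : ReplData A B N b) {x i : G} (hx : x ∈ A)
    (hi : i ∈ A ⊓ A.map (MulAut.conj (b⁻¹)).toMonoidHom) : Commute x i :=
  le_centralizer_iff_isMulCommutative.mpr h.comm hi.1 x hx

theorem conj_commutes (h : ReplData A B N b) {x i : G}
    (hx : x ∈ A.map (MulAut.conj (b⁻¹)).toMonoidHom)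
    (hi : i ∈ A ⊓ A.map (MulAut.conj (b⁻¹)).toMonoidHom) : Commute x i :=
  le_centralizer_iff_isMulCommutative.mpr (isMulCommutative_map h.comm _) hi.2 x hx

theorem twist_mem (h : ReplData A B N b) {a : G} (ha : a ∈ A) :
    b⁻¹ * a⁻¹ * b ∈ A.map (MulAut.conj (b⁻¹)).toMonoidHom := by
  rw [mem_map_conj_inv]
  simpa [mul_assoc] using inv_mem ha

theorem twistComm_eq (b a : G) : twistComm b a = a * (b⁻¹ * a⁻¹ * b) := by
  simp [twistComm, mul_assoc]

theorem twistComm_mem_N (h : ReplData A B N b) {a : G} (ha : a ∈ A) : twistComm b a ∈ N := by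
  rw [twistComm_eq]; exact mul_mem (h.le ha) (h.conj_A_le (h.twist_mem ha))

theorem twistComm_commutes (h : ReplData A B N b) {a i : G} (ha : a ∈ A)
    (hi : i ∈ A ⊓ A.map (MulAut.conj (b⁻¹)).toMonoidHom) : Commute (twistComm b a) i := by
  rw [twistComm_eq]
  exact (h.A_commutes ha hi).mul_left (h.conj_commutes (h.twist_mem ha) hi)

/-- For `x ∈ A`, `y ∈ A`, `[x, T y] = [x, ψ(y)⁻¹]` lies in `A ⊓ ψA`. -/
theorem commutatorElement_twist (h : ReplData A B N b) {x y : G} (hx : x ∈ A) (hy : y ∈ A) :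
    ⁅x, b⁻¹ * y⁻¹ * b⁆ ∈ A ⊓ A.map (MulAut.conj (b⁻¹)).toMonoidHom ∧
      ⁅x, twistComm b y⁆ = ⁅x, b⁻¹ * y⁻¹ * b⁆ := by
  have hq := h.twist_mem hy
  have hI : ⁅x, b⁻¹ * y⁻¹ * b⁆ ∈ A ⊓ A.map (MulAut.conj (b⁻¹)).toMonoidHom := by
    refine mem_inf.mpr ⟨?_, ?_⟩
    · exact commutatorElement_mem hx (h.normA (h.conj_A_le hq))
    · rw [commutatorElement_def]
      exact mul_mem ((mem_normalizer_iff.mp (h.N_le_normalizer_conj (h.le hx)) _).mp hq) (inv_mem hq)
  refine ⟨hI, ?_⟩
  rw [twistComm_eq, commutatorElement_mul_right_eq_mul_conj,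
    commutatorElement_eq_one_iff_mul_comm.mpr
      (le_centralizer_iff_isMulCommutative.mpr h.comm hy x hx), one_mul,
    (h.A_commutes hy hI).eq, mul_inv_cancel_right]

/-- The key commutativity: `T x` and `T y` commute. -/
theorem twistComm_comm [Finite G] (h : ReplData A B N b) {x y : G} (hx : x ∈ A) (hy : y ∈ A) :
    Commute (twistComm b x) (twistComm b y) := by
  rcases h.odd with hBc | hodd
  · exact le_centralizer_iff_isMulCommutative.mpr hBc (h.twistComm_mem_B hy) _ (h.twistComm_mem_B hx)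
  -- `c = z ψ(z)⁻¹` for `z = [x, T y]`
  have key : ∀ x y : G, x ∈ A → y ∈ A →
      ⁅twistComm b x, twistComm b y⁆ =
        ⁅x, b⁻¹ * y⁻¹ * b⁆ * (b⁻¹ * ⁅x, b⁻¹ * y⁻¹ * b⁆⁻¹ * b) := by
    intro x y hx hy
    obtain ⟨hzI, hz⟩ := h.commutatorElement_twist hx hy
    generalize hu : twistComm b y = u at hz ⊢
    have huB : u ∈ B := hu ▸ h.twistComm_mem_B hy
    have hvB : (twistComm b x)⁻¹ ∈ B := inv_mem (h.twistComm_mem_B hx)
    generalize ⁅x, b⁻¹ * y⁻¹ * b⁆ = z at hz hzI ⊢
    -- conjugate `⁅u, b⁆` by `x`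
    have hfix : x * ⁅u, b⁆ * x⁻¹ = ⁅u, b⁆ := by
      rw [(h.A_commutes hx (h.commutatorElement_mem_I huB h.mem)).eq, mul_inv_cancel_right]
    rw [← MulAut.conj_apply x ⁅u, b⁆, map_commutatorElement, MulAut.conj_apply, MulAut.conj_apply,
      show x * u * x⁻¹ = z * u by rw [← hz, commutatorElement_def, inv_mul_cancel_right],
      show x * b * x⁻¹ = b * (twistComm b x)⁻¹ by simp [twistComm, mul_assoc]] at hfix
    have hc1 : ⁅u, b * (twistComm b x)⁻¹⁆ ∈ A ⊓ A.map (MulAut.conj (b⁻¹)).toMonoidHom :=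
      h.commutatorElement_mem_I huB (mul_mem h.mem hvB)
    have hzv : ⁅z, (twistComm b x)⁻¹⁆ = 1 :=
      commutatorElement_eq_one_iff_mul_comm.mpr (h.twistComm_commutes hx hzI).inv_left.symm.eq
    rw [commutatorElement_mul_left_eq_conj_mul, (h.A_commutes hzI.1 hc1).eq, mul_inv_cancel_right,
      commutatorElement_mul_right_eq_mul_conj z, hzv, mul_one, mul_inv_cancel_right,
      commutatorElement_mul_right_eq_mul_conj u] at hfix
    replace hfix : b * ⁅u, (twistComm b x)⁻¹⁆ * b⁻¹ * ⁅z, b⁆ = 1 :=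
      (mul_eq_left (a := ⁅u, b⁆)).mp (by simpa only [mul_assoc] using hfix)
    -- `b ⁅u, v⁻¹⁆ b⁻¹ ⁅z, b⁆ = 1`
    have hc2 : ⁅twistComm b x, u⁆ = ⁅u, (twistComm b x)⁻¹⁆ := by
      have hd : ⁅twistComm b x, u⁆ ∈ A ⊓ A.map (MulAut.conj (b⁻¹)).toMonoidHom :=
        h.commutatorElement_mem_I (inv_mem_iff.mp hvB) huB
      calc ⁅twistComm b x, u⁆
          = (twistComm b x)⁻¹ * ⁅twistComm b x, u⁆ * twistComm b x := by
            rw [(h.twistComm_commutes hx hd).inv_left.eq, inv_mul_cancel_right]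
        _ = ⁅u, (twistComm b x)⁻¹⁆ := by simp [commutatorElement_def, mul_assoc]
    rw [hc2]
    have h2 : ⁅u, (twistComm b x)⁻¹⁆ = b⁻¹ * ⁅z, b⁆⁻¹ * b := by
      rw [← eq_inv_of_mul_eq_one_left hfix]; group
    rw [h2, commutatorElement_def]; group
  obtain ⟨hz1I, hz1⟩ := h.commutatorElement_twist hx hy
  obtain ⟨hz2I, hz2⟩ := h.commutatorElement_twist hy hx
  -- `c = z(x,y) z(y,x)⁻¹`
  set z1 := ⁅x, b⁻¹ * y⁻¹ * b⁆ with hz1d
  set z2 := ⁅y, b⁻¹ * x⁻¹ * b⁆ with hz2d
  have hsplit : ⁅twistComm b x, twistComm b y⁆ = z2⁻¹ * z1 := by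
    have hq : ⁅b⁻¹ * x⁻¹ * b, twistComm b y⁆ = z2⁻¹ := by
      rw [twistComm_eq, commutatorElement_mul_right_eq_mul_conj, ← commutatorElement_inv y,
        ← hz2d, commutatorElement_eq_one_iff_mul_comm.mpr
          (le_centralizer_iff_isMulCommutative.mpr (isMulCommutative_map h.comm
            (MulAut.conj (b⁻¹)).toMonoidHom) (h.twist_mem hy) _ (h.twist_mem hx)),
        mul_one, mul_inv_cancel_right]
    rw [twistComm_eq b x, commutatorElement_mul_left_eq_conj_mul, hq, hz1,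
      (h.A_commutes hx (inv_mem hz2I)).eq, mul_inv_cancel_right]
  set c := ⁅twistComm b x, twistComm b y⁆ with hc
  have hcI : c ∈ A ⊓ A.map (MulAut.conj (b⁻¹)).toMonoidHom :=
    h.commutatorElement_mem_I (h.twistComm_mem_B hx) (h.twistComm_mem_B hy)
  have e1 := key x y hx hy
  have e2 := key y x hy hx
  rw [← commutatorElement_inv] at e2
  rw [← hc, ← hz2d] at e2
  rw [← hz1d, ← hc] at e1
  -- `ψ c = c⁻¹`
  have hpsi : b⁻¹ * c * b = c⁻¹ := by
    have a1 : b⁻¹ * z1 * b = c⁻¹ * z1 := by rw [e1]; group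
    have a2 : b⁻¹ * z2⁻¹ * b = z2⁻¹ * c⁻¹ := by rw [e2]; group
    have hzc : Commute z2⁻¹ c⁻¹ := (h.A_commutes (inv_mem hz2I.1) (inv_mem hcI))
    have hz1c : Commute z1 c⁻¹ := (h.A_commutes hz1I.1 (inv_mem hcI))
    calc b⁻¹ * c * b = b⁻¹ * z2⁻¹ * b * (b⁻¹ * z1 * b) := by rw [hsplit]; group
      _ = z2⁻¹ * c⁻¹ * (c⁻¹ * z1) := by rw [a1, a2]
      _ = c⁻¹ * c⁻¹ * (z2⁻¹ * z1) := by
        rw [hzc.eq, mul_assoc, ← mul_assoc z2⁻¹, hzc.eq]; simp only [mul_assoc]
      _ = c⁻¹ := by rw [← hsplit]; group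
  have hb2 : Commute (b ^ 2) c := by
    have h2 : b⁻¹ * (b⁻¹ * c * b) * b = c := by
      rw [hpsi]
      have := congrArg (fun t => t⁻¹) hpsi
      simpa [mul_assoc] using this
    show b ^ 2 * c = c * b ^ 2
    conv_lhs => rw [← h2]
    simp [pow_two, mul_assoc]
  have hbodd : Odd (orderOf b) :=
    hodd.of_dvd_nat (Subgroup.orderOf_mk b h.mem ▸ orderOf_dvd_natCard (⟨b, h.mem⟩ : B))
  have hb : Commute b c := by
    obtain ⟨k, hk⟩ := hbodd
    have : (b ^ 2) ^ (k + 1) = b := by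
      rw [← pow_mul, show 2 * (k + 1) = orderOf b + 1 by omega, pow_succ, pow_orderOf_eq_one,
        one_mul]
    exact this ▸ hb2.pow_left (k + 1)
  have hcc : c ^ 2 = 1 := by
    rw [mul_assoc, ← hb.eq, inv_mul_cancel_left] at hpsi
    rw [pow_two]; nth_rewrite 1 [hpsi]; exact inv_mul_cancel c
  have hcodd : Odd (orderOf c) := by
    have hcB : c ∈ B :=
      B.commutator_le_self (commutator_mem_commutator (h.twistComm_mem_B hx) (h.twistComm_mem_B hy))
    exact hodd.of_dvd_nat (Subgroup.orderOf_mk c hcB ▸ orderOf_dvd_natCard (⟨c, hcB⟩ : B))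
  have hc1 : c = 1 := by
    obtain ⟨k, hk⟩ := hcodd
    have := pow_orderOf_eq_one c
    rwa [hk, pow_succ, pow_mul, hcc, one_pow, one_mul] at this
  exact commutatorElement_eq_one_iff_mul_comm.mp hc1

/-- `T(xy) = x (T y) x⁻¹ (T x)`. -/
theorem twistComm_mul (b x y : G) :
    twistComm b (x * y) = x * twistComm b y * x⁻¹ * twistComm b x := by
  simp [twistComm, mul_assoc]

theorem twistComm_one (b : G) : twistComm b 1 = 1 := by simp [twistComm]

theorem twistComm_mem_replStar {a : G} (ha : a ∈ A) : twistComm b a ∈ replStar A b :=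
  le_sup_right (a := A ⊓ A.map (MulAut.conj (b⁻¹)).toMonoidHom) (subset_closure ⟨a, ha, rfl⟩)

theorem I_le_replStar : A ⊓ A.map (MulAut.conj (b⁻¹)).toMonoidHom ≤ replStar A b := le_sup_left

/-- `A*` is commutative. -/
theorem isMulCommutative_replStar [Finite G] (h : ReplData A B N b) :
    IsMulCommutative (replStar A b) := by
  refine isMulCommutative_sup (isMulCommutative_of_le h.comm inf_le_left)
    (Subgroup.isMulCommutative_closure ?_) ?_
  · rintro _ ⟨x, hx, rfl⟩ _ ⟨y, hy, rfl⟩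
    exact (h.twistComm_comm hx hy).eq
  · rw [centralizer_closure]
    rintro i hi _ ⟨a, ha, rfl⟩
    exact (h.twistComm_commutes ha hi).eq

theorem derived_le_replStar (h : ReplData A B N b) : ⁅B, B⁆ ≤ replStar A b :=
  le_trans (commutator_le.mpr fun _ hx _ hy => h.commutatorElement_mem_I hx hy) I_le_replStar

theorem replStar_le_sup (h : ReplData A B N b) :
    replStar A b ≤ A ⊔ A.map (MulAut.conj (b⁻¹)).toMonoidHom := by
  refine sup_le (inf_le_left.trans le_sup_left) ((closure_le _).mpr ?_)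
  rintro _ ⟨a, ha, rfl⟩
  rw [← twistComm, twistComm_eq]
  exact mul_mem (mem_sup_left ha) (mem_sup_right (h.twist_mem ha))

theorem replStar_le_N (h : ReplData A B N b) : replStar A b ≤ N :=
  h.replStar_le_sup.trans (sup_le h.le h.conj_A_le)

/-- `N` normalizes `A*`. -/
theorem N_le_normalizer_replStar [Finite G] (h : ReplData A B N b) :
    N ≤ normalizer (replStar A b : Set G) := by
  intro n hn
  rw [mem_normalizer_iff_map_conj_eq]
  refine eq_of_le_of_card_ge ?_ ?_
  swap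
  · exact (Nat.card_congr (equivMapOfInjective _ _ (MulAut.conj n).injective).toEquiv).le
  rw [map_le_iff_le_comap]
  refine sup_le ?_ ((closure_le _).mpr ?_)
  · intro i hi
    refine I_le_replStar (mem_inf.mpr ⟨(mem_normalizer_iff.mp (h.normA hn) i).mp hi.1, ?_⟩)
    exact (mem_normalizer_iff.mp (h.N_le_normalizer_conj hn) i).mp hi.2
  rintro _ ⟨a, ha, rfl⟩
  rw [← twistComm]
  show n * twistComm b a * n⁻¹ ∈ replStar A b
  -- `e = n⁻¹ ψ(n)`
  set e := n⁻¹ * (b⁻¹ * n * b) with he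
  have heB : e ∈ B := by
    have := (mem_normalizer_iff.mp (h.normB (inv_mem hn)) _).mp (inv_mem h.mem)
    rw [inv_inv] at this
    have e1 : e = n⁻¹ * b⁻¹ * n * b := by simp [he, mul_assoc]
    rw [e1]; exact mul_mem this h.mem
  have heN : e ∈ N := by
    have := (mem_normalizer_iff.mp (inv_mem h.normN) n).mp hn
    rw [inv_inv] at this
    exact mul_mem (inv_mem hn) this
  have hq : ⁅e, b⁻¹ * a⁻¹ * b⁆ ∈ A ⊓ A.map (MulAut.conj (b⁻¹)).toMonoidHom := by
    rw [show b⁻¹ * a⁻¹ * b = a⁻¹ * twistComm b a by simp [twistComm, mul_assoc],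
      commutatorElement_mul_right_eq_mul_conj]
    have h1 : ⁅e, a⁻¹⁆ ∈ A ⊓ A.map (MulAut.conj (b⁻¹)).toMonoidHom := by
      refine h.inf_B_le (mem_inf.mpr ⟨?_, ?_⟩)
      · rw [commutatorElement_def]
        exact mul_mem ((mem_normalizer_iff.mp (h.normA heN) _).mp (inv_mem ha)) (inv_mem (inv_mem ha))
      · rw [← commutatorElement_inv]
        exact inv_mem (h.commutatorElement_mem_B (inv_mem (h.le ha)) heB)
    have h2 := h.commutatorElement_mem_I heB (h.twistComm_mem_B ha)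
    rw [mul_assoc ⁅e, a⁻¹⁆, mul_assoc ⁅e, a⁻¹⁆,
      (h.A_commutes (inv_mem ha) h2).eq, mul_inv_cancel_right]
    exact mul_mem h1 h2
  set j := ⁅e, b⁻¹ * a⁻¹ * b⁆ with hj
  have hna : n * a * n⁻¹ ∈ A := (mem_normalizer_iff.mp (h.normA hn) a).mp ha
  have key : twistComm b (n * a * n⁻¹) = n * j * n⁻¹ * (n * twistComm b a * n⁻¹) := by
    calc twistComm b (n * a * n⁻¹) = n * (a * j) * n⁻¹ * (n * (b⁻¹ * a⁻¹ * b) * n⁻¹) := by
          simp [twistComm, hj, he, commutatorElement_def, mul_assoc]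
      _ = n * j * n⁻¹ * (n * twistComm b a * n⁻¹) := by
          rw [(h.A_commutes ha hq).eq, twistComm_eq]; group
  have hnj : n * j * n⁻¹ ∈ replStar A b :=
    I_le_replStar (mem_inf.mpr ⟨(mem_normalizer_iff.mp (h.normA hn) j).mp hq.1,
      (mem_normalizer_iff.mp (h.N_le_normalizer_conj hn) j).mp hq.2⟩)
  have : n * twistComm b a * n⁻¹ = (n * j * n⁻¹)⁻¹ * twistComm b (n * a * n⁻¹) := by
    rw [key, inv_mul_cancel_left]
  rw [this]
  exact mul_mem (inv_mem hnj) (twistComm_mem_replStar hna)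

theorem b_conj_mem_I (h : ReplData A B N b) {x : G}
    (hx : x ∈ A ⊓ A.map (MulAut.conj (b⁻¹)).toMonoidHom) :
    b * x * b⁻¹ ∈ A ⊓ A.map (MulAut.conj (b⁻¹)).toMonoidHom := by
  have hbx : b * x * b⁻¹ ∈ A := mem_map_conj_inv.mp hx.2
  refine mem_inf.mpr ⟨hbx, ?_⟩
  -- `u = [b, x]` lies in `A ⊓ B`
  have huA : ⁅b, x⁆ ∈ A := mul_mem hbx (inv_mem hx.1)
  have huB : ⁅b, x⁆ ∈ B := by
    rw [← commutatorElement_inv]; exact inv_mem (h.commutatorElement_mem_B (h.le hx.1) h.mem)
  have := mul_mem (h.inf_B_le (mem_inf.mpr ⟨huA, huB⟩)).2 hx.2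
  rwa [commutatorElement_def, inv_mul_cancel_right] at this

/-- `b` normalizes `A*`. -/
theorem b_mem_normalizer_replStar [Finite G] (h : ReplData A B N b) :
    b ∈ normalizer (replStar A b : Set G) := by
  rw [mem_normalizer_iff_map_conj_eq]
  refine eq_of_le_of_card_ge ?_ ?_
  swap
  · exact (Nat.card_congr (equivMapOfInjective _ _ (MulAut.conj b).injective).toEquiv).le
  rw [map_le_iff_le_comap]
  refine sup_le (fun i hi => I_le_replStar (h.b_conj_mem_I hi)) ((closure_le _).mpr ?_)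
  rintro _ ⟨a, ha, rfl⟩
  rw [← twistComm]
  show b * twistComm b a * b⁻¹ ∈ replStar A b
  have : b * twistComm b a * b⁻¹ = ⁅b, twistComm b a⁆ * twistComm b a := by
    rw [commutatorElement_def, inv_mul_cancel_right]
  rw [this]
  exact mul_mem (h.derived_le_replStar (commutator_mem_commutator h.mem (h.twistComm_mem_B ha)))
    (twistComm_mem_replStar ha)

/-- Elements of `A*` are `i · T a`. -/
theorem mem_replStar [Finite G] (h : ReplData A B N b) {x : G} (hx : x ∈ replStar A b) :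
    ∃ i ∈ A ⊓ A.map (MulAut.conj (b⁻¹)).toMonoidHom, ∃ a ∈ A, x = i * twistComm b a := by
  let P : G → Prop := fun x =>
    ∃ i ∈ A ⊓ A.map (MulAut.conj (b⁻¹)).toMonoidHom, ∃ a ∈ A, x = i * twistComm b a
  have hone : P 1 := ⟨1, one_mem _, 1, one_mem _, by rw [twistComm_one, mul_one]⟩
  have hmul : ∀ x y, P x → P y → P (x * y) := by
    rintro _ _ ⟨i, hi, a, ha, rfl⟩ ⟨j, hj, c, hc, rfl⟩
    obtain ⟨hzI, hz⟩ := h.commutatorElement_twist hc ha
    refine ⟨i * j * ⁅c, b⁻¹ * a⁻¹ * b⁆⁻¹, mul_mem (mul_mem hi hj) (inv_mem hzI), c * a,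
      mul_mem hc ha, ?_⟩
    have e : twistComm b (c * a) = ⁅c, b⁻¹ * a⁻¹ * b⁆ * twistComm b a * twistComm b c := by
      rw [twistComm_mul, ← hz, commutatorElement_def, inv_mul_cancel_right]
    rw [e, ← mul_assoc (i * j * _), ← mul_assoc (i * j * _), inv_mul_cancel_right,
      mul_assoc i (twistComm b a), ← mul_assoc (twistComm b a) j,
      (h.twistComm_commutes ha hj).eq]
    simp only [mul_assoc]
  have hpow : ∀ x, P x → ∀ n : ℕ, P (x ^ n) := by
    intro x hx n
    induction n with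
    | zero => rw [pow_zero]; exact hone
    | succ n ih => rw [pow_succ]; exact hmul _ _ ih hx
  have hinv : ∀ x, P x → P x⁻¹ := by
    intro x hx
    have : x⁻¹ = x ^ (orderOf x - 1) := by
      refine inv_eq_of_mul_eq_one_left ?_
      rw [← pow_succ, Nat.sub_add_cancel (orderOf_pos x), pow_orderOf_eq_one]
    rw [this]; exact hpow x hx _
  rw [replStar, sup_eq_closure_union] at hx
  induction hx using Subgroup.closure_induction with
  | mem x hx =>
    rcases hx with hi | ha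
    · exact ⟨x, hi, 1, one_mem _, by rw [twistComm_one, mul_one]⟩
    · induction ha using Subgroup.closure_induction with
      | mem x hx =>
        obtain ⟨a, ha, rfl⟩ := hx
        exact ⟨1, one_mem _, a, ha, by rw [one_mul, twistComm]⟩
      | one => exact hone
      | mul x y _ _ ihx ihy => exact hmul _ _ ihx ihy
      | inv x _ ih => exact hinv _ ih
  | one => exact hone
  | mul x y _ _ ihx ihy => exact hmul _ _ ihx ihy
  | inv x _ ih => exact hinv _ ih

/-- `A ⊓ A* = A ⊓ ψA`. -/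
theorem inf_replStar [Finite G] (h : ReplData A B N b) :
    A ⊓ replStar A b = A ⊓ A.map (MulAut.conj (b⁻¹)).toMonoidHom := by
  refine le_antisymm ?_ (le_inf inf_le_left I_le_replStar)
  intro x hx
  obtain ⟨hxA, hxS⟩ := mem_inf.mp hx
  obtain ⟨i, hi, a, ha, rfl⟩ := h.mem_replStar hxS
  have hTA : twistComm b a ∈ A := by
    have := mul_mem (A.inv_mem hi.1) hxA
    rwa [inv_mul_cancel_left] at this
  have hq : b⁻¹ * a⁻¹ * b ∈ A ⊓ A.map (MulAut.conj (b⁻¹)).toMonoidHom := by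
    refine mem_inf.mpr ⟨?_, h.twist_mem ha⟩
    have := mul_mem (inv_mem ha) hTA
    rwa [twistComm_eq, inv_mul_cancel_left] at this
  have ha' : a ∈ A ⊓ A.map (MulAut.conj (b⁻¹)).toMonoidHom := by
    have := inv_mem (h.b_conj_mem_I hq)
    simpa [mul_assoc] using this
  rw [twistComm_eq]
  exact mul_mem hi (mul_mem ha' hq)

theorem card_replStar [Finite G] (h : ReplData A B N b) :
    Nat.card (replStar A b) = Nat.card A := by
  have hsup : A ⊔ replStar A b = A ⊔ A.map (MulAut.conj (b⁻¹)).toMonoidHom := by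
    refine le_antisymm (sup_le le_sup_left h.replStar_le_sup) (sup_le le_sup_left ?_)
    intro x hx
    rw [mem_map_conj_inv] at hx
    have : x = (b * x * b⁻¹) * (twistComm b (b * x * b⁻¹)⁻¹) := by simp [twistComm, mul_assoc]
    rw [this]
    exact mul_mem (mem_sup_left hx) (mem_sup_right (twistComm_mem_replStar (inv_mem hx)))
  have h1 := card_sup_mul_card_inf (A := A) (B := replStar A b)
    (h.le.trans h.N_le_normalizer_replStar)
  have h2 := card_sup_mul_card_inf (A := A) (B := A.map (MulAut.conj (b⁻¹)).toMonoidHom)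
    (h.le.trans h.N_le_normalizer_conj)
  rw [hsup, h.inf_replStar, h2] at h1
  have h3 : Nat.card (A.map (MulAut.conj (b⁻¹)).toMonoidHom) = Nat.card A :=
    (Nat.card_congr (equivMapOfInjective _ _ (MulAut.conj (b⁻¹)).injective).toEquiv).symm
  rw [← h3]
  exact (Nat.eq_of_mul_eq_mul_left Nat.card_pos h1).symm

theorem inf_lt (h : ReplData A B N b) [Finite G] (hb : b ∉ normalizer (A : Set G)) :
    A ⊓ B < replStar A b ⊓ B := by
  refine lt_of_le_not_ge (le_inf (h.inf_B_le.trans I_le_replStar) inf_le_right) fun hle => hb ?_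
  rw [← inv_mem_iff, mem_normalizer_iff_map_conj_eq]
  refine eq_of_le_of_card_ge ?_ ?_
  · rintro _ ⟨a, ha, rfl⟩
    have := (hle (mem_inf.mpr ⟨twistComm_mem_replStar (inv_mem ha),
      h.twistComm_mem_B (inv_mem ha)⟩)).1
    have := mul_mem ha this
    simpa [twistComm, mul_assoc] using this
  · exact (Nat.card_congr (equivMapOfInjective A _ (MulAut.conj (b⁻¹)).injective).toEquiv).le

theorem replStar_le_normalizer (h : ReplData A B N b) : replStar A b ≤ normalizer (A : Set G) :=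
  h.replStar_le_N.trans h.normA

/-- For odd exponent of `A` the exponent of `A*` divides it. -/
theorem exponent_replStar_dvd [Finite G] (h : ReplData A B N b) (hodd : Odd (Monoid.exponent A)) :
    Monoid.exponent (replStar A b) ∣ Monoid.exponent A := by
  set n := Monoid.exponent A with hn
  have hA : ∀ a ∈ A, a ^ n = 1 := fun a ha =>
    congrArg Subtype.val (Monoid.pow_exponent_eq_one (⟨a, ha⟩ : A))
  refine Monoid.exponent_dvd_of_forall_pow_eq_one fun x => Subtype.ext ?_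
  rw [Subgroup.coe_pow, Subgroup.coe_one]
  obtain ⟨i, hi, a, ha, hx⟩ := h.mem_replStar x.2
  rw [hx, (h.twistComm_commutes ha hi).symm.mul_pow, hA i hi.1, one_mul]
  obtain ⟨hzI, hz⟩ := h.commutatorElement_twist ha ha
  set z := ⁅a, b⁻¹ * a⁻¹ * b⁆ with hzd
  have hfix : a * twistComm b a * a⁻¹ = z * twistComm b a := by
    rw [← hz, commutatorElement_def, inv_mul_cancel_right]
  have hTz : Commute (twistComm b a) z := h.twistComm_commutes ha hzI
  have form : ∀ k : ℕ, twistComm b (a ^ k) = z ^ k.choose 2 * twistComm b a ^ k := by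
    intro k
    induction k with
    | zero => rw [pow_zero, twistComm_one, Nat.choose_zero_succ, pow_zero, pow_zero, one_mul]
    | succ k ih =>
      rw [pow_succ', twistComm_mul, ih, pow_succ, Nat.choose_succ_succ', Nat.choose_one_right,
        pow_add, ← MulAut.conj_apply a, map_mul, map_pow, map_pow, MulAut.conj_apply,
        MulAut.conj_apply, hfix, (h.A_commutes ha hzI).eq, mul_inv_cancel_right, hTz.symm.mul_pow]
      have hcomm : z ^ k.choose 2 * (z ^ k * twistComm b a ^ k) = z ^ k * z ^ k.choose 2 *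
          twistComm b a ^ k := by
        rw [← mul_assoc, ← pow_add, ← pow_add, add_comm]
      rw [hcomm]; simp only [mul_assoc]
  have hdvd : n ∣ n.choose 2 := by
    obtain ⟨k, hk⟩ := hodd
    refine ⟨k, ?_⟩
    rw [Nat.choose_two_right, hk, Nat.add_sub_cancel, mul_left_comm, Nat.mul_div_cancel_left _ two_pos]
  obtain ⟨d, hd⟩ := hdvd
  have := form n
  rwa [hA a ha, twistComm_one, hd, pow_mul, hA z hzI.1, one_pow, one_mul, eq_comm] at this

end ReplData

end CfsgLib.PLocal
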