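/-
Quadratic action by conjugation on an abelian subgroup, and the kernel-lifting lemmas around `O_p(G/C_G(V))`.
-/
import Cfsg.Agent.PLocal.Replacement
import Cfsg.Agent.PLocal.Constraint
set_option autoImplicit false

namespace CfsgLib.PLocal

open Cfsg Subgroup
open scoped commutatorElement

variable {G : Type*} [Group G] {p : ℕ}

theorem zpowers_le_normalizer {V : Subgroup G} {a : G} (ha : a ∈ normalizer (V : Set G)) :
    Subgroup.zpowers a ≤ normalizer (V : Set G) :=
  zpowers_le.mpr ha

theorem commutatorElement_zpow_right_of_comm {v a : G} (h : ∀ k : ℤ, ⁅v, a⁆ * a ^ k = a ^ k * ⁅v, a⁆) :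
    ∀ n : ℕ, ⁅v, a ^ n⁆ = ⁅v, a⁆ ^ n
  | 0 => by simp
  | n + 1 => by
    have h1 := h n
    rw [zpow_natCast] at h1
    rw [pow_succ a, commutatorElement_mul_right_eq_mul_conj, commutatorElement_zpow_right_of_comm h n,
      mul_assoc (_ ^ n) (a ^ n), ← h1, pow_succ, ← mul_assoc, mul_inv_cancel_right]

/-- The subgroup `[V,⟨a⟩]` is generated by the commutators `[v,a]` when these commute with `a`. -/
theorem quadratic_iff {V : Subgroup G} {a : G} (ha : a ∈ normalizer (V : Set G)) :
    ⁅⁅V, Subgroup.zpowers a⁆, Subgroup.zpowers a⁆ = ⊥ ↔ ∀ v ∈ V, Commute ⁅v, a⁆ a := by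
  rw [commutator_eq_bot_iff_forall]
  constructor
  · exact fun h v hv =>
      h _ (commutator_mem_commutator hv (mem_zpowers a)) a (mem_zpowers a)
  · intro h x hx b hb
    obtain ⟨m, rfl⟩ := mem_zpowers_iff.mp hb
    refine Commute.zpow_right ?_ m
    have : x ∈ centralizer ({a} : Set G) := by
      refine (commutator_le.mpr ?_) hx
      intro v hv c hc
      obtain ⟨k, rfl⟩ := mem_zpowers_iff.mp hc
      rw [mem_centralizer_singleton_iff]
      have hpos : ∀ (n : ℕ) (w : G), w ∈ V → Commute ⁅w, a ^ n⁆ a := by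
        intro n w hw
        rw [commutatorElement_zpow_right_of_comm (fun k => (h w hw).zpow_right k) n]
        exact (h w hw).pow_left n
      cases k with
      | ofNat n => rw [Int.ofNat_eq_natCast, zpow_natCast]; exact hpos n v hv
      | negSucc n =>
        rw [zpow_negSucc]
        have hw : a ^ (n + 1) * v * (a ^ (n + 1))⁻¹ ∈ V :=
          (mem_normalizer_iff.mp (pow_mem ha _) _).mp hv
        have hinv := (hpos (n + 1) v hv).inv_left
        -- `[v, a^{-n}]` is the conjugate of `[v, a^n]⁻¹` by `a^{-n}`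
        have e : ⁅v, (a ^ (n + 1))⁻¹⁆ =
            (a ^ (n + 1))⁻¹ * ⁅v, a ^ (n + 1)⁆⁻¹ * a ^ (n + 1) := by
          rw [commutatorElement_inv_right, commutatorElement_inv]
        have hca : Commute ((a ^ (n + 1))⁻¹) a := (Commute.pow_self a _).inv_left
        rw [e]
        exact (hca.mul_left hinv).mul_left (Commute.pow_self a _)
    exact mem_centralizer_singleton_iff.mp this

theorem quadratic_mono {V W : Subgroup G} {A : Subgroup G} (hVW : V ≤ W) (h : ⁅⁅W, A⁆, A⁆ = ⊥) :
    ⁅⁅V, A⁆, A⁆ = ⊥ :=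
  le_bot_iff.mp (h ▸ commutator_mono (commutator_mono hVW le_rfl) le_rfl)

theorem quadratic_map {H : Type*} [Group H] (f : G →* H) {V : Subgroup G} {a : G}
    (h : ⁅⁅V, Subgroup.zpowers a⁆, Subgroup.zpowers a⁆ = ⊥) :
    ⁅⁅V.map f, Subgroup.zpowers (f a)⁆, Subgroup.zpowers (f a)⁆ = ⊥ := by
  rw [← f.map_zpowers, ← map_commutator, ← map_commutator, h, Subgroup.map_bot]

theorem quadratic_of_map {H : Type*} [Group H] {f : G →* H} (hf : Function.Injective f)
    {V : Subgroup G} {a : G}
    (h : ⁅⁅V.map f, Subgroup.zpowers (f a)⁆, Subgroup.zpowers (f a)⁆ = ⊥) :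
    ⁅⁅V, Subgroup.zpowers a⁆, Subgroup.zpowers a⁆ = ⊥ := by
  rw [← f.map_zpowers, ← map_commutator, ← map_commutator] at h
  exact (map_eq_bot_iff_of_injective _ hf).mp h

/-- Multiplying by an element centralizing `V` does not affect quadratic action. -/
theorem commutatorElement_centralizer_mul {V : Subgroup G} {v c a : G} (hv : v ∈ V)
    (hc : c ∈ centralizer (V : Set G)) (ha : a ∈ normalizer (V : Set G)) :
    ⁅v, c * a⁆ = ⁅v, a⁆ := by
  have h1 : ⁅v, c⁆ = 1 := commutatorElement_eq_one_iff_mul_comm.mpr (mem_centralizer_iff.mp hc v hv)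
  rw [commutatorElement_mul_right_eq_mul_conj, h1, one_mul, ← mem_centralizer_iff.mp hc _
    (commutatorElement_mem hv ha), mul_inv_cancel_right]

theorem quadratic_centralizer_mul {V : Subgroup G} {c a : G}
    (hc : c ∈ centralizer (V : Set G)) (ha : a ∈ normalizer (V : Set G))
    (h : ⁅⁅V, Subgroup.zpowers a⁆, Subgroup.zpowers a⁆ = ⊥) :
    ⁅⁅V, Subgroup.zpowers (c * a)⁆, Subgroup.zpowers (c * a)⁆ = ⊥ := by
  rw [quadratic_iff (mul_mem (centralizer_le_normalizer _ hc) ha)]
  intro v hv
  rw [commutatorElement_centralizer_mul hv hc ha]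
  exact Commute.mul_right (mem_centralizer_iff.mp hc _ (commutatorElement_mem hv ha))
    ((quadratic_iff ha).mp h v hv)

/-- A quadratically acting element: `p`-th powers centralize when `V` has exponent `p`. -/
theorem pow_mem_centralizer_of_quadratic {V : Subgroup G} {a : G}
    (hexp : ∀ v ∈ V, v ^ p = 1) (ha : a ∈ normalizer (V : Set G))
    (h : ⁅⁅V, Subgroup.zpowers a⁆, Subgroup.zpowers a⁆ = ⊥) :
    a ^ p ∈ centralizer (V : Set G) := by
  intro v hv
  refine commutatorElement_eq_one_iff_mul_comm.mp ?_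
  rw [commutatorElement_zpow_right_of_comm (fun k => ((quadratic_iff ha).mp h v hv).zpow_right k),
    hexp _ (commutatorElement_mem hv ha)]

/-- If `D/C` is a `p`-group then a Sylow `p`-subgroup `S` of `G` covers it: `D ≤ (D ∩ S) C`,
for normal subgroups `C ≤ D`. -/
theorem le_inf_sylow_sup [Finite G] [Fact p.Prime] (S : Sylow p G) {C D : Subgroup G} [C.Normal]
    [D.Normal] (hCD : C ≤ D) {k : ℕ} (hk : C.relIndex D = p ^ k) :
    D ≤ (D ⊓ (S : Subgroup G)) ⊔ C := by
  have hle : (D ⊓ (S : Subgroup G)) ⊔ C ≤ D := sup_le inf_le_left hCD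
  rw [← relIndex_eq_one]
  have h1 : ((D ⊓ (S : Subgroup G)) ⊔ C).relIndex D ∣ p ^ k :=
    hk ▸ relIndex_dvd_of_le_left D le_sup_right
  have h2 : ((D ⊓ (S : Subgroup G)) ⊔ C).relIndex D ∣ (D ⊓ (S : Subgroup G)).relIndex D :=
    relIndex_dvd_of_le_left D le_sup_left
  have h3 : (D ⊓ (S : Subgroup G)).relIndex D ∣ (S : Subgroup G).index := by
    rw [inf_relIndex_left]
    have := relIndex_dvd_index_of_le (le_sup_left : (S : Subgroup G) ≤ (S : Subgroup G) ⊔ D)
    have e : ((S : Subgroup G)).relIndex ((S : Subgroup G) ⊔ D) = (S : Subgroup G).relIndex D := by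
      have c1 := card_sup_mul_card_inf (A := (S : Subgroup G)) (B := D)
        (le_top.trans (normalizer_eq_top D).ge)
      have c2 : Nat.card (S : Subgroup G) * ((S : Subgroup G)).relIndex ((S : Subgroup G) ⊔ D) =
          Nat.card ↥((S : Subgroup G) ⊔ D) := card_mul_relIndex le_sup_left
      have c3 : Nat.card ↥((S : Subgroup G) ⊓ D) * (S : Subgroup G).relIndex D = Nat.card D := by
        rw [← inf_relIndex_right]; exact card_mul_relIndex inf_le_right
      rw [← c2, ← c3] at c1
      refine Nat.eq_of_mul_eq_mul_left (n := Nat.card (S : Subgroup G) * Nat.card ↥((S : Subgroup G) ⊓ D))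
        (Nat.mul_pos Nat.card_pos Nat.card_pos) ?_
      rw [← c2] at *
      linarith [c1]
    rwa [e] at this
  have h4 : ¬ p ∣ ((D ⊓ (S : Subgroup G)) ⊔ C).relIndex D := fun h =>
    S.not_dvd_index ((h.trans h2).trans h3)
  obtain ⟨i, _, hi⟩ := (Nat.dvd_prime_pow Fact.out).mp h1
  rcases Nat.eq_zero_or_pos i with rfl | hi0
  · simpa using hi
  · exact absurd (hi ▸ dvd_pow_self p hi0.ne') h4

/-- Characterisation of `O_p(G/C) = 1` through normal subgroups over `C`. -/
theorem pCore_quotient_eq_bot_iff [Finite G] [Fact p.Prime] (C : Subgroup G) [C.Normal] :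
    pCore p (G ⧸ C) = ⊥ ↔
      ∀ D : Subgroup G, D.Normal → C ≤ D → (∃ k : ℕ, C.relIndex D = p ^ k) → D = C := by
  constructor
  · rintro h D hD hCD ⟨k, hk⟩
    refine le_antisymm ?_ hCD
    have hDn : (D.map (QuotientGroup.mk' C)).Normal := hD.map _ (QuotientGroup.mk'_surjective C)
    have h1 := relIndex_ker (K := D) (QuotientGroup.mk' C)
    rw [QuotientGroup.ker_mk', hk] at h1
    have h2 := le_bot_iff.mp (h ▸ le_pCore (IsPGroup.of_card h1.symm))
    rwa [Subgroup.map_eq_bot_iff, QuotientGroup.ker_mk'] at h2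
  · intro h
    have hle : C ≤ (pCore p (G ⧸ C)).comap (QuotientGroup.mk' C) := by
      have := comap_mono (f := QuotientGroup.mk' C) (bot_le (a := pCore p (G ⧸ C)))
      rwa [MonoidHom.comap_bot, QuotientGroup.ker_mk'] at this
    have h1 := relIndex_ker (K := (pCore p (G ⧸ C)).comap (QuotientGroup.mk' C)) (QuotientGroup.mk' C)
    rw [QuotientGroup.ker_mk', map_comap_eq_self_of_surjective (QuotientGroup.mk'_surjective C)] at h1
    obtain ⟨k, hk⟩ := IsPGroup.iff_card.mp (isPGroup_pCore p (G ⧸ C))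
    have h2 := h _ inferInstance hle ⟨k, h1.trans hk⟩
    rw [← map_comap_eq_self_of_surjective (QuotientGroup.mk'_surjective C) (pCore p (G ⧸ C)), h2,
      Subgroup.map_eq_bot_iff, QuotientGroup.ker_mk']

/-- If every Sylow `p`-subgroup fixes enough of the normal subgroup `V` to generate it, no normal
`p`-subgroup of `G/C_G(V)` is nontrivial. -/
theorem eq_centralizer_of_generated [Finite G] [Fact p.Prime] (V : Subgroup G) [V.Normal]
    (hgen : V ≤ ⨆ S : Sylow p G, V ⊓ centralizer ((S : Subgroup G) : Set G)) {D : Subgroup G}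
    (hD : D.Normal) (hCD : centralizer (V : Set G) ≤ D)
    (hk : ∃ k : ℕ, (centralizer (V : Set G)).relIndex D = p ^ k) :
    D = centralizer (V : Set G) := by
  obtain ⟨k, hk⟩ := hk
  refine le_antisymm ?_ hCD
  rw [le_centralizer_iff]
  refine hgen.trans (iSup_le fun S => ?_)
  rw [le_centralizer_iff]
  refine (le_inf_sylow_sup S hCD hk).trans (sup_le ?_ ?_)
  · rw [le_centralizer_iff]
    exact inf_le_right.trans (centralizer_le inf_le_right)
  · exact centralizer_le inf_le_left

end CfsgLib.PLocal
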