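/-
`p`-stable actions: lifting `O_p(G/C)`, Frattini arguments, and the kernel of the action on `P/Φ(P)`.
-/
import Cfsg.Agent.PLocal.Quadratic
import Cfsg.Agent.Coprime.Action
import Cfsg.Agent.Transfer.Residual
set_option autoImplicit false

namespace CfsgLib.PLocal

open Cfsg Subgroup
open scoped commutatorElement

variable {G : Type*} [Group G] {p : ℕ}

theorem isPGroup_of_forall_coprime_eq_one [Finite G] [Fact p.Prime]
    (h : ∀ x : G, (orderOf x).Coprime p → x = 1) : IsPGroup p G := by
  intro g
  obtain ⟨e, m, hm, he⟩ := Nat.exists_eq_pow_mul_and_not_dvd (orderOf_pos g).ne' p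
    (Fact.out : p.Prime).ne_one
  refine ⟨e, h _ ?_⟩
  rw [orderOf_pow' g (pow_ne_zero e (Fact.out : p.Prime).ne_zero), he, Nat.gcd_mul_right_left,
    Nat.mul_div_cancel_left _ (pow_pos (Fact.out : p.Prime).pos e)]
  exact not_dvd_iff_coprime.mpr hm

/-- Frattini argument with the intersection of a Sylow subgroup and a normal subgroup. -/
theorem normalizer_inf_sylow_sup [Finite G] [Fact p.Prime] (S : Sylow p G) (D : Subgroup G)
    [D.Normal] :
    normalizer ((D ⊓ (S : Subgroup G) : Subgroup G) : Set G) ⊔ D = ⊤ := by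
  have hidx : ¬ p ∣ ((S : Subgroup G).subgroupOf D).index :=
    CfsgLib.Transfer.not_dvd_relIndex_of_normal S D
  let P : Sylow p D := (S.isPGroup'.comap_subtype (K := D)).toSylow hidx
  have := Sylow.normalizer_sup_eq_top P
  have e : (P : Subgroup D) = (S : Subgroup G).subgroupOf D := rfl
  rwa [e, subgroupOf_map_subtype, inf_comm] at this

theorem omegaOne_normal (A : Subgroup G) [hA : A.Normal] : (omegaOne p A).Normal := by
  refine ⟨fun x hx g => ?_⟩
  have h := map_omegaOne (p := p) (f := (MulAut.conj g).toMonoidHom) (MulAut.conj g).injective A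
  have hA' : A.map (MulAut.conj g).toMonoidHom = A := by
    refine le_antisymm ?_ ?_
    · rintro _ ⟨a, ha, rfl⟩
      exact hA.conj_mem a ha g
    · intro a ha
      exact ⟨g⁻¹ * a * g, by simpa using hA.conj_mem a ha g⁻¹, by simp [mul_assoc]⟩
  rw [hA'] at h
  rw [← h]
  exact ⟨x, hx, rfl⟩

theorem inf_centralizer_normal (A : Subgroup G) [A.Normal] :
    (A ⊓ centralizer (A : Set G)).Normal :=
  inferInstance

/-- The join of the `Ω₁(Z(S))` over all Sylow subgroups is normal. -/
theorem iSup_omegaOne_center_normal (p : ℕ) (G : Type*) [Group G] :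
    (⨆ S : Sylow p G, omegaOne p ((S : Subgroup G) ⊓ centralizer ((S : Subgroup G) : Set G))).Normal := by
  constructor
  intro x hx g
  have hmap : (⨆ S : Sylow p G, omegaOne p ((S : Subgroup G) ⊓
      centralizer ((S : Subgroup G) : Set G))).map (MulAut.conj g).toMonoidHom ≤
      ⨆ S : Sylow p G, omegaOne p ((S : Subgroup G) ⊓ centralizer ((S : Subgroup G) : Set G)) := by
    rw [Subgroup.map_iSup]
    refine iSup_le fun S => ?_
    have hi : Function.Injective (MulAut.conj g).toMonoidHom := (MulAut.conj g).injective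
    rw [map_omegaOne hi, map_inf_centralizer hi]
    exact le_iSup (fun T : Sylow p G => omegaOne p ((T : Subgroup G) ⊓
      centralizer ((T : Subgroup G) : Set G))) (g • S)
  exact hmap ⟨x, hx, rfl⟩

/-- If the action on a normal subgroup `V` is `p`-stable, a quadratic element lies in a normal subgroup
`D ≥ C_G(V)` with `[D : C_G(V)]` a power of `p`. -/
theorem exists_normal_of_isPStableOn [Finite G] [Fact p.Prime] {V : Subgroup G} [V.Normal]
    (h : IsPStableOn p V) {a : G}
    (hq : ⁅⁅V, Subgroup.zpowers a⁆, Subgroup.zpowers a⁆ = ⊥) :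
    ∃ D : Subgroup G, D.Normal ∧ centralizer (V : Set G) ≤ D ∧
      (∃ k : ℕ, (centralizer (V : Set G)).relIndex D = p ^ k) ∧ a ∈ D := by
  let π := QuotientGroup.mk' (centralizer (V : Set G))
  refine ⟨(pCore p (G ⧸ centralizer (V : Set G))).comap π, inferInstance, ?_, ?_, h a hq⟩
  · have := comap_mono (f := π) (bot_le (a := pCore p (G ⧸ centralizer (V : Set G))))
    rwa [MonoidHom.comap_bot, QuotientGroup.ker_mk'] at this
  · have h1 := relIndex_ker (K := (pCore p (G ⧸ centralizer (V : Set G))).comap π) π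
    rw [QuotientGroup.ker_mk', map_comap_eq_self_of_surjective (QuotientGroup.mk'_surjective _)] at h1
    obtain ⟨k, hk⟩ := IsPGroup.iff_card.mp (isPGroup_pCore p (G ⧸ centralizer (V : Set G)))
    exact ⟨k, h1.trans hk⟩

/-- An element of `D` acting quadratically on `V` differs by an element centralizing `V` from a quadratic
element of a given Sylow subgroup, when `D/C_G(V)` is a `p`-group. -/
theorem exists_quadratic_mem_sylow [Finite G] [Fact p.Prime] (S : Sylow p G) {V D : Subgroup G}
    [V.Normal] [D.Normal] (hCD : centralizer (V : Set G) ≤ D) {k : ℕ}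
    (hk : (centralizer (V : Set G)).relIndex D = p ^ k) {a : G} (ha : a ∈ D)
    (hq : ⁅⁅V, Subgroup.zpowers a⁆, Subgroup.zpowers a⁆ = ⊥) :
    ∃ c ∈ centralizer (V : Set G), ∃ s ∈ (S : Subgroup G),
      a = c * s ∧ ⁅⁅V, Subgroup.zpowers s⁆, Subgroup.zpowers s⁆ = ⊥ := by
  have h1 : a ∈ centralizer (V : Set G) ⊔ (D ⊓ (S : Subgroup G)) := by
    rw [sup_comm]; exact le_inf_sylow_sup S hCD hk ha
  obtain ⟨c, hc, s, hs, rfl⟩ := mem_sup_of_normal_left.mp h1
  refine ⟨c, hc, s, hs.2, rfl, ?_⟩
  have := quadratic_centralizer_mul (a := c * s) (inv_mem hc)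
    (by rw [normalizer_eq_top]; exact mem_top _) hq
  rwa [inv_mul_cancel_left] at this

/-- The kernel of the action on `O_p(G)/Φ(O_p(G))` is a `p`-group when `C_G(O_p(G)) ≤ O_p(G)`. -/
theorem isPGroup_sectionKernel_frattini [Finite G] [Fact p.Prime]
    (hc : centralizer (pCore p G : Set G) ≤ pCore p G) :
    IsPGroup p ↥(sectionKernel (pCore p G) ((frattini ↥(pCore p G)).map (pCore p G).subtype)) := by
  refine isPGroup_of_forall_coprime_eq_one fun x hx => ?_
  have hxo : (orderOf (x : G)).Coprime p := by rwa [Subgroup.orderOf_coe]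
  set P := pCore p G
  set N := (frattini ↥P).map P.subtype
  have hle : ⁅P, Subgroup.zpowers (x : G)⁆ ≤ N := by
    rw [← QuotientGroup.ker_mk' N, ← Subgroup.map_eq_bot_iff, map_commutator,
      commutator_eq_bot_iff_le_centralizer, le_centralizer_iff, MonoidHom.map_zpowers, zpowers_le]
    exact x.2
  have hcard : (Nat.card (Subgroup.zpowers (x : G))).Coprime (Nat.card (frattini ↥P)) := by
    rw [Nat.card_zpowers]
    obtain ⟨n, hn⟩ := IsPGroup.iff_card.mp ((isPGroup_pCore p G).to_subgroup (frattini ↥P))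
    rw [hn]
    exact hxo.pow_right n
  have h1 : (x : G) ∈ P := hc (CfsgLib.Coprime.le_centralizer_of_commutator_le_frattini
    (le_top.trans (normalizer_eq_top P).ge) hcard hle (mem_zpowers _))
  have h2 : (x : G) ∈ P ⊓ Subgroup.zpowers (x : G) := ⟨h1, mem_zpowers _⟩
  rw [disjoint_of_isPGroup_of_coprime (isPGroup_pCore p G)
    (show (Nat.card (Subgroup.zpowers (x : G))).Coprime p from Nat.card_zpowers (x : G) ▸ hxo),
    mem_bot] at h2
  exact Subtype.ext h2

/-- `J(P)` behaves well under maps injective on `P`. -/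
theorem map_thompsonSubgroupOf_of_injOn {H : Type*} [Group H] {f : G →* H} {P : Subgroup G}
    (hf : Function.Injective (f.comp P.subtype)) :
    (thompsonSubgroupOf p P).map f = thompsonSubgroupOf p (P.map f) := by
  rw [thompsonSubgroupOf, Subgroup.map_map, map_thompsonSubgroup hf, MonoidHom.range_comp, range_subtype]

theorem map_thompsonSubgroupAOf_of_injOn {H : Type*} [Group H] {f : G →* H} {P : Subgroup G}
    (hf : Function.Injective (f.comp P.subtype)) :
    (thompsonSubgroupAOf P).map f = thompsonSubgroupAOf (P.map f) := by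
  rw [thompsonSubgroupAOf, Subgroup.map_map, ← thompsonSubgroupAOf_top, map_thompsonSubgroupAOf hf,
    ← MonoidHom.range_eq_map, MonoidHom.range_comp, range_subtype]

theorem map_inf_centralizer_self_of_injOn {H : Type*} [Group H] {f : G →* H} {A P : Subgroup G}
    (hAP : A ≤ P) (hf : Function.Injective (f.comp P.subtype)) :
    (A ⊓ centralizer (A : Set G)).map f = A.map f ⊓ centralizer ((A.map f : Subgroup H) : Set H) := by
  refine le_antisymm ?_ ?_
  · rintro _ ⟨x, hx, rfl⟩
    refine ⟨mem_map_of_mem f hx.1, ?_⟩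
    rintro _ ⟨y, hy, rfl⟩
    rw [← map_mul, ← map_mul, mem_centralizer_iff.mp hx.2 y hy]
  · rintro _ ⟨⟨x, hx, rfl⟩, hc⟩
    refine mem_map_of_mem f ⟨hx, fun y hy => ?_⟩
    have h1 : (f.comp P.subtype) (⟨y * x, mul_mem (hAP hy) (hAP hx)⟩ : P) =
        (f.comp P.subtype) ⟨x * y, mul_mem (hAP hx) (hAP hy)⟩ := by
      show f (y * x) = f (x * y)
      rw [map_mul, map_mul]
      exact hc _ (mem_map_of_mem f hy)
    exact congrArg Subtype.val (hf h1)

theorem map_omegaOne_of_injOn {H : Type*} [Group H] {f : G →* H} {A P : Subgroup G}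
    (hAP : A ≤ P) (hf : Function.Injective (f.comp P.subtype)) :
    (omegaOne p A).map f = omegaOne p (A.map f) := by
  have e : A = (A.subgroupOf P).map P.subtype := by
    rw [subgroupOf_map_subtype, inf_eq_left.mpr hAP]
  conv_lhs => rw [e, ← map_omegaOne P.subtype_injective, Subgroup.map_map, map_omegaOne hf,
    ← Subgroup.map_map, ← e]

/-- A map with kernel of order prime to `p` is injective on every `p`-subgroup. -/
theorem injective_comp_subtype_of_coprime {H : Type*} [Group H] {f : G →* H} {P : Subgroup G}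
    (hP : IsPGroup p P) (hker : (Nat.card f.ker).Coprime p) :
    Function.Injective (f.comp P.subtype) := by
  rw [← MonoidHom.ker_eq_bot_iff, eq_bot_iff]
  intro x hx
  have h : (x : G) ∈ P ⊓ f.ker := ⟨x.2, hx⟩
  rw [disjoint_of_isPGroup_of_coprime hP hker, mem_bot] at h
  exact mem_bot.mpr (Subtype.ext h)

end CfsgLib.PLocal
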