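/-
Glauberman's ZJ theorem, for the abelian and for the elementary abelian subgroups of largest order.
-/
import Cfsg.Agent.PLocal.GlaubermanReplacement
import Cfsg.Agent.PLocal.Stability
set_option autoImplicit false

namespace CfsgLib.PLocal

open Cfsg Subgroup
open scoped commutatorElement

universe u

variable {G : Type u} [Group G] {p : ℕ}

/-- The subgroups of `P` of largest order with property `Q`. -/
def maxIn (Q : Subgroup G → Prop) (P : Subgroup G) : Set (Subgroup G) :=
  {A | A ≤ P ∧ Q A ∧ ∀ B : Subgroup G, B ≤ P → Q B → Nat.card B ≤ Nat.card A}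

theorem maxAbIn_eq (P : Subgroup G) : maxAbIn P = maxIn (fun A => IsMulCommutative A) P := rfl

theorem maxEAIn_eq (p : ℕ) (P : Subgroup G) :
    maxEAIn p P = maxIn (IsElementaryAbelian p) P := rfl

/-- The properties of a class of abelian subgroups that the replacement argument uses. -/
structure IsReplClass (Q : Subgroup G → Prop) : Prop where
  comm : ∀ {A : Subgroup G}, Q A → IsMulCommutative A
  map : ∀ {A : Subgroup G} (e : MulAut G), Q A → Q (A.map e.toMonoidHom)
  closed : ∀ {A A' : Subgroup G}, Q A → IsMulCommutative A' →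
    Monoid.exponent A' ∣ Monoid.exponent A → Q A'
  bot : Q ⊥

theorem isReplClass_isMulCommutative :
    IsReplClass (fun A : Subgroup G => IsMulCommutative A) where
  comm h := h
  map e h := isMulCommutative_map h e.toMonoidHom
  closed _ h _ := h
  bot := (isElementaryAbelian_bot (p := 1)).1

theorem isReplClass_isElementaryAbelian (p : ℕ) :
    IsReplClass (IsElementaryAbelian p : Subgroup G → Prop) where
  comm h := h.1
  map e h := isElementaryAbelian_map h e.toMonoidHom
  closed {A A'} hA h hdvd := ⟨h, fun a ha => by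
    have h1 : Monoid.exponent A ∣ p := Monoid.exponent_dvd_of_forall_pow_eq_one fun x =>
      Subtype.ext (by simpa using hA.2 x x.2)
    have h2 : (⟨a, ha⟩ : A') ^ p = 1 :=
      Monoid.exponent_dvd_iff_forall_pow_eq_one.mp (hdvd.trans h1) _
    exact congrArg Subtype.val h2⟩
  bot := isElementaryAbelian_bot

namespace IsReplClass

variable {Q : Subgroup G → Prop}

theorem maxIn_nonempty [Finite G] (hQ : IsReplClass Q) (P : Subgroup G) : (maxIn Q P).Nonempty := by
  obtain ⟨A, hA, hmax⟩ := Set.exists_max_image {A : Subgroup G | A ≤ P ∧ Q A}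
    (fun A => Nat.card A) (Set.toFinite _) ⟨⊥, bot_le, hQ.bot⟩
  exact ⟨A, hA.1, hA.2, fun B h1 h2 => hmax B ⟨h1, h2⟩⟩

theorem map_mem_maxIn (hQ : IsReplClass Q) {A P : Subgroup G} (hA : A ∈ maxIn Q P)
    (e : MulAut G) : A.map e.toMonoidHom ∈ maxIn Q (P.map e.toMonoidHom) := by
  refine ⟨map_mono hA.1, hQ.map e hA.2.1, fun B hB hBQ => ?_⟩
  have h1 : B.map (e.symm : MulAut G).toMonoidHom ≤ P := by
    rintro _ ⟨x, hx, rfl⟩
    obtain ⟨y, hy, rfl⟩ := hB hx
    simpa using hy
  have h2 := hA.2.2 _ h1 (hQ.map e.symm hBQ)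
  have c1 : Nat.card (B.map (e.symm : MulAut G).toMonoidHom) = Nat.card B :=
    (Nat.card_congr (equivMapOfInjective B _ (e.symm : MulAut G).injective).toEquiv).symm
  have c2 : Nat.card (A.map e.toMonoidHom) = Nat.card A :=
    (Nat.card_congr (equivMapOfInjective A _ e.injective).toEquiv).symm
  omega

theorem normalizer_le_normalizer_sInf [Finite G] (hQ : IsReplClass Q) (T : Subgroup G) :
    normalizer (T : Set G) ≤ normalizer ((sInf (maxIn Q T) : Subgroup G) : Set G) := by
  intro g hg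
  have key : ∀ g ∈ normalizer (T : Set G), ∀ x ∈ sInf (maxIn Q T),
      g * x * g⁻¹ ∈ sInf (maxIn Q T) := by
    intro g hg x hx
    rw [mem_sInf] at hx ⊢
    intro A hA
    have hA' := hQ.map_mem_maxIn hA (MulAut.conj g⁻¹)
    rw [show T.map (MulAut.conj g⁻¹).toMonoidHom = T from
      mem_normalizer_iff_map_conj_eq.mp (inv_mem hg)] at hA'
    obtain ⟨a, ha, hax⟩ := hx _ hA'
    have : g * x * g⁻¹ = a := by rw [← hax]; simp [mul_assoc]
    rw [this]; exact ha
  rw [mem_normalizer_iff]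
  exact fun x => ⟨key g hg x, fun hx => by simpa [mul_assoc] using key g⁻¹ (inv_mem hg) _ hx⟩

theorem maxIn_of_le (_hQ : IsReplClass Q) {T P : Subgroup G} (hTP : T ≤ P) {A : Subgroup G}
    (hA : A ∈ maxIn Q P) (hAT : A ≤ T) : maxIn Q T = {B | B ∈ maxIn Q P ∧ B ≤ T} := by
  ext B
  constructor
  · rintro ⟨hBT, hBe, hmax⟩
    exact ⟨⟨hBT.trans hTP, hBe, fun C hC hCe => (hA.2.2 C hC hCe).trans (hmax A hAT hA.2.1)⟩, hBT⟩
  · rintro ⟨hB, hBT⟩
    exact ⟨hBT, hB.2.1, fun C hC hCe => hB.2.2 C (hC.trans hTP) hCe⟩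

end IsReplClass

/-- In a `p`-group `P`, if `B ⊴ P` does not normalize `A`, some element of `B` normalizes `N_P(A)` but not `A`. -/
theorem exists_repl_element [Finite G] [Fact p.Prime] {P A B : Subgroup G} (hP : IsPGroup p P)
    (hBP : B ≤ P) (hPB : P ≤ normalizer (B : Set G))
    (hnot : ¬ B ≤ normalizer (A : Set G)) :
    ∃ b ∈ B, b ∈ normalizer ((P ⊓ normalizer (A : Set G) : Subgroup G) : Set G) ∧
      b ∉ normalizer (A : Set G) := by
  set N := P ⊓ normalizer (A : Set G)
  have hlt : N < N ⊔ B :=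
    lt_of_le_not_ge le_sup_left fun hle => hnot ((le_sup_right.trans hle).trans inf_le_right)
  have hM : IsPGroup p ↥(N ⊔ B) := hP.to_le (sup_le inf_le_left hBP)
  obtain ⟨m, ⟨hmM, hmN⟩, hm⟩ :=
    SetLike.exists_of_lt (CfsgLib.Transfer.lt_inf_normalizer hM hlt)
  have hNB : N ≤ normalizer (B : Set G) := inf_le_left.trans hPB
  obtain ⟨n, hn, b, hb, rfl⟩ : ∃ n ∈ N, ∃ b ∈ B, n * b = m := by
    have h : m ∈ ((N ⊔ B : Subgroup G) : Set G) := hmM
    rw [coe_mul_of_left_le_normalizer_right N B hNB] at h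
    exact h
  have hbN : b ∈ normalizer (N : Set G) := by
    have := mul_mem (inv_mem (le_normalizer hn)) hmN
    rwa [inv_mul_cancel_left] at this
  exact ⟨b, hb, hbN, fun hbA => hm (mul_mem hn (mem_inf.mpr ⟨hBP hb, hbA⟩))⟩

/-- The data of the replacement step in a `p`-group `P`. -/
theorem replData_of_pGroup [Finite G] [Fact p.Prime] {P A B : Subgroup G} {b : G}
    (hp : p = 2 → IsMulCommutative B) (hP : IsPGroup p P) (hA : IsMulCommutative A) (hAP : A ≤ P)
    (hBP : B ≤ P) (hPB : P ≤ normalizer (B : Set G)) (hBA : ⁅B, B⁆ ≤ A) (hb : b ∈ B)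
    (hbN : b ∈ normalizer ((P ⊓ normalizer (A : Set G) : Subgroup G) : Set G)) :
    ReplData A B (P ⊓ normalizer (A : Set G)) b where
  comm := hA
  derived := hBA
  mem := hb
  le := le_inf hAP le_normalizer
  normA := inf_le_right
  normB := inf_le_left.trans hPB
  normN := hbN
  odd := by
    rcases eq_or_ne p 2 with h | h
    · exact Or.inl (hp h)
    · obtain ⟨k, hk⟩ := IsPGroup.iff_card.mp (hP.to_le hBP)
      exact Or.inr (hk ▸ ((Fact.out : p.Prime).odd_of_ne_two h).pow)

theorem odd_exponent [Finite G] [Fact p.Prime] (hp : p ≠ 2) {A : Subgroup G} (hA : IsPGroup p A) :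
    Odd (Monoid.exponent A) := by
  obtain ⟨k, hk⟩ := IsPGroup.iff_card.mp hA
  exact ((Fact.out : p.Prime).odd_of_ne_two hp).pow.of_dvd_nat (hk ▸ Group.exponent_dvd_nat_card)

/-- A member not normalized by `B` can be replaced by one meeting `B` in a larger subgroup. -/
theorem IsReplClass.exists_bigger [Finite G] [Fact p.Prime] {Q : Subgroup G → Prop}
    (hQ : IsReplClass Q) (hp : p ≠ 2) {P D B A : Subgroup G} (hP : IsPGroup p P)
    (hDP : D ≤ P) (hPD : P ≤ normalizer (D : Set G)) (hBP : B ≤ P)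
    (hPB : P ≤ normalizer (B : Set G)) (hA : A ∈ maxIn Q D) (hBA : ⁅B, B⁆ ≤ A)
    (hnot : ¬ B ≤ normalizer (A : Set G)) :
    ∃ A' ∈ maxIn Q D, ⁅B, B⁆ ≤ A' ∧ A ⊓ B < A' ⊓ B ∧ ¬ B ≤ A' := by
  obtain ⟨b, hb, hbN, hbA⟩ := exists_repl_element hP hBP hPB hnot
  have h := replData_of_pGroup (fun h => absurd h hp) hP (hQ.comm hA.2.1) (hA.1.trans hDP) hBP hPB
    hBA hb hbN
  refine ⟨replStar A b, ⟨?_, ?_, ?_⟩, h.derived_le_replStar, h.inf_lt hbA,
    fun hle => hnot (hle.trans h.replStar_le_normalizer)⟩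
  · refine h.replStar_le_sup.trans (sup_le hA.1 ?_)
    intro x hx
    rw [mem_map_conj_inv] at hx
    exact (mem_normalizer_iff.mp (hPD (hBP hb)) x).mpr (hA.1 hx)
  · exact hQ.closed hA.2.1 h.isMulCommutative_replStar
      (h.exponent_replStar_dvd (odd_exponent hp (hP.to_le (hA.1.trans hDP))))
  · intro C hC hCQ
    rw [h.card_replStar]
    exact hA.2.2 C hC hCQ

/-- The replacement property of the members of largest order inside a normal `D`. -/
theorem IsReplClass.replacement_property [Finite G] [Fact p.Prime] {Q : Subgroup G → Prop}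
    (hQ : IsReplClass Q) (hp : p ≠ 2) {P D B : Subgroup G} (hP : IsPGroup p P)
    (hDP : D ≤ P) (hPD : P ≤ normalizer (D : Set G)) (hBP : B ≤ P)
    (hPB : P ≤ normalizer (B : Set G))
    (hU : ∃ U ∈ maxIn Q D, ⁅B, B⁆ ≤ U ∧ ¬ B ≤ U) :
    ∃ A ∈ maxIn Q D, ⁅B, B⁆ ≤ A ∧ ¬ B ≤ A ∧ B ≤ normalizer (A : Set G) := by
  obtain ⟨A, ⟨hA, hBA, hnle⟩, hmax⟩ := Set.exists_max_image
    {A : Subgroup G | A ∈ maxIn Q D ∧ ⁅B, B⁆ ≤ A ∧ ¬ B ≤ A}
    (fun A => Nat.card ↥(A ⊓ B)) (Set.toFinite _)
    (let ⟨U, h1, h2, h3⟩ := hU; ⟨U, h1, h2, h3⟩)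
  refine ⟨A, hA, hBA, hnle, ?_⟩
  by_contra hnot
  obtain ⟨A', hA', hBA', hlt, hnle'⟩ := hQ.exists_bigger hp hP hDP hPD hBP hPB hA hBA hnot
  exact absurd (hmax A' ⟨hA', hBA', hnle'⟩)
    (not_le.mpr (Set.ncard_lt_ncard (SetLike.coe_ssubset_coe.mpr hlt) (Set.toFinite _)))

/-- Glauberman: if the action on normal `p`-subgroups is `p`-stable, then `B ⊓ Z(P)` is normal for every
normal `p`-subgroup `B`, where `Z(P)` is the intersection of the members of largest order in `P`. -/
theorem IsReplClass.inf_sInf_normal [Finite G] [Fact p.Prime] {Q : Subgroup G → Prop}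
    (hQ : IsReplClass Q) (hp : p ≠ 2)
    (hst : ∀ (V : Subgroup G) [V.Normal], IsPGroup p V → IsPStableOn p V) (P : Sylow p G)
    (B : Subgroup G) [hBn : B.Normal] (hB : IsPGroup p B) :
    (B ⊓ sInf (maxIn Q (P : Subgroup G))).Normal := by
  induction hk : Nat.card B using Nat.strong_induction_on generalizing B with
  | h k ih =>
  subst hk
  set F := maxIn Q (P : Subgroup G) with hF
  set Z := sInf F with hZ
  by_contra hnn
  have hBP : B ≤ (P : Subgroup G) := (le_pCore hB).trans (pCore_le_sylow P)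
  have hZn : (P : Subgroup G) ≤ normalizer (Z : Set G) :=
    le_normalizer.trans (hQ.normalizer_le_normalizer_sInf _)
  have hNB : normalizer (B : Set G) = ⊤ := normalizer_eq_top _
  -- `B` is the normal closure of `B ⊓ Z`
  have hgen : normalClosure ((B ⊓ Z : Subgroup G) : Set G) = B := by
    have hle : normalClosure ((B ⊓ Z : Subgroup G) : Set G) ≤ B :=
      normalClosure_le_normal fun x hx => (mem_inf.mp hx).1
    refine eq_of_le_of_card_ge hle (not_lt.mp fun hlt => hnn ?_)
    have := ih _ hlt (normalClosure ((B ⊓ Z : Subgroup G) : Set G)) (hB.to_le hle) rfl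
    have e : normalClosure ((B ⊓ Z : Subgroup G) : Set G) ⊓ Z = B ⊓ Z :=
      le_antisymm (inf_le_inf_right Z hle) (le_inf (fun x hx => subset_normalClosure hx) inf_le_right)
    rwa [e] at this
  have hne : B ≠ ⊥ := by
    rintro rfl
    exact hnn (by rw [bot_inf_eq]; infer_instance)
  -- the derived subgroup is smaller
  have hBlt : ⁅B, B⁆ < B := by
    refine lt_of_le_not_ge B.commutator_le_self fun h => hne ?_
    haveI : Group.IsNilpotent B := hB.isNilpotent
    have h1 : (⊤ : Subgroup B) ≤ ⁅(⊤ : Subgroup B), (⊤ : Subgroup B)⁆ := by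
      intro x _
      have : (x : G) ∈ ⁅(⊤ : Subgroup B), (⊤ : Subgroup B)⁆.map B.subtype := by
        rw [map_commutator, ← MonoidHom.range_eq_map, range_subtype]; exact h x.2
      obtain ⟨y, hy, hyx⟩ := this
      rwa [Subtype.ext hyx] at hy
    have h2 := eq_bot_of_le_commutator_top h1
    rw [eq_bot_iff]
    intro x hx
    exact mem_bot.mpr (congrArg Subtype.val ((eq_bot_iff.mp h2) (mem_top (⟨x, hx⟩ : B))))
  have hBd : ⁅B, B⁆ ≤ Z := by
    set M := ⁅B, B⁆ ⊓ Z with hM
    haveI hMn : M.Normal :=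
      ih _ (Set.ncard_lt_ncard (SetLike.coe_ssubset_coe.mpr hBlt) (Set.toFinite _)) _
        (hB.to_le B.commutator_le_self) rfl
    haveI : (sectionKernel B M).Normal := by
      haveI : (B.map (QuotientGroup.mk' M)).Normal :=
        hBn.map _ (QuotientGroup.mk'_surjective _)
      exact Subgroup.Normal.comap inferInstance _
    have hmem : ∀ X : Subgroup G, X ≤ sectionKernel B M ↔ ⁅X, B⁆ ≤ M := by
      intro X
      conv_rhs => rw [← QuotientGroup.ker_mk' M, ← Subgroup.map_eq_bot_iff, map_commutator,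
        commutator_eq_bot_iff_le_centralizer, map_le_iff_le_comap]
      rfl
    have h1 : B ⊓ Z ≤ sectionKernel B M := by
      rw [hmem]
      exact le_inf (commutator_mono inf_le_left le_rfl) ((commutator_mono inf_le_right le_rfl).trans
        (commutator_le_of_le_normalizer (hBP.trans hZn)))
    have h2 : B ≤ sectionKernel B M := by
      conv_lhs => rw [← hgen]
      exact normalClosure_le_normal h1
    exact ((hmem B).mp h2).trans inf_le_right
  -- the largest normal subgroup normalizing `B ⊓ Z`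
  set L := (normalizer ((B ⊓ Z : Subgroup G) : Set G)).normalCore with hL
  have hLmem : ∀ D : Subgroup G, D.Normal → D ≤ normalizer ((B ⊓ Z : Subgroup G) : Set G) → D ≤ L :=
    fun D hD h => @normal_le_normalCore _ _ _ D hD |>.mpr h
  have hFrat := normalizer_inf_sylow_sup P L
  have hPBZ : (P : Subgroup G) ≤ normalizer ((B ⊓ Z : Subgroup G) : Set G) := fun x hx =>
    mem_normalizer_iff.mpr fun y => by
      rw [mem_inf, mem_inf, ← mem_normalizer_iff.mp (hZn hx) y,
        ← mem_normalizer_iff.mp (hNB.ge (mem_top x)) y]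
  by_cases hall : ∀ A ∈ F, A ≤ L
  · apply hnn
    rw [← normalizer_eq_top_iff, ← top_le_iff, ← hFrat]
    refine sup_le ?_ (normalCore_le _)
    obtain ⟨A, hA⟩ := hQ.maxIn_nonempty (P : Subgroup G)
    have hFT : maxIn Q (L ⊓ (P : Subgroup G)) = F := by
      rw [hQ.maxIn_of_le inf_le_right hA (le_inf (hall A hA) hA.1)]
      ext C
      exact ⟨fun hC => hC.1, fun hC => ⟨hC, le_inf (hall C hC) hC.1⟩⟩
    intro g hg
    have h1 := hQ.normalizer_le_normalizer_sInf _ hg
    rw [hFT, ← hZ] at h1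
    exact mem_normalizer_iff.mpr fun y => by
      rw [mem_inf, mem_inf, ← mem_normalizer_iff.mp h1 y,
        ← mem_normalizer_iff.mp (hNB.ge (mem_top g)) y]
  · push Not at hall
    obtain ⟨A, ⟨hA, hAL⟩, hmax⟩ := Set.exists_max_image {A : Subgroup G | A ∈ F ∧ ¬ A ≤ L}
      (fun A => Nat.card ↥(A ⊓ B)) (Set.toFinite _)
      (let ⟨A, h1, h2⟩ := hall; ⟨A, h1, h2⟩)
    by_cases hnA : B ≤ normalizer (A : Set G)
    · apply hAL
      intro a ha
      have hBA : ⁅B, A⁆ ≤ A := by
        rw [commutator_comm]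
        exact commutator_le_of_le_normalizer hnA
      have hq : ⁅⁅B, Subgroup.zpowers a⁆, Subgroup.zpowers a⁆ = ⊥ := by
        rw [eq_bot_iff]
        refine (commutator_mono ((commutator_mono le_rfl (zpowers_le.mpr ha)).trans hBA)
          (zpowers_le.mpr ha)).trans ?_
        rw [commutator_eq_bot_iff_le_centralizer.mpr
          (le_centralizer_iff_isMulCommutative.mpr (hQ.comm hA.2.1))]
      obtain ⟨D, hDn, hCD, ⟨j, hj⟩, haD⟩ := exists_normal_of_isPStableOn (hst B hB) hq
      refine hLmem D hDn ?_ haD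
      refine (le_inf_sylow_sup P hCD hj).trans (sup_le (inf_le_right.trans hPBZ) ?_)
      exact (centralizer_le (SetLike.coe_subset_coe.mpr (inf_le_left : B ⊓ Z ≤ B))).trans
        (centralizer_le_normalizer _)
    · obtain ⟨A', hA', _, hlt, hnle⟩ := hQ.exists_bigger hp P.isPGroup' le_rfl le_normalizer hBP
        ((le_top : (P : Subgroup G) ≤ ⊤).trans hNB.ge) hA (hBd.trans (sInf_le hA)) hnA
      have hA'L : A' ≤ L := by
        by_contra h
        exact absurd (hmax A' ⟨hA', h⟩)
          (not_le.mpr (Set.ncard_lt_ncard (SetLike.coe_ssubset_coe.mpr hlt) (Set.toFinite _)))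
      apply hnle
      set Z1 := sInf (maxIn Q (L ⊓ (P : Subgroup G))) with hZ1
      have hFT := hQ.maxIn_of_le (inf_le_right : L ⊓ (P : Subgroup G) ≤ P) hA' (le_inf hA'L hA'.1)
      have hZZ1 : Z ≤ Z1 := by
        rw [hZ1, hFT]; exact sInf_le_sInf fun C hC => hC.1
      have hZ1A : Z1 ≤ A' := sInf_le (hFT ▸ ⟨hA', le_inf hA'L hA'.1⟩)
      refine le_trans ?_ hZ1A
      rw [← hgen, normalClosure, closure_le]
      intro y hy
      obtain ⟨x, hx, hxy⟩ := Group.mem_conjugatesOfSet_iff.mp hy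
      obtain ⟨g, hg⟩ := isConj_iff.mp hxy
      subst hg
      obtain ⟨n, hn, l, hl, rfl⟩ := mem_sup_of_normal_right.mp (hFrat ▸ mem_top g)
      have h1 : l * x * l⁻¹ ∈ B ⊓ Z :=
        (mem_normalizer_iff.mp (normalCore_le _ hl) x).mp hx
      have h2 := (mem_normalizer_iff.mp (hQ.normalizer_le_normalizer_sInf _ hn) _).mp (hZZ1 h1.2)
      simpa only [mul_assoc, mul_inv_rev, SetLike.mem_coe] using h2

/-- With `C_G(O_p(G)) ≤ O_p(G)` as well, `Z(P)` itself is normal. -/
theorem IsReplClass.sInf_normal [Finite G] [Fact p.Prime] {Q : Subgroup G → Prop}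
    (hQ : IsReplClass Q) (hp : p ≠ 2)
    (hc : centralizer (pCore p G : Set G) ≤ pCore p G)
    (hst : ∀ (V : Subgroup G) [V.Normal], IsPGroup p V → IsPStableOn p V) (P : Sylow p G) :
    (sInf (maxIn Q (P : Subgroup G))).Normal := by
  set Z := sInf (maxIn Q (P : Subgroup G)) with hZ
  set R := pCore p G
  obtain ⟨A, hA⟩ := hQ.maxIn_nonempty (P : Subgroup G)
  have hZA : Z ≤ A := sInf_le hA
  have hR : IsPGroup p R := isPGroup_pCore p G
  have hRP : R ≤ (P : Subgroup G) := pCore_le_sylow P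
  have hle : Z ≤ R := by
    intro z hz
    have hRZ : ⁅R, Z⁆ ≤ Z := by
      rw [commutator_comm]
      exact commutator_le_of_le_normalizer
        (hRP.trans (le_normalizer.trans (hQ.normalizer_le_normalizer_sInf _)))
    have hq : ⁅⁅R, Subgroup.zpowers z⁆, Subgroup.zpowers z⁆ = ⊥ := by
      rw [eq_bot_iff]
      refine (commutator_mono ((commutator_mono le_rfl (zpowers_le.mpr hz)).trans hRZ)
        (zpowers_le.mpr hz)).trans ?_
      rw [commutator_eq_bot_iff_le_centralizer.mpr
        (le_centralizer_iff_isMulCommutative.mpr (isMulCommutative_of_le (hQ.comm hA.2.1) hZA))]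
    obtain ⟨D, hDn, hCD, ⟨j, hj⟩, hzD⟩ := exists_normal_of_isPStableOn (hst R hR) hq
    refine le_pCore (N := D) (hN := hDn) ?_ hzD
    refine IsPGroup.to_le ?_ (le_inf_sylow_sup P hCD hj)
    exact IsPGroup.to_sup_of_normal_right (P.isPGroup'.to_le inf_le_right) (hR.to_le hc)
  have := hQ.inf_sInf_normal hp hst P R hR
  rwa [← hZ, inf_eq_right.mpr hle] at this

/-- A normal `Z(P)` is characteristic. -/
theorem IsReplClass.sInf_characteristic [Finite G] [Fact p.Prime] {Q : Subgroup G → Prop}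
    (hQ : IsReplClass Q) (P : Sylow p G) [hn : (sInf (maxIn Q (P : Subgroup G))).Normal] :
    (sInf (maxIn Q (P : Subgroup G))).Characteristic := by
  refine characteristic_iff_le_map.mpr fun e => ?_
  intro z hz
  -- pull back through `e`
  obtain ⟨g, hg⟩ := MulAction.exists_smul_eq G P
    (Sylow.mapSurjective (f := e.symm.toMonoidHom) e.symm.surjective P)
  refine ⟨e.symm z, ?_, by simp⟩
  show e.symm z ∈ sInf (maxIn Q (P : Subgroup G))
  suffices h : g⁻¹ * e.symm z * g ∈ sInf (maxIn Q (P : Subgroup G)) by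
    simpa [mul_assoc] using hn.conj_mem _ h g
  rw [mem_sInf] at hz ⊢
  intro A hA
  have hmem := hQ.map_mem_maxIn (hQ.map_mem_maxIn hA (MulAut.conj g)) e
  have hP' : ((P : Subgroup G).map (MulAut.conj g).toMonoidHom).map e.toMonoidHom = (P : Subgroup G) := by
    have h1 : (P : Subgroup G).map (MulAut.conj g).toMonoidHom =
        (P : Subgroup G).map e.symm.toMonoidHom := congrArg (fun S : Sylow p G => (S : Subgroup G)) hg
    rw [h1, Subgroup.map_map]
    convert Subgroup.map_id (P : Subgroup G)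
    ext x
    simp
  rw [hP'] at hmem
  obtain ⟨y, ⟨a, ha, rfl⟩, hy⟩ := hz _ hmem
  have : g⁻¹ * e.symm z * g = a := by rw [← hy]; simp [mul_assoc]
  rw [this]; exact ha

end CfsgLib.PLocal
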