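/-
The ZJ theorem for `Z(J(P))`, `Ω₁(Z(J_e(P)))`, and the `p`-constrained, `p`-stable form.
-/
import Cfsg.Agent.PLocal.GlaubermanZJ
import Cfsg.Agent.PLocal.Constraint
import Cfsg.Prelude.Def_Local
set_option autoImplicit false

namespace CfsgLib.PLocal

open Cfsg Subgroup
open scoped commutatorElement

variable {G : Type*} [Group G] {p : ℕ}

/-- `Z(J(P))` is the intersection of the abelian subgroups of largest order of `P`. -/
theorem centerThompsonAOf_eq_sInf [Finite G] (P : Subgroup G) :
    centerThompsonAOf P = sInf (maxIn (fun A => IsMulCommutative A) P) := by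
  rw [← maxAbIn_eq, centerThompsonAOf, thompsonSubgroupAOf_eq]
  refine le_antisymm (le_sInf fun A hA => ?_) ?_
  · set C := sSup (maxAbIn P) ⊓ centralizer ((sSup (maxAbIn P) : Subgroup G) : Set G)
    have hCP : C ≤ P := inf_le_left.trans (sSup_le fun B hB => hB.1)
    have hC : IsMulCommutative C :=
      le_centralizer_iff_isMulCommutative.mp (inf_le_right.trans (centralizer_le
        (SetLike.coe_subset_coe.mpr inf_le_left)))
    have hAC : A ≤ centralizer (C : Set G) :=
      (le_sSup hA).trans (le_centralizer_iff.mp inf_le_right)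
    have := eq_of_le_of_card_ge (le_sup_left : A ≤ A ⊔ C)
      (hA.2.2 _ (sup_le hA.1 hCP) (isMulCommutative_sup hA.2.1 hC hAC))
    exact this ▸ le_sup_right
  · obtain ⟨A, hA⟩ := maxAbIn_nonempty P
    refine le_inf ((sInf_le hA).trans (le_sSup hA)) ?_
    rw [le_centralizer_iff]
    exact sSup_le fun B hB => (le_centralizer_iff_isMulCommutative.mpr hB.2.1).trans
      (centralizer_le (SetLike.coe_subset_coe.mpr (sInf_le hB)))

/-- The intersection of the elementary abelian subgroups of largest order of `P` is `Ω₁(Z(J_e(P)))`, and equally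
`Ω₁` of the centralizer of `J_e(P)` in `P`. -/
theorem sInf_maxEAIn_eq [Finite G] (P : Subgroup G) :
    sInf (maxEAIn p P) =
        omegaOne p (thompsonSubgroupOf p P ⊓ centralizer (thompsonSubgroupOf p P : Set G)) ∧
      omegaOne p (P ⊓ centralizer (thompsonSubgroupOf p P : Set G)) = sInf (maxEAIn p P) := by
  have h1 : sInf (maxEAIn p P) ≤
      omegaOne p (thompsonSubgroupOf p P ⊓ centralizer (thompsonSubgroupOf p P : Set G)) := by
    obtain ⟨A, hA⟩ := maxEAIn_nonempty p P
    intro x hx
    refine mem_omegaOne (mem_inf.mpr ⟨le_thompsonSubgroupOf hA (mem_sInf.mp hx A hA), ?_⟩)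
      (hA.2.1.2 x (mem_sInf.mp hx A hA))
    rw [thompsonSubgroupOf_eq]
    revert hx x
    show sInf (maxEAIn p P) ≤ centralizer ((sSup (maxEAIn p P) : Subgroup G) : Set G)
    rw [le_centralizer_iff]
    exact sSup_le fun B hB => (le_centralizer_iff_isMulCommutative.mpr hB.2.1.1).trans
      (centralizer_le (SetLike.coe_subset_coe.mpr (sInf_le hB)))
  have h2 : omegaOne p (P ⊓ centralizer (thompsonSubgroupOf p P : Set G)) ≤
      sInf (maxEAIn p P) := by
    refine (closure_le _).mpr fun x hx => mem_sInf.mpr fun A hA => ?_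
    have hc : A ≤ centralizer ((Subgroup.zpowers x : Subgroup G) : Set G) :=
      le_centralizer_iff.mp (zpowers_le.mpr
        (centralizer_le (SetLike.coe_subset_coe.mpr (le_thompsonSubgroupOf hA)) hx.1.2))
    have := eq_of_le_of_card_ge (le_sup_left : A ≤ A ⊔ Subgroup.zpowers x)
      (hA.2.2 _ (sup_le hA.1 (zpowers_le.mpr hx.1.1))
        (isElementaryAbelian_sup hA.2.1 (isElementaryAbelian_zpowers hx.2) hc))
    exact this ▸ mem_sup_right (mem_zpowers x)
  have h3 : omegaOne p (thompsonSubgroupOf p P ⊓ centralizer (thompsonSubgroupOf p P : Set G)) ≤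
      omegaOne p (P ⊓ centralizer (thompsonSubgroupOf p P : Set G)) :=
    omegaOne_mono (inf_le_inf_right _ (thompsonSubgroupOf_le p P))
  exact ⟨le_antisymm h1 (h3.trans h2), le_antisymm h2 (h1.trans h3)⟩

/-- `Ω₁(Z(J_e(S)))` inside `G` as an intersection. -/
theorem map_omegaCenterThompson_eq_sInf [Finite G] (S : Subgroup G) :
    (omegaCenterThompson p S).map S.subtype = sInf (maxIn (IsElementaryAbelian p) S) := by
  rw [map_omegaCenterThompson S.subtype_injective, range_subtype, ← maxEAIn_eq,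
    (sInf_maxEAIn_eq S).1]

/-- Glauberman's ZJ theorem: `Z(J(P))` is characteristic. -/
theorem centerThompsonAOf_characteristic [Finite G] [Fact p.Prime] (hp : p ≠ 2)
    (hc : centralizer (pCore p G : Set G) ≤ pCore p G)
    (hst : ∀ (V : Subgroup G) [V.Normal], IsPGroup p V → IsPStableOn p V) (S : Sylow p G) :
    (centerThompsonAOf (S : Subgroup G)).Characteristic := by
  rw [centerThompsonAOf_eq_sInf]
  haveI := isReplClass_isMulCommutative.sInf_normal hp hc hst S
  exact isReplClass_isMulCommutative.sInf_characteristic S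

/-- `Ω₁(Z(J_e(P)))` is characteristic. -/
theorem omegaCenterThompson_characteristic [Finite G] [Fact p.Prime] (hp : p ≠ 2)
    (hc : centralizer (pCore p G : Set G) ≤ pCore p G)
    (hst : ∀ (V : Subgroup G) [V.Normal], IsPGroup p V → IsPStableOn p V) (S : Sylow p G) :
    ((omegaCenterThompson p ↥(S : Subgroup G)).map (S : Subgroup G).subtype).Characteristic := by
  rw [map_omegaCenterThompson_eq_sInf]
  haveI := (isReplClass_isElementaryAbelian p).sInf_normal hp hc hst S
  exact (isReplClass_isElementaryAbelian p).sInf_characteristic S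

theorem normalizer_le_normalizer_centerThompsonAOf [Finite G] (P : Subgroup G) :
    normalizer (P : Set G) ≤ normalizer (centerThompsonAOf P : Set G) := by
  rw [centerThompsonAOf_eq_sInf]
  exact isReplClass_isMulCommutative.normalizer_le_normalizer_sInf P

theorem centerThompsonAOf_le (P : Subgroup G) : centerThompsonAOf P ≤ P :=
  inf_le_left.trans (thompsonSubgroupAOf_le P)

/-- `Z(J(P)) ≠ 1` for a nontrivial `p`-group `P`: it contains the centre. -/
theorem centerThompsonAOf_ne_bot [Finite G] [Fact p.Prime] {P : Subgroup G} (hP : IsPGroup p P)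
    (hne : P ≠ ⊥) : centerThompsonAOf P ≠ ⊥ := by
  haveI : Nontrivial P := (Subgroup.nontrivial_iff_ne_bot P).mpr hne
  have hle : P ⊓ centralizer (P : Set G) ≤ centerThompsonAOf P := by
    rw [centerThompsonAOf_eq_sInf]
    refine le_sInf fun A hA => ?_
    have hC : IsMulCommutative ↥(P ⊓ centralizer (P : Set G)) :=
      le_centralizer_iff_isMulCommutative.mp (inf_le_right.trans (centralizer_le
        (SetLike.coe_subset_coe.mpr inf_le_left)))
    have hAC : A ≤ centralizer ((P ⊓ centralizer (P : Set G) : Subgroup G) : Set G) :=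
      hA.1.trans (le_centralizer_iff.mp inf_le_right)
    have := eq_of_le_of_card_ge (le_sup_left : A ≤ A ⊔ (P ⊓ centralizer (P : Set G)))
      (hA.2.2 _ (sup_le hA.1 inf_le_left) (isMulCommutative_sup hA.2.1 hC hAC))
    exact this ▸ le_sup_right
  intro hbot
  haveI := hP.center_nontrivial
  obtain ⟨z, hz⟩ := exists_ne (1 : Subgroup.center P)
  refine hz (Subtype.ext (Subtype.ext (mem_bot.mp (hbot ▸ hle (mem_inf.mpr ⟨z.1.2, ?_⟩)))))
  intro x hx
  exact congrArg Subtype.val (Subgroup.mem_center_iff.mp z.2 ⟨x, hx⟩)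

/-- A power of `g` of `p`-power order agreeing with `g` modulo `p ^ k`-th powers. -/
theorem exists_pPart_pow [Finite G] [Fact p.Prime] (g : G) (k : ℕ) :
    ∃ j : ℕ, IsPGroup p (Subgroup.zpowers (g ^ j)) ∧ ∃ d : ℤ, (g ^ j : G) = g * (g ^ (p ^ k)) ^ d := by
  obtain ⟨e, m, hm, he⟩ := Nat.exists_eq_pow_mul_and_not_dvd (orderOf_pos g).ne' p
    (Fact.out : p.Prime).ne_one
  have hco : Nat.Coprime (p ^ k) m :=
    Nat.Coprime.pow_left _ ((Fact.out : p.Prime).coprime_iff_not_dvd.mpr hm)
  obtain ⟨j, hj1, hj0⟩ := Nat.chineseRemainder hco 1 0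
  refine ⟨j, ?_, ((j : ℤ) - 1) / (p ^ k : ℕ), ?_⟩
  · have hpow : (g ^ j) ^ p ^ e = 1 := by
      obtain ⟨c, rfl⟩ := Nat.modEq_zero_iff_dvd.mp hj0
      rw [← pow_mul, show m * c * p ^ e = orderOf g * c by rw [he]; ring, pow_mul,
        pow_orderOf_eq_one, one_pow]
    exact IsPGroup.of_card_dvd_pow (Nat.card_zpowers (g ^ j) ▸ orderOf_dvd_of_pow_eq_one hpow)
  · have hdvd : ((p ^ k : ℕ) : ℤ) ∣ (j : ℤ) - 1 := (Nat.modEq_iff_dvd.mp hj1.symm)
    rw [← zpow_natCast g (p ^ k), ← zpow_mul, Int.mul_ediv_cancel' hdvd, ← zpow_one_add,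
      add_sub_cancel, zpow_natCast]

/-- An element quadratic on a `p`-group `V` has a power of `p`-power order quadratic on `V` and
congruent to it modulo the centralizer. -/
theorem exists_pElement_quadratic [Finite G] [Fact p.Prime] {V : Subgroup G} [V.Normal]
    (hV : IsPGroup p V) {a : G}
    (hq : ⁅⁅V, Subgroup.zpowers a⁆, Subgroup.zpowers a⁆ = ⊥) :
    ∃ s : G, IsPGroup p (Subgroup.zpowers s) ∧
      ⁅⁅V, Subgroup.zpowers s⁆, Subgroup.zpowers s⁆ = ⊥ ∧ a⁻¹ * s ∈ centralizer (V : Set G) := by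
  obtain ⟨k, hk⟩ := IsPGroup.iff_card.mp hV
  have haN : a ∈ normalizer (V : Set G) := (normalizer_eq_top V).ge (mem_top a)
  have hpk : a ^ p ^ k ∈ centralizer (V : Set G) := by
    rw [mem_centralizer_iff]
    intro v hv
    have hc := (quadratic_iff haN).mp hq v hv
    have h1 : ⁅v, a ^ p ^ k⁆ = 1 := by
      rw [commutatorElement_zpow_right_of_comm (fun n => (hc.zpow_right n).eq)]
      have : (⟨⁅v, a⁆, commutatorElement_mem hv haN⟩ : V) ^ p ^ k = 1 := hk ▸ pow_card_eq_one'
      exact congrArg Subtype.val this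
    exact commutatorElement_eq_one_iff_mul_comm.mp h1
  obtain ⟨j, hj, d, hd⟩ := exists_pPart_pow (p := p) a k
  refine ⟨a ^ j, hj, ?_, ?_⟩
  · have hle : Subgroup.zpowers (a ^ j) ≤ Subgroup.zpowers a :=
      zpowers_le.mpr (pow_mem (mem_zpowers a) j)
    exact le_bot_iff.mp (hq ▸ commutator_mono (commutator_mono le_rfl hle) hle)
  · rw [hd, inv_mul_cancel_left]
    exact zpow_mem hpk d

/-- In a `p`-stable group the action of `G/O_{p'}(G)` on its normal `p`-subgroups is `p`-stable. -/
theorem isPStableOn_quotient_of_isPStable [Finite G] [Fact p.Prime] (hs : IsPStable p G)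
    (V : Subgroup (G ⧸ pPrimeCore p G)) [V.Normal] (hV : IsPGroup p V) : IsPStableOn p V := by
  set O := pPrimeCore p G with hO
  set π := QuotientGroup.mk' O with hπ
  set K := V.comap π with hK
  let S : Sylow p G := default
  have hOK : O ≤ K := by
    intro x hx
    rw [hK, mem_comap, hπ, QuotientGroup.mk'_apply, (QuotientGroup.eq_one_iff x).mpr hx]
    exact one_mem _
  have hrel : ∃ k, O.relIndex K = p ^ k := by
    have h := relIndex_ker (K := K) π
    rw [hπ, QuotientGroup.ker_mk', ← hπ, hK,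
      map_comap_eq_self_of_surjective (QuotientGroup.mk'_surjective _)] at h
    obtain ⟨k, hk⟩ := IsPGroup.iff_card.mp hV
    exact ⟨k, h.trans hk⟩
  obtain ⟨k, hk⟩ := hrel
  set Q := K ⊓ (S : Subgroup G) with hQ
  have hQp : IsPGroup p Q := S.isPGroup'.to_le inf_le_right
  have hKQ : O ⊔ Q = K := le_antisymm (sup_le hOK inf_le_left)
    (sup_comm Q O ▸ le_inf_sylow_sup S hOK hk)
  have hQV : Q.map π = V := by
    have := congrArg (Subgroup.map π) hKQ
    rw [Subgroup.map_sup, hπ, QuotientGroup.map_mk'_self, bot_sup_eq, ← hπ, hK,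
      map_comap_eq_self_of_surjective (QuotientGroup.mk'_surjective _)] at this
    exact this
  intro a ha
  obtain ⟨s, hsp, hsq, hsa⟩ := exists_pElement_quadratic hV ha
  rw [show (QuotientGroup.mk a : (G ⧸ O) ⧸ centralizer (V : Set (G ⧸ O))) = QuotientGroup.mk s from
    QuotientGroup.eq.mpr hsa]
  have hsN : s ∈ (normalizer (Q : Set G)).map π := by
    rw [hπ, ← normalizer_map_mk'_eq O (coprime_card_pPrimeCore p G) hQp, ← hπ, hQV, normalizer_eq_top]
    exact mem_top s
  obtain ⟨g, hg, rfl⟩ := hsN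
  obtain ⟨e, he⟩ := IsPGroup.iff_card.mp hsp
  rw [Nat.card_zpowers] at he
  obtain ⟨j, hj, d, hd⟩ := exists_pPart_pow (p := p) g e
  set t := g ^ j with ht
  have htπ : π t = π g := by
    rw [hd, map_mul, map_zpow, map_pow, ← he, pow_orderOf_eq_one, one_zpow, mul_one]
  have htN : t ∈ normalizer (Q : Set G) := pow_mem hg j
  have hA : Subgroup.zpowers t ≤ normalizer (Q : Set G) := zpowers_le.mpr htN
  have hquad : ⁅⁅Q, Subgroup.zpowers t⁆, Subgroup.zpowers t⁆ = ⊥ := by
    rw [eq_bot_iff, ← disjoint_of_isPGroup_of_coprime hQp (coprime_card_pPrimeCore p G)]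
    refine le_inf ?_ ?_
    · exact (commutator_mono (commutator_le_of_le_normalizer hA) le_rfl).trans
        (commutator_le_of_le_normalizer hA)
    · rw [← hO, ← QuotientGroup.ker_mk' O, ← Subgroup.map_eq_bot_iff, ← hπ, map_commutator,
        map_commutator, hQV, MonoidHom.map_zpowers, htπ, hsq]
  have key := hs.2.2 (Subgroup.zpowers t) Q hj hQp
    (fun a ha x hx => (mem_normalizer_iff.mp (hA ha) x).mp hx)
    (inf_le_left.trans (comap_mono (le_pCore hV))) (by rw [← hO, hKQ]; infer_instance) hquad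
  let f : ↥(normalizer (Q : Set G)) →* (G ⧸ O) ⧸ centralizer (V : Set (G ⧸ O)) :=
    (QuotientGroup.mk' _).comp (π.comp (normalizer (Q : Set G)).subtype)
  have hfs : Function.Surjective f := by
    intro y
    obtain ⟨z, rfl⟩ := QuotientGroup.mk'_surjective _ y
    have : z ∈ (normalizer (Q : Set G)).map π := by
      rw [hπ, ← normalizer_map_mk'_eq O (coprime_card_pPrimeCore p G) hQp, ← hπ, hQV,
        normalizer_eq_top]
      exact mem_top z
    obtain ⟨w, hw, rfl⟩ := this
    exact ⟨⟨w, hw⟩, rfl⟩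
  have hker : (centralizer (Q : Set G)).subgroupOf (normalizer (Q : Set G)) ≤ f.ker := by
    intro c hc
    rw [MonoidHom.mem_ker]
    refine (QuotientGroup.eq_one_iff _).mpr ?_
    rw [← hQV]
    rintro _ ⟨x, hx, rfl⟩
    show π x * π c = π c * π x
    rw [← map_mul, ← map_mul, show x * (c : G) = (c : G) * x from mem_centralizer_iff.mp hc x hx]
  have hmem := key (Subgroup.mem_map_of_mem _
    (show (⟨t, htN⟩ : normalizer (Q : Set G)) ∈ (Subgroup.zpowers t).subgroupOf _ from mem_zpowers t))
  have hls : Function.Surjective (QuotientGroup.lift _ f hker) :=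
    fun y => let ⟨x, hx⟩ := hfs y; ⟨QuotientGroup.mk x, hx⟩
  have := map_pCore_le_of_surjective hls (Subgroup.mem_map_of_mem _ hmem)
  rw [← htπ]
  exact this

end CfsgLib.PLocal
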