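/-
Finite subgroups of `SL(2, K)`, `K` of odd characteristic `p`, with order divisible by `p` and no normal
Sylow `p`-subgroup contain a copy of `SL(2, p)`.  The proof is a count of transvections and of their
negatives in the cosets of the subgroup fixing a transvection axis.
-/
import Cfsg.Agent.Linear.Perfect
import Mathlib.LinearAlgebra.Matrix.CharP
import Mathlib.Tactic.LinearCombination
import Mathlib.Tactic.FieldSimp
set_option autoImplicit false

namespace CfsgLib.PLocal.SL2

open Matrix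
open scoped MatrixGroups

variable {K : Type*} [Field K]

/-- The upper unitriangular element. -/
def up (x : K) : SL(2, K) := ⟨!![1, x; 0, 1], by simp [Matrix.det_fin_two]⟩

theorem ext2 {A B : SL(2, K)} (h00 : A 0 0 = B 0 0) (h01 : A 0 1 = B 0 1) (h10 : A 1 0 = B 1 0)
    (h11 : A 1 1 = B 1 1) : A = B := by
  ext i j
  fin_cases i <;> fin_cases j <;> assumption

theorem det2 (g : SL(2, K)) : g 0 0 * g 1 1 - g 0 1 * g 1 0 = 1 := by
  have := g.2
  rwa [Matrix.det_fin_two] at this

theorem mul_apply2 (g h : SL(2, K)) (i j : Fin 2) :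
    (g * h) i j = g i 0 * h 0 j + g i 1 * h 1 j := by
  simp [Matrix.SpecialLinearGroup.coe_mul, Matrix.mul_apply, Fin.sum_univ_two]

theorem inv_apply2 (g : SL(2, K)) :
    g⁻¹ 0 0 = g 1 1 ∧ g⁻¹ 0 1 = -g 0 1 ∧ g⁻¹ 1 0 = -g 1 0 ∧ g⁻¹ 1 1 = g 0 0 := by
  rw [Matrix.SpecialLinearGroup.coe_inv, Matrix.adjugate_fin_two]
  simp

@[simp] theorem up00 (x : K) : up x 0 0 = 1 := rfl
@[simp] theorem up01 (x : K) : up x 0 1 = x := rfl
@[simp] theorem up10 (x : K) : up x 1 0 = 0 := rfl
@[simp] theorem up11 (x : K) : up x 1 1 = 1 := rfl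

theorem up_mul (x y : K) : up x * up y = up (x + y) := by
  apply ext2 <;> simp [mul_apply2, add_comm]

theorem up_zero : up (0 : K) = 1 := by
  apply ext2 <;> simp

theorem up_inv (x : K) : (up x)⁻¹ = up (-x) := by
  rw [inv_eq_iff_mul_eq_one, up_mul, add_neg_cancel, up_zero]

theorem up_pow (x : K) : ∀ n : ℕ, up x ^ n = up ((n : K) * x)
  | 0 => by simp [up_zero]
  | n + 1 => by rw [pow_succ, up_pow x n, up_mul]; push_cast; ring_nf

/-- The trace of an element. -/
def tr (g : SL(2, K)) : K := g 0 0 + g 1 1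

theorem tr_eq (g : SL(2, K)) : tr g = (g : Matrix (Fin 2) (Fin 2) K).trace := by
  simp [tr, Matrix.trace, Matrix.diag, Fin.sum_univ_two]

theorem tr_conj (g h : SL(2, K)) : tr (g * h * g⁻¹) = tr h := by
  obtain ⟨i00, i01, i10, i11⟩ := inv_apply2 g
  simp only [tr, mul_apply2, i00, i01, i10, i11]
  linear_combination (h 0 0 + h 1 1) * det2 g

theorem tr_mul_up (g : SL(2, K)) (s : K) : tr (g * up s) = tr g + g 1 0 * s := by
  simp [tr, mul_apply2]; ring

theorem conj_up_apply (g : SL(2, K)) (s : K) : (g * up s * g⁻¹) 1 0 = -s * g 1 0 ^ 2 := by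
  obtain ⟨i00, i01, i10, i11⟩ := inv_apply2 g
  simp [mul_apply2, i00, i10]; ring

theorem conj_up_of_lower_zero (g : SL(2, K)) (s : K) (h : g 1 0 = 0) :
    g * up s * g⁻¹ = up (g 0 0 ^ 2 * s) := by
  obtain ⟨i00, i01, i10, i11⟩ := inv_apply2 g
  have hd := det2 g
  rw [h, mul_zero, sub_zero] at hd
  apply ext2 <;> simp [mul_apply2, i00, i01, i10, i11, h]
  · linear_combination hd
  · ring
  · linear_combination hd

theorem neg_apply2 (g : SL(2, K)) (i j : Fin 2) : (-g) i j = -(g i j) := rfl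

theorem tr_neg (g : SL(2, K)) : tr (-g) = -tr g := by simp [tr]; ring

theorem multiplier_mem_of {S : AddSubgroup K} (hinv : ∀ s ∈ S, s⁻¹ ∈ S) (n : ℕ) :
    ∀ s ∈ S, ((n : K))⁻¹ * s ∈ S := by
  intro s hs
  by_cases hn : (n : K) = 0
  · simp [hn, zero_mem]
  have h := hinv _ (nsmul_mem (hinv s hs) n)
  rw [nsmul_eq_mul, mul_inv, inv_inv] at h
  exact h

variable {p : ℕ} [Fact p.Prime] [CharP K p]

theorem two_ne_zero' (hp : p ≠ 2) : (2 : K) ≠ 0 := by
  intro h
  have h' : ((2 : ℕ) : K) = 0 := by simpa using h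
  rw [CharP.cast_eq_zero_iff K p] at h'
  exact hp ((Nat.prime_dvd_prime_iff_eq Fact.out Nat.prime_two).1 h')

theorem sub_one_sq {g : SL(2, K)} (h : tr g = 2) :
    ((g : Matrix (Fin 2) (Fin 2) K) - 1) ^ 2 = 0 := by
  have hd := det2 g
  have h11 : g 1 1 = 2 - g 0 0 := by rw [← h, tr]; ring
  rw [sq]
  ext i j
  fin_cases i <;> fin_cases j <;> simp [Matrix.mul_apply, Fin.sum_univ_two, h11]
  · rw [h11] at hd; linear_combination -hd
  · ring
  · ring
  · rw [h11] at hd; linear_combination -hd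

theorem pow_char_eq_one {g : SL(2, K)} (h : tr g = 2) : g ^ p = 1 := by
  apply Subtype.ext
  rw [Matrix.SpecialLinearGroup.coe_pow, Matrix.SpecialLinearGroup.coe_one, ← sub_eq_zero]
  calc (g : Matrix (Fin 2) (Fin 2) K) ^ p - 1
      = ((g : Matrix (Fin 2) (Fin 2) K) - 1) ^ p := by
        rw [sub_pow_char_of_commute p (Commute.one_right _), one_pow]
    _ = 0 := pow_eq_zero_of_le (Fact.out : p.Prime).two_le (sub_one_sq h)

theorem tr_eq_two_of_pow {g : SL(2, K)} {k : ℕ} (h : g ^ p ^ k = 1) : tr g = 2 := by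
  have h1 : IsNilpotent ((g : Matrix (Fin 2) (Fin 2) K) - 1) := by
    refine ⟨p ^ k, ?_⟩
    rw [sub_pow_char_pow_of_commute _ _ (Commute.one_right _), one_pow,
      ← Matrix.SpecialLinearGroup.coe_pow, h, Matrix.SpecialLinearGroup.coe_one, sub_self]
  have h2 := (Matrix.isNilpotent_trace_of_isNilpotent h1).eq_zero
  rw [Matrix.trace_sub, Matrix.trace_one, ← tr_eq, sub_eq_zero] at h2
  simpa using h2

theorem eq_up_of_lower_zero {u : SL(2, K)} (h : tr u = 2) (h0 : u 1 0 = 0) : u = up (u 0 1) := by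
  have hd := det2 u
  rw [h0, mul_zero, sub_zero] at hd
  have h11 : u 1 1 = 2 - u 0 0 := by rw [← h, tr]; ring
  rw [h11] at hd
  have h00 : u 0 0 = 1 := by
    have : (u 0 0 - 1) ^ 2 = 0 := by linear_combination -hd
    exact sub_eq_zero.1 ((pow_eq_zero_iff (two_ne_zero)).1 this)
  apply ext2
  · simp [h00]
  · simp
  · simp [h0]
  · simp [h11, h00]; norm_num

theorem exists_conj_eq_up {u : SL(2, K)} (h : tr u = 2) (hu : u ≠ 1) :
    ∃ (P : SL(2, K)) (x : K), x ≠ 0 ∧ P * u * P⁻¹ = up x := by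
  suffices ∃ P : SL(2, K), (P * u * P⁻¹) 1 0 = 0 by
    obtain ⟨P, hP⟩ := this
    have e := eq_up_of_lower_zero ((tr_conj P u).trans h) hP
    refine ⟨P, _, fun hx => hu ?_, e⟩
    rw [hx, up_zero] at e
    exact conj_eq_one_iff.mp e
  by_cases h0 : u 1 0 = 0
  · exact ⟨1, by simpa using h0⟩
  let P : SL(2, K) := ⟨!![0, (u 1 0)⁻¹; -(u 1 0), u 0 0 - 1], by
    simp [Matrix.det_fin_two, h0]⟩
  refine ⟨P, ?_⟩
  obtain ⟨i00, i01, i10, i11⟩ := inv_apply2 P
  have hd := det2 u
  have h11 : u 1 1 = 2 - u 0 0 := by rw [← h, tr]; ring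
  rw [mul_apply2, mul_apply2, mul_apply2, i00, i10]
  simp [P, h11]
  rw [h11] at hd
  linear_combination u 1 0 * hd

/-- A map whose fibres consist of an element and its negative at most halves the cardinality. -/
theorem card_le_two_mul {A B : Type*} [Finite A] [Finite B] {v : A → K} (hv : Function.Injective v)
    (f : A → B) (hf : ∀ a b, f a = f b → v a = v b ∨ v a = -v b) :
    Nat.card A ≤ 2 * Nat.card B := by
  classical
  let g : A → B × Bool := fun a =>
    (f a, decide (v a = v (Classical.choose (p := fun a' => f a' = f a) ⟨a, rfl⟩)))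
  have hg : Function.Injective g := by
    intro a b h
    simp only [g, Prod.mk.injEq] at h
    obtain ⟨h, hb⟩ := h
    simp only [h, decide_eq_decide] at hb
    have hr := Classical.choose_spec (p := fun a' => f a' = f b) ⟨b, rfl⟩
    apply hv
    by_cases hcase : v b = v (Classical.choose (p := fun a' => f a' = f b) ⟨b, rfl⟩)
    · exact (hb.mpr hcase).trans hcase.symm
    · have h1 := (hf a _ (h.trans hr.symm)).resolve_left fun e => hcase (hb.mp e)
      have h2 := (hf b _ hr.symm).resolve_left hcase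
      exact h1.trans h2.symm
  have := Nat.card_le_card_of_injective g hg
  rw [Nat.card_prod, Nat.card_eq_fintype_card (α := Bool), Fintype.card_bool] at this
  omega

variable (X : Subgroup SL(2, K)) (x : K)

/-- The parameters of the upper unitriangular elements of `X`, scaled by `x`. -/
def param : AddSubgroup K where
  carrier := {s | up (x * s) ∈ X}
  add_mem' {a b} ha hb := by
    show up (x * (a + b)) ∈ X
    rw [mul_add, ← up_mul]; exact X.mul_mem ha hb
  zero_mem' := by
    show up (x * 0) ∈ X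
    rw [mul_zero, up_zero]; exact X.one_mem
  neg_mem' {a} ha := by
    show up (x * -a) ∈ X
    rw [mul_neg, ← up_inv]; exact X.inv_mem ha

theorem mem_param {s : K} : s ∈ param X x ↔ up (x * s) ∈ X := Iff.rfl

/-- The elements of `X` fixing the first basis line. -/
def borel : Subgroup X where
  carrier := {g | (g : SL(2, K)) 1 0 = 0}
  mul_mem' {a b} ha hb := by
    simp only [Set.mem_ofPred_eq, Subgroup.coe_mul] at *
    rw [mul_apply2, ha, hb]; simp
  one_mem' := by simp
  inv_mem' {a} ha := by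
    simp only [Set.mem_ofPred_eq, Subgroup.coe_inv] at *
    rw [(inv_apply2 _).2.2.1, ha, neg_zero]

theorem mem_borel {g : X} : g ∈ borel X ↔ (g : SL(2, K)) 1 0 = 0 := Iff.rfl

/-- The eigenvalue on the fixed line. -/
def eig : borel X →* K where
  toFun g := ((g : X) : SL(2, K)) 0 0
  map_one' := by simp
  map_mul' a b := by
    simp only [Subgroup.coe_mul]
    rw [mul_apply2, show ((b : X) : SL(2, K)) 1 0 = 0 from b.2]; simp

theorem eig_apply (g : borel X) : eig X g = ((g : X) : SL(2, K)) 0 0 := rfl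

theorem eig_ne_zero (g : borel X) : eig X g ≠ 0 := by
  intro h
  have hd := det2 ((g : X) : SL(2, K))
  rw [show ((g : X) : SL(2, K)) 1 0 = 0 from g.2, ← eig_apply, h] at hd
  simp at hd

/-- The upper unitriangular elements of `X`. -/
def unip : Subgroup X := (eig X).ker.map (borel X).subtype

theorem mem_unip {g : X} : g ∈ unip X ↔ (g : SL(2, K)) 1 0 = 0 ∧ (g : SL(2, K)) 0 0 = 1 := by
  constructor
  · rintro ⟨b, hb, rfl⟩; exact ⟨b.2, hb⟩
  · exact fun h => ⟨⟨g, h.1⟩, h.2, rfl⟩

theorem eq_up_of_mem_unip {g : X} (h : g ∈ unip X) : (g : SL(2, K)) = up ((g : SL(2, K)) 0 1) := by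
  obtain ⟨h0, h1⟩ := (mem_unip X).mp h
  have hd := det2 (g : SL(2, K))
  rw [h0, h1] at hd
  apply ext2
  · simp [h1]
  · simp
  · simp [h0]
  · simpa using hd

theorem eig_sq_mul_mem (g : borel X) {s : K} (hs : s ∈ param X x) :
    eig X g ^ 2 * s ∈ param X x := by
  rw [mem_param] at hs ⊢
  have := X.mul_mem (X.mul_mem (g : X).2 hs) (X.inv_mem (g : X).2)
  rw [conj_up_of_lower_zero _ _ g.2, ← eig_apply] at this
  convert this using 2
  ring

/-- The multipliers of the parameter group. -/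
def multiplier : Subring K where
  carrier := {c | ∀ s ∈ param X x, c * s ∈ param X x}
  one_mem' s hs := by simpa using hs
  mul_mem' {a b} ha hb s hs := by rw [mul_assoc]; exact ha _ (hb s hs)
  add_mem' {a b} ha hb s hs := by rw [add_mul]; exact add_mem (ha s hs) (hb s hs)
  zero_mem' s _ := by simp
  neg_mem' {a} ha s hs := by rw [neg_mul]; exact neg_mem (ha s hs)

section Count

variable [Finite X]

theorem finite_param (hx : x ≠ 0) : Finite (param X x) :=
  Finite.of_injective (fun s : param X x => (⟨up (x * s), s.2⟩ : X)) fun a b h => by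
    have := congrArg (fun g : X => (g : SL(2, K)) 0 1) h
    exact Subtype.ext (mul_left_cancel₀ hx (by simpa using this))

theorem card_unip (hx : x ≠ 0) : Nat.card (unip X) = Nat.card (param X x) := by
  refine (Nat.card_eq_of_bijective (fun s : param X x => (⟨⟨up (x * s), s.2⟩, ?_⟩ : unip X)) ⟨?_, ?_⟩).symm
  · exact (mem_unip X).mpr ⟨rfl, rfl⟩
  · intro a b h
    have := congrArg (fun g : unip X => ((g : X) : SL(2, K)) 0 1) h
    exact Subtype.ext (mul_left_cancel₀ hx (by simpa using this))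
  · intro g
    have he := eq_up_of_mem_unip X g.2
    refine ⟨⟨((g : X) : SL(2, K)) 0 1 / x, ?_⟩, ?_⟩
    · rw [mem_param, mul_div_cancel₀ _ hx, ← he]; exact (g : X).2
    · apply Subtype.ext; apply Subtype.ext
      show up (x * (((g : X) : SL(2, K)) 0 1 / x)) = _
      rw [mul_div_cancel₀ _ hx, ← he]

theorem unip_le_borel : unip X ≤ borel X := Subgroup.map_subtype_le _

theorem relIndex_unip : Nat.card (borel X ⧸ (unip X).subgroupOf (borel X)) = Nat.card (Set.range (eig X)) := by
  have h : (unip X).subgroupOf (borel X) = (eig X).ker := by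
    rw [unip, Subgroup.subgroupOf, Subgroup.comap_map_eq_self_of_injective (Subgroup.subtype_injective _)]
  refine Nat.card_eq_of_bijective (fun q => (⟨Quotient.liftOn' q (eig X) ?_, ?_⟩ : Set.range (eig X))) ⟨?_, ?_⟩
  · intro a b hab
    rw [QuotientGroup.leftRel_apply, h, MonoidHom.mem_ker] at hab
    calc eig X a = eig X a * eig X (a⁻¹ * b) := by rw [hab, mul_one]
      _ = eig X b := by rw [← map_mul, mul_inv_cancel_left]
  · induction q using Quotient.inductionOn' with | h a => exact ⟨a, rfl⟩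
  · intro q q'
    induction q using Quotient.inductionOn' with | h a => ?_
    induction q' using Quotient.inductionOn' with | h b => ?_
    intro hab
    have hab' : eig X a = eig X b := congrArg Subtype.val hab
    refine Quotient.sound' ?_
    rw [QuotientGroup.leftRel_apply, h, MonoidHom.mem_ker]
    refine mul_left_cancel₀ (eig_ne_zero X a) ?_
    rw [← map_mul, mul_inv_cancel_left, mul_one, hab']
  · rintro ⟨_, a, rfl⟩
    exact ⟨QuotientGroup.mk a, rfl⟩

theorem lower_ne_zero_of_ne_one {q : X ⧸ borel X} (hq : q ≠ QuotientGroup.mk 1) :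
    ((q.out : X) : SL(2, K)) 1 0 ≠ 0 := by
  intro h
  apply hq
  rw [← QuotientGroup.out_eq' q, QuotientGroup.eq]
  exact (borel X).mul_mem ((borel X).inv_mem h) (borel X).one_mem

variable {X x} in
theorem coset_eq_of_same_tr {g h : X}
    (hgh : (QuotientGroup.mk g : X ⧸ unip X) = QuotientGroup.mk h) (hg : (g : SL(2, K)) 1 0 ≠ 0)
    (htr : tr (g : SL(2, K)) = tr (h : SL(2, K))) : g = h := by
  have hu := QuotientGroup.eq.mp hgh
  have he := eq_up_of_mem_unip X hu
  set t := ((g⁻¹ * h : X) : SL(2, K)) 0 1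
  have e : (h : SL(2, K)) = (g : SL(2, K)) * up t := by
    rw [← he]; simp
  rw [e, tr_mul_up] at htr
  have : t = 0 := by
    have h2 : (g : SL(2, K)) 1 0 * t = 0 := by linear_combination -htr
    exact (mul_eq_zero.1 h2).resolve_left hg
  rw [this, up_zero, mul_one] at e
  exact Subtype.ext e.symm

end Count

include p in
/-- The core count: a suitable transvection of `X` outside the borel subgroup. -/
theorem exists_good_transvection [Finite X] (hp : p ≠ 2) (hx : x ≠ 0) (hux : up x ∈ X)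
    (hout : ∃ g : X, (g : SL(2, K)) 1 0 ≠ 0) :
    ∃ g : X, tr (g : SL(2, K)) = 2 ∧ (g : SL(2, K)) 1 0 ≠ 0 ∧
      up (((g : SL(2, K)) 1 0)⁻¹) ∈ X := by
  classical
  have h2 : (2 : K) ≠ 0 := two_ne_zero' (p := p) hp
  have := finite_param X x hx
  set S := param X x with hS
  set r := Nat.card S with hr
  set k := Nat.card (Set.range (eig X)) with hk
  have h1S : (1 : K) ∈ S := by rw [hS, mem_param, mul_one]; exact hux
  have hNS : ∀ (n : ℕ), (n : K) ∈ S := fun n => by simpa using nsmul_mem h1S n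
  have : Finite (Set.range (eig X)) := (Set.finite_range _).to_subtype
  -- the parameters of the two families of cosets
  let P := {q : X ⧸ borel X // q ≠ QuotientGroup.mk 1} × {s : S // s ≠ 0}
  let T : P → X := fun qs => qs.1.1.out * ⟨up (x * ((qs.2.1 : S) : K)), qs.2.1.2⟩ * qs.1.1.out⁻¹
  have hTtr : ∀ qs, tr (T qs : SL(2, K)) = 2 := by
    intro qs; simp only [T, Subgroup.coe_mul, Subgroup.coe_inv, tr_conj]; simp [tr]; norm_num
  have hTlow : ∀ qs, (T qs : SL(2, K)) 1 0 ≠ 0 := by
    intro qs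
    simp only [T, Subgroup.coe_mul, Subgroup.coe_inv, conj_up_apply]
    refine mul_ne_zero (neg_ne_zero.mpr (mul_ne_zero hx ?_)) (pow_ne_zero 2 (lower_ne_zero_of_ne_one X qs.1.2))
    exact fun h => qs.2.2 (Subtype.ext h)
  have hTinj : Function.Injective fun qs => (QuotientGroup.mk (T qs) : X ⧸ unip X) := by
    intro a b hab
    have e := congrArg (fun g : X => (g : SL(2, K)))
      (coset_eq_of_same_tr hab (hTlow a) ((hTtr a).trans (hTtr b).symm))
    simp only [T, Subgroup.coe_mul, Subgroup.coe_inv] at e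
    -- the axes agree
    set ga := ((a.1.1.out : X) : SL(2, K))
    set gb := ((b.1.1.out : X) : SL(2, K))
    have e' : (gb⁻¹ * ga) * up (x * ((a.2.1 : S) : K)) * (gb⁻¹ * ga)⁻¹ = up (x * ((b.2.1 : S) : K)) := by
      calc (gb⁻¹ * ga) * up (x * ((a.2.1 : S) : K)) * (gb⁻¹ * ga)⁻¹
          = gb⁻¹ * (ga * up (x * ((a.2.1 : S) : K)) * ga⁻¹) * gb := by group
        _ = _ := by rw [e]; group
    have hlow : (gb⁻¹ * ga) 1 0 = 0 := by
      have := congrArg (fun g : SL(2, K) => g 1 0) e'
      simp only [conj_up_apply, up10] at this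
      rcases mul_eq_zero.1 this with h | h
      · exact absurd h (neg_ne_zero.mpr (mul_ne_zero hx fun h => a.2.2 (Subtype.ext h)))
      · exact (pow_eq_zero_iff two_ne_zero).1 h
    have hq : b.1 = a.1 := by
      refine Subtype.ext ?_
      rw [← QuotientGroup.out_eq' b.1.1, ← QuotientGroup.out_eq' a.1.1, QuotientGroup.eq]
      exact hlow
    have hgab : gb = ga := by simp only [ga, gb, hq]
    rw [hgab] at e
    have := congrArg (fun g : SL(2, K) => g 0 1) (mul_left_cancel (mul_right_cancel e))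
    exact Prod.ext hq.symm (Subtype.ext (Subtype.ext (mul_left_cancel₀ hx (by simpa using this))))
  let E := Subgroup.quotientEquivProdOfLE (unip_le_borel X)
  let Y := {q : X ⧸ borel X // q ≠ QuotientGroup.mk 1} × (borel X ⧸ (unip X).subgroupOf (borel X))
  have hEfst : ∀ g : X, (E (QuotientGroup.mk g)).1 = QuotientGroup.mk g := fun g => rfl
  let Φ : {g : X // (g : SL(2, K)) 1 0 ≠ 0} → Y := fun g =>
    (⟨(E (QuotientGroup.mk g.1)).1, by
      rw [hEfst, Ne, eq_comm, QuotientGroup.eq, inv_one, one_mul]; exact g.2⟩,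
      (E (QuotientGroup.mk g.1)).2)
  have hΦ : ∀ g g', Φ g = Φ g' → (QuotientGroup.mk g.1 : X ⧸ unip X) = QuotientGroup.mk g'.1 := by
    intro g g' h
    apply E.injective
    exact Prod.ext (congrArg (fun y : Y => (y.1 : X ⧸ borel X)) h) (congrArg (fun y : Y => y.2) h)
  have hm : 0 < Nat.card {q : X ⧸ borel X // q ≠ QuotientGroup.mk 1} := by
    obtain ⟨g, hg⟩ := hout
    exact Finite.card_pos_iff.mpr ⟨⟨QuotientGroup.mk g, by
      rw [Ne, eq_comm, QuotientGroup.eq, inv_one, one_mul]; exact hg⟩⟩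
  have hsub : Nat.card {s : S // s ≠ 0} + 1 = r := by
    rw [hr, ← Nat.card_congr (Equiv.optionSubtypeNe (0 : S)), Finite.card_option]
  have hYcard : Nat.card Y = Nat.card {q : X ⧸ borel X // q ≠ QuotientGroup.mk 1} * k := by
    rw [Nat.card_prod, relIndex_unip]
  have hPcard : Nat.card P = Nat.card {q : X ⧸ borel X // q ≠ QuotientGroup.mk 1} * (r - 1) := by
    rw [Nat.card_prod, ← hsub, Nat.add_sub_cancel]
  -- first inequality
  have hk1 : r - 1 ≤ k := by
    have := Nat.card_le_card_of_injective (fun qs => Φ ⟨T qs, hTlow qs⟩)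
      fun a b h => hTinj (hΦ _ _ h)
    rw [hPcard, hYcard] at this
    exact Nat.le_of_mul_le_mul_left this hm
  have hr2 : 2 ≤ r := by
    have : 0 < Nat.card {s : S // s ≠ 0} :=
      Finite.card_pos_iff.mpr ⟨⟨⟨1, h1S⟩, fun h => one_ne_zero (congrArg Subtype.val h)⟩⟩
    omega
  -- squares of eigenvalues are nonzero parameters
  let sq : Set.range (eig X) → {s : S // s ≠ 0} := fun μ => ⟨⟨(μ : K) ^ 2, by
    obtain ⟨g, hg⟩ := μ.2
    rw [← hg, ← mul_one (eig X g ^ 2)]; exact eig_sq_mul_mem X x g h1S⟩, fun h => by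
    obtain ⟨g, hg⟩ := μ.2
    have := congrArg Subtype.val h
    exact pow_ne_zero 2 (eig_ne_zero X g) (hg ▸ this)⟩
  have hsq : ∀ μ ν, sq μ = sq ν → (μ : K) = ν ∨ (μ : K) = -ν := fun μ ν h =>
    sq_eq_sq_iff_eq_or_eq_neg.mp (congrArg (fun s : {s : S // s ≠ 0} => ((s : S) : K)) h)
  -- `-1` is an eigenvalue, so `-1 ∈ X`
  have hneg1 : (-1 : K) ∈ Set.range (eig X) := by
    by_contra hn
    have hinj : Function.Injective sq := by
      intro μ ν h
      rcases hsq μ ν h with h' | h'
      · exact Subtype.ext h'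
      · exfalso
        obtain ⟨a, ha⟩ := μ.2
        obtain ⟨b, hb⟩ := ν.2
        refine hn ⟨a * b⁻¹, ?_⟩
        have hbb : eig X b⁻¹ * eig X b = 1 := by rw [← map_mul, inv_mul_cancel, map_one]
        rw [map_mul, ha, h', ← hb]
        linear_combination -hbb
    have hle := Nat.card_le_card_of_injective sq hinj
    have hsur : Function.Surjective sq :=
      ((Nat.bijective_iff_injective_and_card sq).mpr ⟨hinj, by omega⟩).2
    obtain ⟨μ, hμ⟩ := hsur ⟨⟨-1, neg_mem h1S⟩, fun h => by simpa using congrArg Subtype.val h⟩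
    obtain ⟨g, hg⟩ := μ.2
    refine hn ⟨g * g, ?_⟩
    rw [map_mul, hg, ← pow_two]
    exact congrArg (fun s : {s : S // s ≠ 0} => ((s : S) : K)) hμ
  have hnegX : (-1 : SL(2, K)) ∈ X := by
    obtain ⟨g, hg⟩ := hneg1
    have h0 : ((g : X) : SL(2, K)) 1 0 = 0 := g.2
    have h00 : ((g : X) : SL(2, K)) 0 0 = -1 := hg
    have hd := det2 ((g : X) : SL(2, K))
    rw [h0, h00] at hd
    have e : ((g : X) : SL(2, K)) = -1 * up (-((g : X) : SL(2, K)) 0 1) := by
      apply ext2 <;> simp [h0, h00]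
      linear_combination -hd
    have hpow : ((g : X) : SL(2, K)) ^ p = -1 := by
      rw [e, (Commute.neg_one_left _).mul_pow,
        pow_char_eq_one (p := p) (g := up (-((g : X) : SL(2, K)) 0 1)) (by simp [tr]; norm_num),
        mul_one, Odd.neg_one_pow ((Fact.out : p.Prime).odd_of_ne_two hp)]
    exact hpow ▸ X.pow_mem (g : X).2 p
  -- second inequality: `k ≤ 2 (r - 1)`
  have hk2 : k ≤ 2 * (r - 1) := by
    rw [← hsub, Nat.add_sub_cancel]
    exact card_le_two_mul Subtype.val_injective sq hsq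
  -- the parameter group is closed under inversion
  have hinv : ∀ s ∈ S, s⁻¹ ∈ S := by
    let M := multiplier X x
    have hMS : ∀ c ∈ M, c ∈ S := fun c hc => by simpa using hc 1 h1S
    have : Finite M := Finite.of_injective (fun c : M => (⟨c, hMS c c.2⟩ : S))
      fun a b h => Subtype.ext (congrArg (fun s : S => (s : K)) h :)
    have hMinv : ∀ c ∈ M, c⁻¹ ∈ M := by
      intro c hc
      by_cases hc0 : c = 0
      · simp [hc0, zero_mem]
      have hsur : Function.Surjective fun d : M => (⟨c, hc⟩ * d : M) :=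
        Finite.surjective_of_injective fun a b h => by
          have := congrArg Subtype.val h
          exact Subtype.ext (mul_left_cancel₀ hc0 this)
      obtain ⟨d, hd⟩ := hsur 1
      have hd' : c * (d : K) = 1 := congrArg Subtype.val hd
      rw [inv_eq_of_mul_eq_one_right hd']
      exact d.2
    suffices hSM : ∀ s ∈ S, s ∈ M from fun s hs => hMS _ (hMinv s (hSM s hs))
    by_contra hcon
    push Not at hcon
    obtain ⟨s, hs, hsM⟩ := hcon
    have hinj : Function.Injective fun ab : M × M =>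
        (⟨(ab.1 : K) + ab.2 * s, add_mem (hMS _ ab.1.2) (ab.2.2 s hs)⟩ : S) := by
      rintro ⟨a, b⟩ ⟨a', b'⟩ h
      have h' : (a : K) + b * s = a' + b' * s := congrArg Subtype.val h
      have hb : (b : K) = b' := by
        by_contra hne
        refine hsM ?_
        have : s = ((a : K) - a') * ((b' : K) - b)⁻¹ := by
          rw [eq_mul_inv_iff_mul_eq₀ (sub_ne_zero.mpr (Ne.symm hne))]
          linear_combination -h'
        rw [this]
        exact mul_mem (sub_mem a.2 a'.2) (hMinv _ (sub_mem b'.2 b.2))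
      rw [hb] at h'
      exact Prod.ext (Subtype.ext (add_right_cancel h')) (Subtype.ext hb)
    have h3 := Nat.card_le_card_of_injective _ hinj
    rw [Nat.card_prod] at h3
    -- the squares of eigenvalues are multipliers
    let sqM : Set.range (eig X) → {c : M // c ≠ 0} := fun μ => ⟨⟨(μ : K) ^ 2, by
      obtain ⟨g, hg⟩ := μ.2
      intro s hs
      rw [← hg]; exact eig_sq_mul_mem X x g hs⟩, fun h => by
      obtain ⟨g, hg⟩ := μ.2
      exact pow_ne_zero 2 (eig_ne_zero X g) (hg ▸ congrArg Subtype.val h)⟩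
    have hMle : k ≤ 2 * Nat.card {c : M // c ≠ 0} :=
      card_le_two_mul Subtype.val_injective sqM fun μ ν h =>
        sq_eq_sq_iff_eq_or_eq_neg.mp (congrArg (fun c : {c : M // c ≠ 0} => ((c : M) : K)) h)
    have hM1 : Nat.card {c : M // c ≠ 0} + 1 = Nat.card M := by
      rw [← Nat.card_congr (Equiv.optionSubtypeNe (0 : M)), Finite.card_option]
    have h4 : r + 1 ≤ 2 * Nat.card M := by omega
    rw [← hr] at h3
    nlinarith
  -- conclude from a coset containing suitable traces
  suffices key : ∃ (g : X) (s : K), s ∈ S ∧ tr (g : SL(2, K)) = 2 ∧ (g : SL(2, K)) 1 0 ≠ 0 ∧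
      ((g : SL(2, K)) 1 0 * (x * s) = -4 ∨ (g : SL(2, K)) 1 0 * (x * s) = -2) by
    obtain ⟨g, s, hs, htr, hlow, hval⟩ := key
    have hgx : (g : SL(2, K)) 1 0 * x ≠ 0 := mul_ne_zero hlow hx
    have hmem : ((g : SL(2, K)) 1 0 * x)⁻¹ ∈ S := by
      rcases hval with hval | hval
      · have e : ((g : SL(2, K)) 1 0 * x)⁻¹ = -((4 : ℕ) : K)⁻¹ * s := by
          have h4 : (4 : K) ≠ 0 := by
            rw [show (4 : K) = 2 * 2 by norm_num]; exact mul_ne_zero h2 h2
          push_cast
          field_simp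
          linear_combination hval
        rw [e, neg_mul]
        exact neg_mem (by
          have := multiplier_mem_of hinv 4
          exact this s hs)
      · have e : ((g : SL(2, K)) 1 0 * x)⁻¹ = -((2 : ℕ) : K)⁻¹ * s := by
          push_cast
          field_simp
          linear_combination hval
        rw [e, neg_mul]
        exact neg_mem (by
          have := multiplier_mem_of hinv 2
          exact this s hs)
    refine ⟨g, htr, hlow, ?_⟩
    rw [hS, mem_param] at hmem
    convert hmem using 2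
    rw [mul_inv, mul_comm x, mul_assoc, inv_mul_cancel₀ hx, mul_one]
  by_cases hA : ∃ (g : X) (s : K), s ∈ S ∧ tr (g : SL(2, K)) = 2 ∧ (g : SL(2, K)) 1 0 ≠ 0 ∧
      tr ((g : SL(2, K)) * up (x * s)) = -2
  · obtain ⟨g, s, hs, htr, hlow, htr'⟩ := hA
    refine ⟨g, s, hs, htr, hlow, Or.inl ?_⟩
    rw [tr_mul_up, htr] at htr'
    linear_combination htr'
  push Not at hA
  let Tn : P → X := fun qs => ⟨-1, hnegX⟩ * T qs
  have hTn : ∀ qs, (Tn qs : SL(2, K)) = -(T qs : SL(2, K)) := fun qs => by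
    simp [Tn]
  have hTnlow : ∀ qs, (Tn qs : SL(2, K)) 1 0 ≠ 0 := fun qs => by
    rw [hTn, neg_apply2]; exact neg_ne_zero.mpr (hTlow qs)
  let F : P ⊕ P → Y := Sum.elim (fun qs => Φ ⟨T qs, hTlow qs⟩) (fun qs => Φ ⟨Tn qs, hTnlow qs⟩)
  have hcross : ∀ a b, (QuotientGroup.mk (T a) : X ⧸ unip X) ≠ QuotientGroup.mk (Tn b) := by
    intro a b h
    have hu := QuotientGroup.eq.mp h
    have he := eq_up_of_mem_unip X hu
    set t := (((T a)⁻¹ * Tn b : X) : SL(2, K)) 0 1
    have hmem : t / x ∈ S := by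
      rw [hS, mem_param, mul_div_cancel₀ _ hx, ← he]; exact ((T a)⁻¹ * Tn b).2
    refine hA (T a) (t / x) hmem (hTtr a) (hTlow a) ?_
    rw [mul_div_cancel₀ _ hx, ← he, ← Subgroup.coe_mul, mul_inv_cancel_left, hTn, tr_neg, hTtr]
  have hFinj : Function.Injective F := by
    rintro (a | a) (b | b) h
    · exact congrArg Sum.inl (hTinj (hΦ _ _ h))
    · exact absurd (hΦ _ _ h) (hcross a b)
    · exact absurd (hΦ _ _ h).symm (hcross b a)
    · refine congrArg Sum.inr (hTinj ?_)
      have h' := coset_eq_of_same_tr (hΦ _ _ h) (hTnlow a)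
        (by rw [hTn, hTn, tr_neg, tr_neg, hTtr, hTtr])
      show (QuotientGroup.mk (T a) : X ⧸ unip X) = QuotientGroup.mk (T b)
      rw [mul_left_cancel h']
  have hle := Nat.card_le_card_of_injective F hFinj
  rw [Nat.card_sum, hPcard, hYcard] at hle
  have hk3 : 2 * (r - 1) ≤ k := by
    refine Nat.le_of_mul_le_mul_left ?_ hm
    rw [mul_left_comm, two_mul]
    exact hle
  have hkeq : k = 2 * (r - 1) := le_antisymm hk2 hk3
  have hFsur : Function.Surjective F :=
    ((Nat.bijective_iff_injective_and_card F).mpr ⟨hFinj, by rw [Nat.card_sum, hPcard, hYcard, hkeq]; ring⟩).2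
  -- an eigenvalue of square `-1`
  obtain ⟨t, ht⟩ : ∃ t : borel X, eig X t ^ 2 = -1 := by
    by_contra hn
    push Not at hn
    let S' := {s : {s : S // s ≠ 0} // ((s : S) : K) ≠ -1}
    let sq' : Set.range (eig X) → S' := fun μ => ⟨sq μ, by
      obtain ⟨g, hg⟩ := μ.2
      show (μ : K) ^ 2 ≠ -1
      rw [← hg]; exact hn g⟩
    have h5 : k ≤ 2 * Nat.card S' := card_le_two_mul Subtype.val_injective sq'
      fun μ ν h => hsq μ ν (congrArg Subtype.val h)
    have h6 : Nat.card S' < Nat.card {s : S // s ≠ 0} := by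
      refine Finite.card_subtype_lt (x := ⟨⟨-1, neg_mem h1S⟩, fun h => ?_⟩) ?_
      · simpa using congrArg Subtype.val h
      · simp
    omega
  obtain ⟨g0, hg0⟩ := hout
  -- a transvection outside, and a trace zero element outside
  obtain ⟨q, hq⟩ : ∃ q : P, True := by
    obtain ⟨⟨q, hq⟩⟩ : Nonempty {q : X ⧸ borel X // q ≠ QuotientGroup.mk 1} := Finite.card_pos_iff.mp hm
    exact ⟨(⟨q, hq⟩, ⟨⟨1, h1S⟩, fun h => one_ne_zero (congrArg Subtype.val h)⟩), trivial⟩
  obtain ⟨w, hw0, hwlow⟩ : ∃ w : X, tr (w : SL(2, K)) = 0 ∧ (w : SL(2, K)) 1 0 ≠ 0 := by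
    set τ := ((t : X) : SL(2, K))
    have hτ0 : τ 1 0 = 0 := t.2
    have hτtr : tr τ = 0 := by
      have hd := det2 τ
      rw [hτ0, mul_zero, sub_zero] at hd
      have h00 : τ 0 0 ≠ 0 := eig_ne_zero X t
      refine mul_left_cancel₀ h00 ?_
      rw [tr, mul_zero, mul_add, hd, ← pow_two, show τ 0 0 ^ 2 = -1 from ht]; ring
    have hτ11 : τ 1 1 = -τ 0 0 := eq_neg_of_add_eq_zero_right (by simpa [tr] using hτtr)
    set h := T q
    have hC : (h : SL(2, K)) 1 0 ≠ 0 := hTlow q
    by_cases hz : ((h * t * h⁻¹ : X) : SL(2, K)) 1 0 = 0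
    · refine ⟨h * h * t * (h * h)⁻¹, by simp only [Subgroup.coe_mul, Subgroup.coe_inv, tr_conj]; exact hτtr, ?_⟩
      intro hz2
      simp only [Subgroup.coe_mul, Subgroup.coe_inv] at hz hz2
      obtain ⟨i00, i01, i10, i11⟩ := inv_apply2 (h : SL(2, K))
      obtain ⟨j00, j01, j10, j11⟩ := inv_apply2 ((h : SL(2, K)) * (h : SL(2, K)))
      simp only [mul_apply2, i00, i10, j00, j10, show ((t : X) : SL(2, K)) = τ from rfl, hτ0, hτ11] at hz hz2
      have hA' : (h : SL(2, K)) 0 0 = 2 - (h : SL(2, K)) 1 1 := by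
        rw [← hTtr q, tr]; ring
      rw [hA'] at hz2
      have hd := det2 (h : SL(2, K))
      rw [hA'] at hd
      have hμ : τ 0 0 ≠ 0 := eig_ne_zero X t
      have h1 : (h : SL(2, K)) 1 0 *
          (2 * τ 0 0 * (h : SL(2, K)) 1 1 - (h : SL(2, K)) 1 0 * τ 0 1) = 0 := by
        linear_combination hz
      have h2' : 2 * τ 0 0 * (h : SL(2, K)) 1 1 - (h : SL(2, K)) 1 0 * τ 0 1 = 0 :=
        (mul_eq_zero.1 h1).resolve_left hC
      have hBC : (h : SL(2, K)) 0 1 * (h : SL(2, K)) 1 0 =
          (2 - (h : SL(2, K)) 1 1) * (h : SL(2, K)) 1 1 - 1 := by linear_combination -hd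
      have h3 : (h : SL(2, K)) 1 0 * (τ 0 0 * 4) = 0 := by
        linear_combination (-1 : K) * hz2 + 4 * (h : SL(2, K)) 1 0 * h2' +
          4 * τ 0 0 * (h : SL(2, K)) 1 0 * hBC
      have h4 : (4 : K) ≠ 0 := by
        rw [show (4 : K) = 2 * 2 by norm_num]; exact mul_ne_zero h2 h2
      exact mul_ne_zero hC (mul_ne_zero hμ h4) h3
    · exact ⟨_, by simp only [Subgroup.coe_mul, Subgroup.coe_inv, tr_conj]; exact hτtr, hz⟩
  -- the coset of `w` contains a transvection or the negative of one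
  obtain ⟨ab, hab⟩ := hFsur (Φ ⟨w, hwlow⟩)
  have finish : ∀ (g : X), (g : SL(2, K)) 1 0 ≠ 0 →
      (QuotientGroup.mk g : X ⧸ unip X) = QuotientGroup.mk w →
      ∃ s ∈ S, tr (g : SL(2, K)) + (g : SL(2, K)) 1 0 * (x * s) = 0 := by
    intro g _ h
    have hu := QuotientGroup.eq.mp h
    have he := eq_up_of_mem_unip X hu
    set t := ((g⁻¹ * w : X) : SL(2, K)) 0 1
    refine ⟨t / x, ?_, ?_⟩
    · rw [hS, mem_param, mul_div_cancel₀ _ hx, ← he]; exact (g⁻¹ * w).2
    · rw [mul_div_cancel₀ _ hx, ← tr_mul_up, ← he, Subgroup.coe_mul, Subgroup.coe_inv,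
        mul_inv_cancel_left, hw0]
  rcases ab with a | a
  · obtain ⟨s, hs, e⟩ := finish (T a) (hTlow a) (hΦ _ _ hab)
    refine ⟨T a, s, hs, hTtr a, hTlow a, Or.inr ?_⟩
    rw [hTtr] at e
    linear_combination e
  · obtain ⟨s, hs, e⟩ := finish (Tn a) (hTnlow a) (hΦ _ _ hab)
    refine ⟨T a, s, hs, hTtr a, hTlow a, Or.inr ?_⟩
    rw [hTn, tr_neg, hTtr, neg_apply2] at e
    linear_combination -e

/-! ### The subgroup `SL(2, p)` -/

/-- The underlying map of `diagHom`. -/
def diagFun (y : K) (hy : y ≠ 0) (g : SL(2, K)) : SL(2, K) :=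
  ⟨!![g 0 0, y * g 0 1; y⁻¹ * g 1 0, g 1 1], by
    rw [Matrix.det_fin_two]
    have := det2 g
    simp
    field_simp
    linear_combination this⟩

@[simp] theorem diagFun00 (y : K) (hy : y ≠ 0) (g : SL(2, K)) : diagFun y hy g 0 0 = g 0 0 := rfl
@[simp] theorem diagFun01 (y : K) (hy : y ≠ 0) (g : SL(2, K)) : diagFun y hy g 0 1 = y * g 0 1 := rfl
@[simp] theorem diagFun10 (y : K) (hy : y ≠ 0) (g : SL(2, K)) : diagFun y hy g 1 0 = y⁻¹ * g 1 0 := rfl
@[simp] theorem diagFun11 (y : K) (hy : y ≠ 0) (g : SL(2, K)) : diagFun y hy g 1 1 = g 1 1 := rfl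

/-- Conjugation of `SL(2, K)` by `diag(y, 1)`. -/
def diagHom (y : K) (hy : y ≠ 0) : SL(2, K) →* SL(2, K) where
  toFun := diagFun y hy
  map_one' := by apply ext2 <;> simp
  map_mul' a b := by
    apply ext2 <;> simp [mul_apply2] <;> field_simp

@[simp] theorem diagHom_apply (y : K) (hy : y ≠ 0) (g : SL(2, K)) :
    diagHom y hy g = diagFun y hy g := rfl

theorem diagHom_injective (y : K) (hy : y ≠ 0) : Function.Injective (diagHom y hy) := by
  intro a b h
  have e00 := congrArg (fun g : SL(2, K) => g 0 0) h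
  have e01 := congrArg (fun g : SL(2, K) => g 0 1) h
  have e10 := congrArg (fun g : SL(2, K) => g 1 0) h
  have e11 := congrArg (fun g : SL(2, K) => g 1 1) h
  simp only [diagHom_apply, diagFun00, diagFun01, diagFun10, diagFun11] at e00 e01 e10 e11
  exact ext2 e00 (mul_left_cancel₀ hy e01) (mul_left_cancel₀ (inv_ne_zero hy) e10) e11

/-- Subgroups of `SL(2, K)` in odd characteristic `p` containing two non-commuting transvections contain
the image of an injective homomorphism from `SL(2, p)`. -/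
theorem exists_sl2_zmod_hom (hp : p ≠ 2) (X : Subgroup SL(2, K)) [Finite X] {u v : SL(2, K)}
    (hu : u ∈ X) (hv : v ∈ X) (hut : tr u = 2) (hvt : tr v = 2) (huv : ¬ Commute u v) :
    ∃ f : SL(2, ZMod p) →* SL(2, K), Function.Injective f ∧ f.range ≤ X := by
  obtain ⟨P, x, hx, hP⟩ := exists_conj_eq_up hut (fun h => huv (h ▸ Commute.one_left v))
  let c : SL(2, K) →* SL(2, K) := (MulAut.conj P).toMonoidHom
  let X' : Subgroup SL(2, K) := X.map c
  have : Finite X' :=
    Finite.of_equiv X (Subgroup.equivMapOfInjective X c (MulAut.conj P).injective).toEquiv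
  have hux : up x ∈ X' := ⟨u, hu, hP⟩
  have hout : ∃ g : X', (g : SL(2, K)) 1 0 ≠ 0 := by
    refine ⟨⟨c v, v, hv, rfl⟩, fun h => huv ?_⟩
    have e : c v = up ((c v) 0 1) := eq_up_of_lower_zero ((tr_conj P v).trans hvt) h
    have hc : Commute (c u) (c v) := by
      rw [e, show c u = up x from hP]
      show _ * _ = _ * _
      rw [up_mul, up_mul, add_comm]
    exact (MulAut.conj P).injective (by
      have := hc.eq
      rw [← map_mul, ← map_mul] at this
      exact this)
  obtain ⟨g, hgt, hgl, hgu⟩ := exists_good_transvection X' x hp hx hux hout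
  set γ := (g : SL(2, K)) 1 0 with hγ
  set t := (1 - (g : SL(2, K)) 0 0) / γ with ht
  let d : SL(2, K) →* SL(2, K) := diagHom γ⁻¹ (inv_ne_zero hgl)
  let m : SL(2, ZMod p) →* SL(2, K) := Matrix.SpecialLinearGroup.map (ZMod.castHom dvd_rfl K)
  let F : SL(2, ZMod p) →* SL(2, K) :=
    ((MulAut.conj P⁻¹).toMonoidHom.comp (MulAut.conj (up (-t))).toMonoidHom).comp (d.comp m)
  have hminj : Function.Injective m := by
    intro a b h
    apply Subtype.ext
    ext i j
    have := congrArg (fun g : SL(2, K) => g i j) h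
    exact (ZMod.castHom dvd_rfl K).injective (by simpa [m] using this)
  refine ⟨F, ((MulAut.conj P⁻¹).injective.comp (MulAut.conj _).injective).comp
    ((diagHom_injective γ⁻¹ (inv_ne_zero hgl)).comp hminj), ?_⟩
  have hback : ∀ z ∈ X', (MulAut.conj P⁻¹) z ∈ X := by
    rintro _ ⟨w, hw, rfl⟩
    have : P⁻¹ * (P * w * P⁻¹) * P⁻¹⁻¹ = w := by group
    show P⁻¹ * (P * w * P⁻¹) * P⁻¹⁻¹ ∈ X
    rwa [this]
  have hg11 : (g : SL(2, K)) 1 1 = 2 - (g : SL(2, K)) 0 0 := by
    rw [← hgt, tr]; ring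
  have h01 : (MulAut.conj (up (-t))) (d (m (Matrix.SpecialLinearGroup.transvection
      (show (0 : Fin 2) ≠ 1 by decide) 1))) ∈ X' := by
    have e : d (m (Matrix.SpecialLinearGroup.transvection (show (0 : Fin 2) ≠ 1 by decide) 1)) =
        up γ⁻¹ := by
      apply ext2 <;> simp [d, m, Matrix.SpecialLinearGroup.transvection_coe]
    rw [e, MulAut.conj_apply, up_inv, up_mul, up_mul]
    simpa using hgu
  have h10 : (MulAut.conj (up (-t))) (d (m (Matrix.SpecialLinearGroup.transvection
      (show (1 : Fin 2) ≠ 0 by decide) 1))) = (g : SL(2, K)) := by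
    obtain ⟨i00, i01, i10, i11⟩ := inv_apply2 (up (-t))
    have hd := det2 (g : SL(2, K))
    rw [hg11] at hd
    have hg0 : (g : SL(2, K)) 1 0 ≠ 0 := hγ ▸ hgl
    apply ext2 <;>
      simp [MulAut.conj_apply, mul_apply2, i00, i01, i10, i11, d, m,
        Matrix.SpecialLinearGroup.transvection_coe, hg11, hγ]
    · rw [ht, hγ]; field_simp [hg0]; ring
    · rw [ht, hγ]; field_simp [hg0]; linear_combination hd
    · rw [ht, hγ]; field_simp [hg0]; ring
  rintro _ ⟨M, rfl⟩
  refine CfsgLib.Linear.sl_induction (fun M => F M ∈ X) ?_ ?_ ?_ M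
  · simp only [map_one]; exact X.one_mem
  · intro i j hij c
    have hc : Matrix.SpecialLinearGroup.transvection hij c =
        Matrix.SpecialLinearGroup.transvection hij 1 ^ c.val := by
      apply Subtype.ext
      rw [Matrix.SpecialLinearGroup.coe_pow, Matrix.SpecialLinearGroup.transvection_coe,
        Matrix.SpecialLinearGroup.transvection_coe]
      have : ∀ n : ℕ, (1 + Matrix.single i j (1 : ZMod p)) ^ n = 1 + Matrix.single i j (n : ZMod p) := by
        intro n
        induction n with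
        | zero => simp
        | succ n ih =>
          rw [pow_succ, ih, add_mul, mul_add, one_mul, mul_add, mul_one,
            Matrix.single_mul_single_of_ne (h := hij.symm)]
          rw [add_zero, one_mul, Nat.cast_succ, Matrix.single_add]; abel
      rw [this, ZMod.natCast_val, ZMod.cast_id]
    show F _ ∈ X
    rw [hc, map_pow]
    refine X.pow_mem ?_ _
    fin_cases i <;> fin_cases j
    · exact absurd rfl hij
    · exact hback _ h01
    · exact hback _ (h10 ▸ g.2)
    · exact absurd rfl hij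
  · intro A B hA hB
    simp only [map_mul]
    exact X.mul_mem hA hB

end CfsgLib.PLocal.SL2
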