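/-
A linear group generated by two quadratic elements that is not a `p`-group maps onto a subgroup of `SL(2, K)` containing
two noncommuting transvections: the element `z = xy + yx` (`x = a - 1`, `y = b - 1`) is central in the algebra of
`x, y`, and a nonzero eigenvalue of `z` gives an invariant plane.
-/
import Cfsg.Agent.PLocal.TwoTransvection
import Mathlib.LinearAlgebra.Eigenspace.Basic
import Mathlib.FieldTheory.IsAlgClosed.Basic
import Mathlib.LinearAlgebra.Matrix.ToLin
set_option autoImplicit false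

namespace CfsgLib.PLocal.QuadraticPair

open scoped MatrixGroups

section Ring

variable {R : Type*} [Ring R] {x y : R}

theorem z_comm_left (hx : x * x = 0) : Commute x (x * y + y * x) := by
  show x * (x * y + y * x) = (x * y + y * x) * x
  rw [mul_add, ← mul_assoc, hx, zero_mul, zero_add, add_mul, mul_assoc y x x, hx, mul_zero, add_zero,
    mul_assoc]

theorem z_comm_right (hy : y * y = 0) : Commute y (x * y + y * x) := by
  rw [add_comm]
  exact z_comm_left hy

end Ring

section Group

variable {K : Type*} [Field K] {p : ℕ} [Fact p.Prime] [CharP K p]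
variable {W : Type*} [AddCommGroup W] [Module K W]
variable {X : Type*} [Group X]

/-- `ρ g + (ρ g)⁻¹ - 2 = xy + yx` for `g = ab`. -/
theorem z_eq (ρ : X →* Module.End K W) {a b : X} (ha : (ρ a - 1) * (ρ a - 1) = 0)
    (hb : (ρ b - 1) * (ρ b - 1) = 0) :
    (ρ a - 1) * (ρ b - 1) + (ρ b - 1) * (ρ a - 1) = ρ (a * b) + ρ (a * b)⁻¹ - (1 + 1) := by
  have inv : ∀ c : X, (ρ c - 1) * (ρ c - 1) = 0 → ρ c⁻¹ = 1 - (ρ c - 1) := by
    intro c hc
    have e : (1 - (ρ c - 1)) * ρ c = 1 := by
      have : (1 - (ρ c - 1)) * ρ c = 1 - (ρ c - 1) * (ρ c - 1) := by noncomm_ring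
      rw [this, hc, sub_zero]
    calc ρ c⁻¹ = (1 - (ρ c - 1)) * ρ c * ρ c⁻¹ := by rw [e, one_mul]
      _ = _ := by rw [mul_assoc, ← map_mul, mul_inv_cancel, map_one, mul_one]
  rw [mul_inv_rev, map_mul, map_mul, inv a ha, inv b hb]
  noncomm_ring

/-- If `z = xy + yx` is nilpotent the image is a `p`-group: every `ρ g - 1` has square in `z · C(z)`. -/
theorem exists_pow_eq_one_of_nilpotent (ρ : X →* Module.End K W) {a b : X}
    (hgen : Subgroup.closure ({a, b} : Set X) = ⊤) (ha : (ρ a - 1) * (ρ a - 1) = 0)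
    (hb : (ρ b - 1) * (ρ b - 1) = 0)
    (hz : IsNilpotent ((ρ a - 1) * (ρ b - 1) + (ρ b - 1) * (ρ a - 1))) (g : X) :
    ∃ k : ℕ, ρ (g ^ p ^ k) = 1 := by
  set x := ρ a - 1 with hxd
  set y := ρ b - 1 with hyd
  set z := x * y + y * x with hzd
  have zx : Commute z x := (z_comm_left ha).symm
  have zy : Commute z y := (z_comm_right hb).symm
  have xyx : x * y * x = z * x := by
    rw [hzd, add_mul, mul_assoc y x x, ha, mul_zero, add_zero]
  have yxy : y * (x * y) = z * y := by
    rw [hzd, add_mul, mul_assoc x y y, hb, mul_zero, zero_add, mul_assoc]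
  have yx : y * x = z - x * y := by rw [hzd]; abel
  -- the shape `z u + α x + β y + γ xy`
  let Sh : Module.End K W → Prop := fun e => ∃ (u : Module.End K W) (α β γ : K),
    Commute z u ∧ e = z * u + α • x + β • y + γ • (x * y)
  have shx : ∀ e, Sh e → Sh (e * x) := by
    rintro _ ⟨u, α, β, γ, hu, rfl⟩
    refine ⟨u * x + β • 1 + γ • x, 0, 0, -β,
      ((hu.mul_right zx).add_right ((Commute.one_right z).smul_right β)).add_right
        (zx.smul_right γ), ?_⟩
    simp only [add_mul, smul_mul_assoc, ha, smul_zero, add_zero, zero_smul, xyx, yx, smul_sub,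
      mul_add, mul_smul_comm, mul_one, mul_assoc]
    module
  have shy : ∀ e, Sh e → Sh (e * y) := by
    rintro _ ⟨u, α, β, γ, hu, rfl⟩
    refine ⟨u * y, 0, 0, α, hu.mul_right zy, ?_⟩
    simp only [add_mul, smul_mul_assoc, hb, smul_zero, add_zero, zero_smul, mul_assoc, mul_zero]
  have sh0x : ∀ c : K, Sh (c • x) := fun c => ⟨0, c, 0, 0, Commute.zero_right _, by simp⟩
  have sh0y : ∀ c : K, Sh (c • y) := fun c => ⟨0, 0, c, 0, Commute.zero_right _, by simp⟩
  have shadd : ∀ e e', Sh e → Sh e' → Sh (e + e') := by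
    rintro _ _ ⟨u, α, β, γ, hu, rfl⟩ ⟨u', α', β', γ', hu', rfl⟩
    exact ⟨u + u', α + α', β + β', γ + γ', hu.add_right hu', by
      simp only [mul_add, add_smul]; abel⟩
  have shneg : ∀ e, Sh e → Sh (-e) := by
    rintro _ ⟨u, α, β, γ, hu, rfl⟩
    exact ⟨-u, -α, -β, -γ, hu.neg_right, by simp only [mul_neg, neg_smul]; abel⟩
  have inv : ∀ c : X, (ρ c - 1) * (ρ c - 1) = 0 → ρ c⁻¹ = 1 - (ρ c - 1) := by
    intro c hc
    have e : (1 - (ρ c - 1)) * ρ c = 1 := by
      have : (1 - (ρ c - 1)) * ρ c = 1 - (ρ c - 1) * (ρ c - 1) := by noncomm_ring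
      rw [this, hc, sub_zero]
    calc ρ c⁻¹ = (1 - (ρ c - 1)) * ρ c * ρ c⁻¹ := by rw [e, one_mul]
      _ = _ := by rw [mul_assoc, ← map_mul, mul_inv_cancel, map_one, mul_one]
  have hsh : Sh (ρ g - 1) := by
    have hg : g ∈ Subgroup.closure ({a, b} : Set X) := hgen ▸ Subgroup.mem_top g
    induction hg using Subgroup.closure_induction_right with
    | one => rw [map_one, sub_self]; exact ⟨0, 0, 0, 0, Commute.zero_right _, by simp⟩
    | mul_right g _ c hc ih =>
      rcases hc with rfl | rfl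
      · have : ρ (g * c) - 1 = (ρ g - 1) * x + (ρ g - 1) + (1 : K) • x := by
          rw [map_mul, hxd, one_smul]; noncomm_ring
        rw [this]; exact shadd _ _ (shadd _ _ (shx _ ih) ih) (sh0x 1)
      · have : ρ (g * c) - 1 = (ρ g - 1) * y + (ρ g - 1) + (1 : K) • y := by
          rw [map_mul, hyd, one_smul]; noncomm_ring
        rw [this]; exact shadd _ _ (shadd _ _ (shy _ ih) ih) (sh0y 1)
    | mul_inv_cancel g _ c hc ih =>
      rcases hc with rfl | rfl
      · have : ρ (g * c⁻¹) - 1 = -((ρ g - 1) * x) + (ρ g - 1) + (-1 : K) • x := by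
          rw [map_mul, inv c ha, hxd, neg_one_smul]; noncomm_ring
        rw [this]; exact shadd _ _ (shadd _ _ (shneg _ (shx _ ih)) ih) (sh0x _)
      · have : ρ (g * c⁻¹) - 1 = -((ρ g - 1) * y) + (ρ g - 1) + (-1 : K) • y := by
          rw [map_mul, inv c hb, hyd, neg_one_smul]; noncomm_ring
        rw [this]; exact shadd _ _ (shadd _ _ (shneg _ (shy _ ih)) ih) (sh0y _)
  -- the square lies in `z · C(z)`
  have hsq : ∀ e, Sh e → ∃ v, Commute z v ∧ e * e = z * v := by
    rintro _ ⟨u, α, β, γ, hu, rfl⟩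
    have hf : Commute z (α • x + β • y + γ • (x * y)) :=
      ((zx.smul_right α).add_right (zy.smul_right β)).add_right ((zx.mul_right zy).smul_right γ)
    refine ⟨u * z * u + (u * (α • x + β • y + γ • (x * y)) + (α • x + β • y + γ • (x * y)) * u)
      + (α * β) • 1 + (α * γ) • x + (β * γ) • y + (γ * γ) • (x * y), ?_, ?_⟩
    · exact (((((hu.mul_right (Commute.refl z)).mul_right hu).add_right
        ((hu.mul_right hf).add_right (hf.mul_right hu))).add_right
        ((Commute.one_right z).smul_right _)).add_right (zx.smul_right _)).add_right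
        (zy.smul_right _) |>.add_right ((zx.mul_right zy).smul_right _)
    · have xxy : x * (x * y) = 0 := by rw [← mul_assoc, ha, zero_mul]
      have xyy : x * y * y = 0 := by rw [mul_assoc, hb, mul_zero]
      have xyxy : x * y * (x * y) = z * (x * y) := by rw [← mul_assoc, xyx, mul_assoc]
      have key : (α • x + β • y + γ • (x * y)) * (α • x + β • y + γ • (x * y)) =
          z * ((α * β) • 1 + (α * γ) • x + (β * γ) • y + (γ * γ) • (x * y)) := by
        simp only [add_mul, mul_add, smul_mul_assoc, mul_smul_comm, smul_smul, ha, hb, xxy, xyy,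
          xyx, yxy, xyxy, yx, smul_zero, mul_one, smul_sub]
        module
      rw [add_assoc (z * u + α • x), add_assoc (z * u),
        ← add_assoc (α • x) (β • y) (γ • (x * y)), add_assoc _ ((α * β) • (1 : Module.End K W)),
        add_assoc _ (_ + (α * γ) • x), add_assoc _ (_ + (β * γ) • y)]
      generalize α • x + β • y + γ • (x * y) = f at hf key ⊢
      generalize (α * β) • (1 : Module.End K W) + (α * γ) • x + (β * γ) • y + (γ * γ) • (x * y) = r
        at key ⊢
      rw [mul_add z, mul_add z, mul_add z, ← key, add_mul, mul_add, mul_add]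
      simp only [mul_assoc]
      rw [← mul_assoc f z u, ← hf.eq, mul_assoc z f u]
      abel
  obtain ⟨v, hzv, hv⟩ := hsq _ hsh
  obtain ⟨N, hN⟩ := hz
  have hnil : IsNilpotent (ρ g - 1) :=
    ⟨2 * N, by rw [pow_mul, pow_two, hv, hzv.mul_pow, hN, zero_mul]⟩
  obtain ⟨M, hM⟩ := hnil
  have hpz : ((p : ℕ) : Module.End K W) = 0 := by
    rw [← map_natCast (algebraMap K (Module.End K W)), CharP.cast_eq_zero, map_zero]
  have frob : ∀ k : ℕ, ∀ e : Module.End K W, (e + 1) ^ p ^ k = e ^ p ^ k + 1 := by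
    intro k
    induction k with
    | zero => intro e; simp
    | succ k ih =>
      intro e
      obtain ⟨r, hr⟩ := Commute.exists_add_pow_prime_eq (Fact.out : p.Prime) (Commute.one_right (e ^ p ^ k))
      rw [pow_succ, pow_mul, ih, hr, hpz, zero_mul, zero_mul, zero_mul, add_zero, one_pow, ← pow_mul]
  refine ⟨M, ?_⟩
  rw [map_pow, show ρ g = ρ g - 1 + 1 by rw [sub_add_cancel], frob,
    pow_eq_zero_of_le (Nat.lt_pow_self (Fact.out : p.Prime).one_lt).le hM, zero_add]

omit [Fact p.Prime] [CharP K p] in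
/-- A nonzero eigenvalue of `z` gives a representation in `SL(2, K)` with two noncommuting transvections. -/
theorem exists_plane_hom_of_eigen (ρ : X →* Module.End K W) {a b : X}
    (hgen : Subgroup.closure ({a, b} : Set X) = ⊤) (ha : (ρ a - 1) * (ρ a - 1) = 0)
    (hb : (ρ b - 1) * (ρ b - 1) = 0) {μ : K} (hμ : μ ≠ 0) {u : W} (hu0 : u ≠ 0)
    (hu : ((ρ a - 1) * (ρ b - 1) + (ρ b - 1) * (ρ a - 1)) u = μ • u) :
    ∃ φ : X →* SL(2, K), (∀ g, ρ g = 1 → φ g = 1) ∧ SL2.tr (φ a) = 2 ∧ SL2.tr (φ b) = 2 ∧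
      ¬ Commute (φ a) (φ b) := by
  set x := ρ a - 1 with hxd
  set y := ρ b - 1 with hyd
  have hzx : ∀ t, (x * y + y * x) (x t) = x ((x * y + y * x) t) := fun t => by
    rw [← Module.End.mul_apply, ← (z_comm_left ha).eq, Module.End.mul_apply]
  obtain ⟨w, hw0, hxw, hzw⟩ : ∃ w, w ≠ 0 ∧ x w = 0 ∧ (x * y + y * x) w = μ • w := by
    by_cases h : x u = 0
    · exact ⟨u, hu0, h, hu⟩
    · exact ⟨x u, h, by rw [← Module.End.mul_apply, ha, LinearMap.zero_apply],
        by rw [hzx, hu, map_smul]⟩
  set v := y w with hvd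
  have hyv : y v = 0 := by rw [hvd, ← Module.End.mul_apply, hb, LinearMap.zero_apply]
  have hxv : x v = μ • w := by
    rw [hvd, ← hzw, LinearMap.add_apply, Module.End.mul_apply, Module.End.mul_apply, hxw, map_zero,
      add_zero]
  let ι : (Fin 2 → K) → W := fun c => c 0 • w + c 1 • v
  have hι : Function.Injective ι := by
    intro c d hcd
    have h0 : (c 0 - d 0) • w + (c 1 - d 1) • v = 0 := by
      have : ι c - ι d = 0 := sub_eq_zero.mpr hcd
      rw [← this]; simp only [ι, sub_smul]; abel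
    have h1 : c 1 = d 1 := by
      have h := congrArg x h0
      rw [map_add, map_smul, map_smul, hxw, hxv, smul_zero, zero_add, smul_smul, map_zero] at h
      rcases smul_eq_zero.mp h with h | h
      · exact sub_eq_zero.mp ((mul_eq_zero.mp h).resolve_right hμ)
      · exact absurd h hw0
    rw [h1, sub_self, zero_smul, add_zero] at h0
    have h2 : c 0 = d 0 := sub_eq_zero.mp ((smul_eq_zero.mp h0).resolve_right hw0)
    funext i
    fin_cases i
    · exact h2
    · exact h1
  let Good : X → SL(2, K) → Prop := fun g M => ∀ c, ρ g (ι c) = ι (Matrix.mulVec M.1 c)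
  have huniq : ∀ g M N, Good g M → Good g N → M = N := fun g M N hM hN => by
    refine Subtype.ext (Matrix.toLin'.injective (LinearMap.ext fun c => ?_))
    rw [Matrix.toLin'_apply, Matrix.toLin'_apply]
    exact hι ((hM c).symm.trans (hN c))
  have hgmul : ∀ g h M N, Good g M → Good h N → Good (g * h) (M * N) := fun g h M N hM hN c => by
    rw [map_mul, Module.End.mul_apply, hN, hM, Matrix.SpecialLinearGroup.coe_mul,
      Matrix.mulVec_mulVec]
  have hginv : ∀ g M, Good g M → Good g⁻¹ M⁻¹ := fun g M hM c => by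
    have h1 : ρ g (ι (Matrix.mulVec (M⁻¹).1 c)) = ι c := by
      rw [hM, Matrix.mulVec_mulVec, ← Matrix.SpecialLinearGroup.coe_mul, mul_inv_cancel,
        Matrix.SpecialLinearGroup.coe_one, Matrix.one_mulVec]
    rw [← h1, ← Module.End.mul_apply, ← map_mul, inv_mul_cancel, map_one, Module.End.one_apply]
  have hgone : Good 1 1 := fun c => by
    rw [map_one, Module.End.one_apply, Matrix.SpecialLinearGroup.coe_one, Matrix.one_mulVec]
  let lo : SL(2, K) := ⟨!![1, 0; 1, 1], by simp [Matrix.det_fin_two]⟩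
  have hga : Good a (SL2.up μ) := fun c => by
    have e : ρ a (ι c) = x (ι c) + ι c := by rw [hxd, LinearMap.sub_apply, Module.End.one_apply, sub_add_cancel]
    rw [e]
    simp only [ι, map_add, map_smul, hxw, hxv, SL2.up, Matrix.mulVec, dotProduct, Fin.sum_univ_two,
      Matrix.of_apply, Matrix.cons_val_zero, Matrix.cons_val_one]
    module
  have hgb : Good b lo := fun c => by
    have e : ρ b (ι c) = y (ι c) + ι c := by rw [hyd, LinearMap.sub_apply, Module.End.one_apply, sub_add_cancel]
    rw [e]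
    simp only [ι, map_add, map_smul, hyv, ← hvd, lo, Matrix.mulVec, dotProduct, Fin.sum_univ_two,
      Matrix.of_apply, Matrix.cons_val_zero, Matrix.cons_val_one]
    module
  have hex : ∀ g, ∃ M, Good g M := fun g => by
    have hg : g ∈ Subgroup.closure ({a, b} : Set X) := hgen ▸ Subgroup.mem_top g
    induction hg using Subgroup.closure_induction with
    | mem c hc =>
      rcases hc with rfl | rfl
      · exact ⟨_, hga⟩
      · exact ⟨_, hgb⟩
    | one => exact ⟨1, hgone⟩
    | mul g h _ _ ihg ihh =>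
      obtain ⟨M, hM⟩ := ihg; obtain ⟨N, hN⟩ := ihh
      exact ⟨_, hgmul g h M N hM hN⟩
    | inv g _ ih =>
      obtain ⟨M, hM⟩ := ih
      exact ⟨_, hginv g M hM⟩
  choose F hF using hex
  let φ : X →* SL(2, K) := MonoidHom.mk' F fun g h =>
    huniq _ _ _ (hF _) (hgmul g h _ _ (hF g) (hF h))
  have hφa : φ a = SL2.up μ := huniq _ _ _ (hF a) hga
  have hφb : φ b = lo := huniq _ _ _ (hF b) hgb
  refine ⟨φ, fun g hg => huniq g _ _ (hF g) fun c => ?_, ?_, ?_, ?_⟩
  · rw [hg, Module.End.one_apply, Matrix.SpecialLinearGroup.coe_one, Matrix.one_mulVec]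
  · rw [hφa]; simp [SL2.tr, one_add_one_eq_two]
  · rw [hφb]; simp [lo, SL2.tr, one_add_one_eq_two]
  · rw [hφa, hφb]
    intro h
    have h1 := congrArg (fun M : SL(2, K) => M 0 0) h.eq
    rw [SL2.mul_apply2, SL2.mul_apply2] at h1
    simp [lo] at h1
    exact hμ h1

omit [Fact p.Prime] [CharP K p] in
/-- If `f` splits and `f(g)` is nilpotent but `g - 1` is not, `g` has an eigenvalue other than `1`. -/
theorem exists_eigen_ne_one (g : Module.End K W) {f : Polynomial K} (hm : f.Monic)
    (hf : f.Splits) (hn : IsNilpotent (Polynomial.aeval g f)) (hg : ¬ IsNilpotent (g - 1)) :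
    ∃ ζ : K, ζ ≠ 1 ∧ ∃ u : W, u ≠ 0 ∧ g u = ζ • u := by
  by_contra hno
  apply hg
  have hinj : ∀ ζ : K, ζ ≠ 1 → ∀ u : W, Polynomial.aeval g (Polynomial.X - Polynomial.C ζ) u = 0 → u = 0 := by
    intro ζ hζ u hu
    by_contra h0
    refine hno ⟨ζ, hζ, u, h0, ?_⟩
    rwa [map_sub, Polynomial.aeval_X, Polynomial.aeval_C, LinearMap.sub_apply,
      Module.algebraMap_end_apply, sub_eq_zero] at hu
  have hcomm : ∀ A B : Polynomial K, Commute (Polynomial.aeval g A) (Polynomial.aeval g B) :=
    fun A B => by rw [Commute, SemiconjBy, ← map_mul, ← map_mul, mul_comm]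
  have key : ∀ (s : Multiset K) (N : ℕ) (u : W),
      (Polynomial.aeval g (s.map fun ζ => Polynomial.X - Polynomial.C ζ).prod ^ N) u = 0 →
      ((g - 1) ^ (Multiset.card s * N)) u = 0 := by
    intro s
    induction s using Multiset.induction with
    | empty => intro N u h; simpa using h
    | cons ζ s ih =>
      intro N u h
      rw [Multiset.map_cons, Multiset.prod_cons, map_mul,
        (hcomm (Polynomial.X - Polynomial.C ζ) _).mul_pow,
        Module.End.mul_apply] at h
      rw [Multiset.card_cons, add_mul, one_mul, pow_add, Module.End.mul_apply]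
      by_cases hζ : ζ = 1
      · refine ih N _ ?_
        have e : Polynomial.aeval g (Polynomial.X - Polynomial.C ζ) = g - 1 := by
          rw [hζ]; simp
        rw [← e, ← Module.End.mul_apply,
          ← ((hcomm (Polynomial.X - Polynomial.C ζ) _).pow_pow N N).eq,
          Module.End.mul_apply]
        exact h
      · have : ∀ (j : ℕ) (t : W),
            (Polynomial.aeval g (Polynomial.X - Polynomial.C ζ) ^ j) t = 0 → t = 0 := by
          intro j
          induction j with
          | zero => intro t h; simpa using h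
          | succ j ihj => intro t h; rw [pow_succ, Module.End.mul_apply] at h; exact hinj ζ hζ t (ihj _ h)
        rw [← Module.End.mul_apply, ← pow_add, add_comm, pow_add, Module.End.mul_apply, ih N u (this N _ h),
          map_zero]
  obtain ⟨N, hN⟩ := hn
  rw [hf.eq_prod_roots_of_monic hm] at hN
  exact ⟨_, LinearMap.ext fun u => key _ N u (by rw [hN, LinearMap.zero_apply])⟩

/-- A linear group generated by two quadratic elements that is not a `p`-group, with the eigenvalues of `ab` in `K`,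
maps to `SL(2, K)` with the images of `a`, `b` noncommuting transvections. -/
theorem exists_plane_hom (ρ : X →* Module.End K W) {a b : X}
    (hgen : Subgroup.closure ({a, b} : Set X) = ⊤) (ha : (ρ a - 1) * (ρ a - 1) = 0)
    (hb : (ρ b - 1) * (ρ b - 1) = 0) {f : Polynomial K} (hm : f.Monic) (hf : f.Splits)
    (hn : IsNilpotent (Polynomial.aeval (ρ (a * b)) f))
    (hnp : ∃ g : X, ∀ k : ℕ, ρ (g ^ p ^ k) ≠ 1) :
    ∃ φ : X →* SL(2, K), (∀ g, ρ g = 1 → φ g = 1) ∧ SL2.tr (φ a) = 2 ∧ SL2.tr (φ b) = 2 ∧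
      ¬ Commute (φ a) (φ b) := by
  set c := a * b
  have hinv : ρ c⁻¹ * ρ c = 1 := by rw [← map_mul, inv_mul_cancel, map_one]
  have hinv' : ρ c * ρ c⁻¹ = 1 := by rw [← map_mul, mul_inv_cancel, map_one]
  have hz : (ρ a - 1) * (ρ b - 1) + (ρ b - 1) * (ρ a - 1) = ρ c + ρ c⁻¹ - (1 + 1) := z_eq ρ ha hb
  obtain ⟨ζ, hζ, u, hu0, hu⟩ := exists_eigen_ne_one (ρ c) hm hf hn (by
    intro hnil
    obtain ⟨g, hg⟩ := hnp
    obtain ⟨k, hk⟩ := exists_pow_eq_one_of_nilpotent (p := p) ρ hgen ha hb (by
      have e : ρ c + ρ c⁻¹ - (1 + 1) = (ρ c - 1) * ((ρ c - 1) * ρ c⁻¹) := by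
        simp only [sub_mul, mul_sub, one_mul, mul_one, ← mul_assoc, hinv']
        abel
      rw [hz, e]
      refine Commute.isNilpotent_mul_right ?_ hnil
      have hcc : Commute (ρ c - 1) (ρ c⁻¹) :=
        Commute.sub_left (show Commute (ρ c) (ρ c⁻¹) from hinv'.trans hinv.symm) (Commute.one_left _)
      exact (Commute.refl _).mul_right hcc) g
    exact hg k hk)
  have hζ0 : ζ ≠ 0 := by
    rintro rfl
    apply hu0
    rw [← Module.End.one_apply (R := K) u, ← hinv, Module.End.mul_apply, hu, zero_smul, map_zero]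
  have hu' : ρ c⁻¹ u = ζ⁻¹ • u := by
    have : ζ • ρ c⁻¹ u = u := by
      rw [← map_smul, ← hu, ← Module.End.mul_apply, hinv, Module.End.one_apply]
    conv_rhs => rw [← this, smul_smul, inv_mul_cancel₀ hζ0, one_smul]
  refine exists_plane_hom_of_eigen ρ hgen ha hb (μ := ζ + ζ⁻¹ - (1 + 1)) ?_ hu0 ?_
  · intro h
    apply hζ
    have : (ζ - 1) * (ζ - 1) = 0 := by
      calc (ζ - 1) * (ζ - 1) = ζ * ζ + ζ * ζ⁻¹ - ζ * (1 + 1) := by rw [mul_inv_cancel₀ hζ0]; ring
        _ = ζ * (ζ + ζ⁻¹ - (1 + 1)) := by ring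
        _ = 0 := by rw [h, mul_zero]
    exact sub_eq_zero.mp ((mul_eq_zero.mp this).elim id id)
  · rw [hz]
    simp only [LinearMap.sub_apply, LinearMap.add_apply, Module.End.one_apply, hu, hu']
    module

end Group

end CfsgLib.PLocal.QuadraticPair
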