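/-
Sections isomorphic to `SL(2, p)`, and groups that have none: abelian Sylow `2`-subgroups, and `p`-soluble groups
for `p ≥ 5`.
-/
import Cfsg.Agent.PLocal.PSolvable
import Cfsg.Agent.PLocal.CommutatorFacts
import Cfsg.Agent.Linear.Perfect
import Cfsg.Agent.QdFree.Basic
import Cfsg.Agent.PLocal.TwoTransvection
import Mathlib.NumberTheory.SumTwoSquares
import Mathlib.FieldTheory.Finite.Basic
set_option autoImplicit false

namespace CfsgLib.PLocal

open Cfsg Subgroup
open scoped MatrixGroups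

variable {G : Type*} [Group G] {p : ℕ}

/-- `SL(2, p)` is a homomorphic image of a subgroup of `H`. -/
def HasSL2Section (p : ℕ) (H : Subgroup G) : Prop :=
  ∃ K : Subgroup G, K ≤ H ∧ ∃ θ : K →* SL(2, ZMod p), Function.Surjective θ

theorem HasSL2Section.mono {H H' : Subgroup G} (hle : H ≤ H') (h : HasSL2Section p H) :
    HasSL2Section p H' :=
  let ⟨K, hK, θ⟩ := h; ⟨K, hK.trans hle, θ⟩

/-- The section in the form used by the statements. -/
theorem HasSL2Section.exists_quotient {H : Subgroup G} (h : HasSL2Section p H) :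
    ∃ (K L : Subgroup G) (_ : (L.subgroupOf K).Normal), K ≤ H ∧
      Nonempty ((K ⧸ L.subgroupOf K) ≃* SL(2, ZMod p)) := by
  obtain ⟨K, hK, θ, hθ⟩ := h
  have e : (θ.ker.map K.subtype).subgroupOf K = θ.ker :=
    comap_map_eq_self_of_injective K.subtype_injective _
  have hn : ((θ.ker.map K.subtype).subgroupOf K).Normal := by rw [e]; infer_instance
  exact ⟨K, θ.ker.map K.subtype, hn, hK,
    ⟨(QuotientGroup.quotientMulEquivOfEq e).trans (QuotientGroup.quotientKerEquivOfSurjective θ hθ)⟩⟩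

theorem hasSL2Section_of_quotient {H K L : Subgroup G} [(L.subgroupOf K).Normal] (hK : K ≤ H)
    (e : (K ⧸ L.subgroupOf K) ≃* SL(2, ZMod p)) : HasSL2Section p H :=
  ⟨K, hK, e.toMonoidHom.comp (QuotientGroup.mk' _),
    e.surjective.comp (QuotientGroup.mk'_surjective _)⟩

/-- Sections of images are sections. -/
theorem HasSL2Section.comap {G' : Type*} [Group G'] (f : G →* G') {H : Subgroup G}
    (h : HasSL2Section p (H.map f)) : HasSL2Section p H := by
  obtain ⟨K, hK, θ, hθ⟩ := h
  refine ⟨H ⊓ K.comap f, inf_le_left,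
    θ.comp ((f.comp (H ⊓ K.comap f).subtype).codRestrict K fun x => x.2.2), hθ.comp ?_⟩
  rintro ⟨k, hk⟩
  obtain ⟨x, hx, rfl⟩ := hK hk
  exact ⟨⟨x, hx, hk⟩, rfl⟩

/-- A group with a section inside a subgroup, seen in that subgroup. -/
theorem HasSL2Section.map_subtype {M : Subgroup G} {H : Subgroup M} (h : HasSL2Section p H) :
    HasSL2Section p (H.map M.subtype) := by
  obtain ⟨K, hK, θ, hθ⟩ := h
  exact ⟨K.map M.subtype, map_mono hK,
    θ.comp (K.equivMapOfInjective M.subtype M.subtype_injective).symm.toMonoidHom,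
    hθ.comp (K.equivMapOfInjective M.subtype M.subtype_injective).symm.surjective⟩

/-- An element of `SL(2, K)` from its entries. -/
def mkSL2 {K : Type*} [Field K] (a b c d : K) (h : a * d - b * c = 1) : SL(2, K) :=
  ⟨!![a, b; c, d], by simp [Matrix.det_fin_two, h]⟩

theorem mkSL2_apply {K : Type*} [Field K] (a b c d : K) (h : a * d - b * c = 1) :
    mkSL2 a b c d h 0 0 = a ∧ mkSL2 a b c d h 0 1 = b ∧ mkSL2 a b c d h 1 0 = c ∧
      mkSL2 a b c d h 1 1 = d :=
  ⟨rfl, rfl, rfl, rfl⟩

/-- Two elements of `SL(2, p)` generating a quaternion group. -/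
theorem exists_sl2_quaternion_pair [Fact p.Prime] (hp : p ≠ 2) :
    ∃ i j : SL(2, ZMod p), i ^ 4 = 1 ∧ j ^ 4 = 1 ∧ j * i * j⁻¹ = i⁻¹ ∧ ¬ Commute i j := by
  obtain ⟨x, y, hxy⟩ := ZMod.sq_add_sq p (-1)
  set i : SL(2, ZMod p) := mkSL2 0 1 (-1) 0 (by ring) with hid
  set j : SL(2, ZMod p) := mkSL2 x y y (-x) (by linear_combination -hxy) with hjd
  obtain ⟨i00, i01, i10, i11⟩ : i 0 0 = 0 ∧ i 0 1 = 1 ∧ i 1 0 = -1 ∧ i 1 1 = 0 := mkSL2_apply _ _ _ _ _
  obtain ⟨j00, j01, j10, j11⟩ : j 0 0 = x ∧ j 0 1 = y ∧ j 1 0 = y ∧ j 1 1 = -x := mkSL2_apply _ _ _ _ _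
  have one2 : (1 : SL(2, ZMod p)) 0 0 = 1 ∧ (1 : SL(2, ZMod p)) 0 1 = 0 ∧ (1 : SL(2, ZMod p)) 1 0 = 0 ∧
      (1 : SL(2, ZMod p)) 1 1 = 1 := by simp
  obtain ⟨o00, o01, o10, o11⟩ := one2
  have h2 : (2 : ZMod p) ≠ 0 := by
    intro h
    have h' : ((2 : ℕ) : ZMod p) = 0 := by simpa using h
    rw [ZMod.natCast_eq_zero_iff] at h'
    exact hp ((Nat.prime_dvd_prime_iff_eq Fact.out Nat.prime_two).1 h')
  have hii : i * i = -1 := by
    apply SL2.ext2 <;> simp only [SL2.mul_apply2, SL2.neg_apply2, i00, i01, i10, i11, o00, o01, o10, o11] <;>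
      ring
  have hjj : j * j = -1 := by
    apply SL2.ext2 <;> simp only [SL2.mul_apply2, SL2.neg_apply2, j00, j01, j10, j11, o00, o01, o10, o11] <;>
      first | linear_combination hxy | ring
  have hji : j * i = -(i * j) := by
    apply SL2.ext2 <;>
      simp only [SL2.mul_apply2, SL2.neg_apply2, i00, i01, i10, i11, j00, j01, j10, j11] <;> ring
  have hinv : i⁻¹ = -i := by
    rw [inv_eq_iff_mul_eq_one, mul_neg, hii, neg_neg]
  refine ⟨i, j, ?_, ?_, ?_, ?_⟩
  · rw [show 4 = 2 * 2 from rfl, pow_mul, pow_two i, hii, neg_one_sq]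
  · rw [show 4 = 2 * 2 from rfl, pow_mul, pow_two j, hjj, neg_one_sq]
  · rw [hji, hinv, neg_mul, mul_inv_cancel_right]
  · intro h
    have e : i * j = -(i * j) := h.eq.trans hji
    have hy := congrArg (fun M : SL(2, ZMod p) => M 0 0) e
    have hx := congrArg (fun M : SL(2, ZMod p) => M 0 1) e
    simp only [SL2.mul_apply2, SL2.neg_apply2, i00, i01, j00, j01, j10, j11, zero_mul, one_mul, zero_add]
      at hx hy
    have hy0 : y = 0 := by
      have : 2 * y = 0 := by linear_combination hy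
      exact (mul_eq_zero.mp this).resolve_left h2
    have hx0 : x = 0 := by
      have : 2 * x = 0 := by linear_combination (-1 : ZMod p) * hx
      exact (mul_eq_zero.mp this).resolve_left h2
    rw [hx0, hy0] at hxy
    simp at hxy

/-- With abelian Sylow `2`-subgroups there is no section `SL(2, p)`, `p` odd. -/
theorem not_hasSL2Section_of_abelian_sylow_two [Finite G] [Fact p.Prime] (hp : p ≠ 2) {H : Subgroup G}
    (hab : ∀ T : Sylow 2 H, IsMulCommutative T) : ¬ HasSL2Section p H := by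
  rintro ⟨K, hKH, θ, hθ⟩
  obtain ⟨i, j, hi, hj, hji, hnc⟩ := exists_sl2_quaternion_pair (p := p) hp
  haveI : Fact (Nat.Prime 2) := ⟨Nat.prime_two⟩
  have h4 : ∀ {g : SL(2, ZMod p)}, g ^ 4 = 1 → IsPGroup 2 (zpowers g) := fun {g} hg =>
    IsPGroup.of_card_dvd_pow (n := 2) (Nat.card_zpowers g ▸ orderOf_dvd_of_pow_eq_one (by simpa using hg))
  have hQ : IsPGroup 2 ↥(zpowers j ⊔ zpowers i) := by
    refine IsPGroup.to_sup_of_normal_right' (h4 hj) (h4 hi) (zpowers_le.mpr ?_)
    rw [mem_normalizer_iff_map_conj_eq]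
    show (zpowers i).map (MulAut.conj j).toMonoidHom = zpowers i
    rw [MonoidHom.map_zpowers]
    show zpowers (j * i * j⁻¹) = zpowers i
    rw [hji, zpowers_inv]
  obtain ⟨P, hP, hPQ⟩ := CfsgLib.QdFree.exists_pGroup_map_eq θ hθ _ hQ
  obtain ⟨a, ha, hai⟩ : i ∈ P.map θ := hPQ ▸ mem_sup_right (mem_zpowers i)
  obtain ⟨b, hb, hbj⟩ : j ∈ P.map θ := hPQ ▸ mem_sup_left (mem_zpowers j)
  obtain ⟨T, hT⟩ := (hP.map (inclusion hKH)).exists_le_sylow
  haveI := hab T
  apply hnc
  have : Commute a b := by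
    refine inclusion_injective hKH ?_
    rw [map_mul, map_mul]
    exact congrArg Subtype.val
      (mul_comm' (⟨inclusion hKH a, hT ⟨a, ha, rfl⟩⟩ : T) ⟨inclusion hKH b, hT ⟨b, hb, rfl⟩⟩)
  rw [← hai, ← hbj]
  exact this.map θ

/-- `SL(2, p)` is not `p`-soluble for `p ≥ 5`. -/
theorem not_isPSolvable_sl2 [Fact p.Prime] (hp : 5 ≤ p) : ¬ IsPSolvable p SL(2, ZMod p) := by
  intro hS
  classical
  have hne : (2 : ZMod p) ≠ 0 ∧ (2 : ZMod p) ^ 2 ≠ 1 := by
    constructor
    · intro h
      have h' : ((2 : ℕ) : ZMod p) = 0 := by simpa using h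
      rw [ZMod.natCast_eq_zero_iff] at h'
      have := Nat.le_of_dvd two_pos h'
      omega
    · intro h
      have h' : ((3 : ℕ) : ZMod p) = 0 := by push_cast; linear_combination h
      rw [ZMod.natCast_eq_zero_iff] at h'
      have := Nat.le_of_dvd (by norm_num) h'
      omega
  have hperf : commutator SL(2, ZMod p) = ⊤ :=
    CfsgLib.Linear.sl_eq_top_of_transvections fun i j hij c => by
      fin_cases i <;> fin_cases j <;> first
        | exact absurd rfl hij
        | exact Matrix.transvection_mem_commutator₀ hne.1 hne.2 c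
        | exact Matrix.transvection_mem_commutator₁ hne.1 hne.2 c
  -- a maximal normal subgroup
  obtain ⟨M, ⟨hMn, hMne⟩, hmax⟩ := Set.exists_max_image
    {M : Subgroup SL(2, ZMod p) | M.Normal ∧ M ≠ ⊤} (fun M => Nat.card M) (Set.toFinite _) (by
      refine ⟨⊥, inferInstance, fun h => ?_⟩
      have h0 : (Matrix.SpecialLinearGroup.transvection (show (0 : Fin 2) ≠ 1 by decide) (1 : ZMod p)) ∈
          (⊥ : Subgroup SL(2, ZMod p)) := h ▸ mem_top _
      rw [mem_bot] at h0
      simpa [Matrix.SpecialLinearGroup.transvection_coe] using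
        congrArg (fun A : SL(2, ZMod p) => A 0 1) h0)
  haveI := hMn
  haveI : Nontrivial (SL(2, ZMod p) ⧸ M) := QuotientGroup.nontrivial_iff.mpr hMne
  have hsimple : ∀ N : Subgroup (SL(2, ZMod p) ⧸ M), N.Normal → N ≠ ⊥ → N = ⊤ := by
    intro N hN hNne
    by_contra hNt
    have hle : M ≤ N.comap (QuotientGroup.mk' M) := fun x hx => by
      rw [mem_comap, QuotientGroup.mk'_apply, (QuotientGroup.eq_one_iff x).mpr hx]; exact one_mem _
    have hne' : N.comap (QuotientGroup.mk' M) ≠ ⊤ := fun h => hNt (by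
      rw [← map_comap_eq_self_of_surjective (QuotientGroup.mk'_surjective M) N, h,
        map_top_of_surjective _ (QuotientGroup.mk'_surjective M)])
    have := eq_of_le_of_card_ge hle (hmax _ ⟨inferInstance, hne'⟩)
    apply hNne
    rw [← map_comap_eq_self_of_surjective (QuotientGroup.mk'_surjective M) N, ← this,
      QuotientGroup.map_mk'_self]
  rcases pCore_ne_bot_or_of_isPSolvable (isPSolvable_quotient hS M) with h | h
  · have htop := hsimple _ inferInstance h
    have hpg : IsPGroup p (SL(2, ZMod p) ⧸ M) :=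
      (htop ▸ isPGroup_pCore p (SL(2, ZMod p) ⧸ M) :
        IsPGroup p (⊤ : Subgroup (SL(2, ZMod p) ⧸ M))).of_equiv topEquiv
    haveI := hpg.isNilpotent
    have h1 : (⊤ : Subgroup (SL(2, ZMod p) ⧸ M)) ≤ ⁅(⊤ : Subgroup (SL(2, ZMod p) ⧸ M)), (⊤ : Subgroup (SL(2, ZMod p) ⧸ M))⁆ := by
      rw [← map_top_of_surjective _ (QuotientGroup.mk'_surjective M), ← map_commutator,
        ← commutator_def, hperf]
    exact bot_ne_top (eq_bot_of_le_commutator_top h1).symm
  · have htop := hsimple _ inferInstance h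
    have hco : (Nat.card (SL(2, ZMod p) ⧸ M)).Coprime p := by
      have := coprime_card_pPrimeCore p (SL(2, ZMod p) ⧸ M)
      rwa [htop, Subgroup.card_top] at this
    apply hMne
    refine CfsgLib.Linear.sl_eq_top_of_transvections fun i j hij c => ?_
    have hpow : ∀ n : ℕ, (Matrix.SpecialLinearGroup.transvection hij c) ^ n =
        Matrix.SpecialLinearGroup.transvection hij ((n : ZMod p) * c) := by
      intro n
      induction n with
      | zero => simp [Matrix.SpecialLinearGroup.transvection_coeff_zero]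
      | succ n ih =>
        rw [pow_succ, ih]
        apply Subtype.ext
        rw [Matrix.SpecialLinearGroup.coe_mul, Matrix.SpecialLinearGroup.transvection]
        show Matrix.transvection i j _ * Matrix.transvection i j c = Matrix.transvection i j _
        rw [Matrix.transvection_mul_transvection_same _ _ hij]
        congr 1; push_cast; ring
    have h1 : (QuotientGroup.mk' M (Matrix.SpecialLinearGroup.transvection hij c)) ^ p = 1 := by
      rw [← map_pow, hpow, ZMod.natCast_self, zero_mul,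
        Matrix.SpecialLinearGroup.transvection_coeff_zero, map_one]
    exact (QuotientGroup.eq_one_iff _).mp (orderOf_eq_one_iff.mp (Nat.eq_one_of_dvd_coprimes hco
      (orderOf_dvd_natCard _) (orderOf_dvd_of_pow_eq_one h1)))

/-- A `p`-soluble group has no section `SL(2, p)` for `p ≥ 5`. -/
theorem not_hasSL2Section_of_isPSolvable [Fact p.Prime] (hp : 5 ≤ p) {H : Subgroup G}
    (hsep : IsPSolvable p H) : ¬ HasSL2Section p H := by
  rintro ⟨K, hKH, θ, hθ⟩
  refine not_isPSolvable_sl2 hp (isPSolvable_of_surjective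
    (isPSolvable_congr (isPSolvable_subgroup hsep (K.subgroupOf H)) (subgroupOfEquivOfLe hKH)) hθ)

end CfsgLib.PLocal
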