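/-
Failure of `p`-stability gives a section `SL(2, p)`; consequently groups without such a section act `p`-stably on
every normal `p`-subgroup.
-/
import Cfsg.Agent.PLocal.QuadraticPair
import Cfsg.Agent.PLocal.SL2Section
import Cfsg.Agent.PLocal.Stability
import Cfsg.Agent.Solvable.Frattini
import Cfsg.Agent.Small.BaerSuzuki
import Mathlib.FieldTheory.IsAlgClosed.AlgebraicClosure
import Mathlib.Algebra.Module.ZMod
set_option autoImplicit false

namespace CfsgLib.PLocal

open Cfsg Subgroup
open scoped commutatorElement MatrixGroups IsMulCommutative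

variable {G : Type*} [Group G] {p : ℕ}

/-- An action on a finite abelian group of exponent `p`, generated by two quadratic elements and not by a
`p`-group, maps to `SL(2, K)`, `K` an algebraic closure of `ZMod p`, with two noncommuting transvections. -/
theorem exists_hom_of_quadratic_pair [Fact p.Prime] {X A : Type*} [Group X] [Finite X]
    [AddCommGroup A] [Finite A] (hA : ∀ v : A, p • v = 0) (ρ : X →* AddMonoid.End A) {a b : X}
    (hgen : Subgroup.closure ({a, b} : Set X) = ⊤) (ha : (ρ a - 1) * (ρ a - 1) = 0)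
    (hb : (ρ b - 1) * (ρ b - 1) = 0) (hnp : ∃ g : X, ∀ k : ℕ, ρ (g ^ p ^ k) ≠ 1) :
    ∃ φ : X →* SL(2, AlgebraicClosure (ZMod p)), (∀ g, ρ g = 1 → φ g = 1) ∧
      SL2.tr (φ a) = 2 ∧ SL2.tr (φ b) = 2 ∧ ¬ Commute (φ a) (φ b) := by
  classical
  obtain ⟨n, ⟨e⟩⟩ : ∃ n, Nonempty (A ≃+ (Fin n → ZMod p)) := by
    letI inst : Module (ZMod p) A := AddCommGroup.zmodModule hA
    have hf : @Module.Finite (ZMod p) A _ _ inst := @Module.Finite.of_finite _ _ _ _ inst _
    exact ⟨_, ⟨(@Module.finBasis (ZMod p) A _ _ inst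
      (@Module.Free.of_divisionRing (ZMod p) A _ _ inst) _ hf).equivFun.toAddEquiv⟩⟩
  set K := AlgebraicClosure (ZMod p)
  haveI : CharP K p := charP_of_injective_algebraMap (algebraMap (ZMod p) K).injective p
  -- transport of additive endomorphisms
  let T : AddMonoid.End A →+* Matrix (Fin n) (Fin n) (ZMod p) :=
    { toFun := fun f => LinearMap.toMatrix'
        (AddMonoidHom.toZModLinearMap p ((e.toAddMonoidHom.comp f).comp e.symm.toAddMonoidHom))
      map_one' := by
        rw [← LinearMap.toMatrix'_id]; refine congrArg LinearMap.toMatrix' (LinearMap.ext fun w => ?_)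
        show e (e.symm w) = w
        rw [e.apply_symm_apply]
      map_mul' := fun f g => by
        rw [← LinearMap.toMatrix'_comp]; refine congrArg LinearMap.toMatrix' (LinearMap.ext fun w => ?_)
        show e (f (g (e.symm w))) = e (f (e.symm (e (g (e.symm w)))))
        rw [e.symm_apply_apply]
      map_zero' := by
        rw [← map_zero (LinearMap.toMatrix' (R := ZMod p) (m := Fin n) (n := Fin n))]
        refine congrArg LinearMap.toMatrix' (LinearMap.ext fun w => ?_)
        show e ((0 : AddMonoid.End A) (e.symm w)) = 0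
        exact e.map_zero
      map_add' := fun f g => by
        rw [← map_add (LinearMap.toMatrix' (R := ZMod p) (m := Fin n) (n := Fin n))]
        refine congrArg LinearMap.toMatrix' (LinearMap.ext fun w => ?_)
        show e (f (e.symm w) + g (e.symm w)) = e (f (e.symm w)) + e (g (e.symm w))
        exact e.map_add _ _ }
  have hT : Function.Injective T := fun f g h => by
    refine AddMonoidHom.ext fun v => e.injective ?_
    have h' := congrArg (fun L : (Fin n → ZMod p) →ₗ[ZMod p] (Fin n → ZMod p) => L (e v))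
      (LinearMap.toMatrix'.injective h)
    have h'' : e (f (e.symm (e v))) = e (g (e.symm (e v))) := h'
    rwa [e.symm_apply_apply] at h''
  let M : AddMonoid.End A →+* Module.End K (Fin n → K) :=
    (Matrix.toLinAlgEquiv' (R := K) (n := Fin n)).toRingEquiv.toRingHom.comp
      ((algebraMap (ZMod p) K).mapMatrix.comp T)
  have hM : Function.Injective M :=
    (Matrix.toLinAlgEquiv' (R := K) (n := Fin n)).injective.comp
      ((Matrix.map_injective (algebraMap (ZMod p) K).injective).comp hT)
  let σ : X →* Module.End K (Fin n → K) := M.toMonoidHom.comp ρ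
  have hσ : ∀ g, σ g = M (ρ g) := fun g => rfl
  have hqa : (σ a - 1) * (σ a - 1) = 0 := by
    rw [hσ, ← map_one M, ← map_sub, ← map_mul, ha, map_zero]
  have hqb : (σ b - 1) * (σ b - 1) = 0 := by
    rw [hσ, ← map_one M, ← map_sub, ← map_mul, hb, map_zero]
  have hN : 0 < orderOf (a * b) := orderOf_pos _
  obtain ⟨φ, h1, h2, h3, h4⟩ := QuadraticPair.exists_plane_hom (p := p) σ hgen hqa hqb
    (f := Polynomial.X ^ orderOf (a * b) - 1) (Polynomial.monic_X_pow_sub_C 1 hN.ne')
    (IsAlgClosed.splits _) ⟨1, by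
      rw [pow_one, map_sub, map_pow, Polynomial.aeval_X, map_one, ← map_pow, pow_orderOf_eq_one,
        map_one, sub_self]⟩
    (let ⟨g, hg⟩ := hnp; ⟨g, fun k h => hg k (hM (by rw [← hσ, h, map_one]))⟩)
  exact ⟨φ, fun g hg => h1 g (by rw [hσ, hg, map_one]), h2, h3, h4⟩

/-- Conjugation by `N_G(V)` as endomorphisms of an abelian `V`. -/
noncomputable def normEnd (V : Subgroup G) [IsMulCommutative V] :
    ↥(normalizer (V : Set G)) →* AddMonoid.End (Additive V) where
  toFun g := (V.normalizerMonoidHom g).toMonoidHom.toAdditive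
  map_one' := by rw [map_one]; rfl
  map_mul' g h := by rw [map_mul]; rfl

theorem normEnd_eq_one_iff (V : Subgroup G) [IsMulCommutative V] {g : ↥(normalizer (V : Set G))} :
    normEnd V g = 1 ↔ (g : G) ∈ centralizer (V : Set G) := by
  rw [mem_centralizer_iff]
  constructor
  · intro h v hv
    have h0 := congrArg (fun z : Additive V => (z.toMul : G))
      (DFunLike.congr_fun h (Additive.ofMul (⟨v, hv⟩ : V)))
    have h1 : (g : G) * v * (g : G)⁻¹ = v := h0
    exact (mul_inv_eq_iff_eq_mul.mp h1).symm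
  · intro h
    refine AddMonoidHom.ext fun v => Additive.toMul.injective (Subtype.ext ?_)
    show (g : G) * (v.toMul : G) * (g : G)⁻¹ = (v.toMul : G)
    rw [← h _ v.toMul.2, mul_inv_cancel_right]

theorem normEnd_sub_one_sq (V : Subgroup G) [IsMulCommutative V] {g : ↥(normalizer (V : Set G))}
    (hq : ⁅⁅V, Subgroup.zpowers (g : G)⁆, Subgroup.zpowers (g : G)⁆ = ⊥) :
    (normEnd V g - 1) * (normEnd V g - 1) = 0 := by
  refine AddMonoidHom.ext fun v => ?_
  show normEnd V g (normEnd V g v - v) - (normEnd V g v - v) = 0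
  rw [sub_eq_zero]
  refine Additive.toMul.injective (Subtype.ext ?_)
  show (g : G) * ((g : G) * (v.toMul : G) * (g : G)⁻¹ / (v.toMul : G)) * (g : G)⁻¹ =
    (g : G) * (v.toMul : G) * (g : G)⁻¹ / (v.toMul : G)
  have h := ((quadratic_iff g.2).mp hq _ v.toMul.2).inv_left
  have e : (g : G) * (v.toMul : G) * (g : G)⁻¹ / (v.toMul : G) = ⁅(v.toMul : G), (g : G)⁆⁻¹ := by
    simp [commutatorElement_def, div_eq_mul_inv, mul_assoc]
  rw [e, ← h.eq, mul_inv_cancel_right]

/-- Two quadratic elements generating, modulo the centralizer, a group that is not a `p`-group have a section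
`SL(2, p)`. -/
theorem hasSL2Section_of_quadratic_pair [Finite G] [Fact p.Prime] (hp : p ≠ 2) {V : Subgroup G}
    (hV : IsElementaryAbelian p V) {a b : G} (ha : a ∈ normalizer (V : Set G))
    (hb : b ∈ normalizer (V : Set G))
    (hqa : ⁅⁅V, Subgroup.zpowers a⁆, Subgroup.zpowers a⁆ = ⊥)
    (hqb : ⁅⁅V, Subgroup.zpowers b⁆, Subgroup.zpowers b⁆ = ⊥)
    (hnp : ∃ g ∈ Subgroup.closure ({a, b} : Set G), ∀ k : ℕ, g ^ p ^ k ∉ centralizer (V : Set G)) :
    HasSL2Section p (Subgroup.closure ({a, b} : Set G)) := by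
  haveI := hV.1
  set X := Subgroup.closure ({a, b} : Set G) with hX
  have hXN : X ≤ normalizer (V : Set G) := (closure_le _).mpr (by
    rintro x (rfl | rfl) <;> assumption)
  let a' : X := ⟨a, subset_closure (Or.inl rfl)⟩
  let b' : X := ⟨b, subset_closure (Or.inr rfl)⟩
  have hgen : Subgroup.closure ({a', b'} : Set X) = ⊤ := by
    apply map_injective X.subtype_injective
    rw [MonoidHom.map_closure, ← MonoidHom.range_eq_map, range_subtype]
    simp [hX, a', b', Set.image_insert_eq, Set.image_singleton]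
  let ρ : X →* AddMonoid.End (Additive V) := (normEnd V).comp (inclusion hXN)
  have hexp : ∀ v : Additive V, p • v = 0 := fun v =>
    Additive.toMul.injective (show v.toMul ^ p = 1 from Subtype.ext (by simpa using hV.2 _ v.toMul.2))
  obtain ⟨φ, -, hta, htb, hnc⟩ := exists_hom_of_quadratic_pair hexp ρ hgen
    (normEnd_sub_one_sq V (g := ⟨a, ha⟩) hqa) (normEnd_sub_one_sq V (g := ⟨b, hb⟩) hqb) (by
      obtain ⟨g, hg, hgk⟩ := hnp
      exact ⟨⟨g, hg⟩, fun k h => hgk k (by simpa [ρ] using (normEnd_eq_one_iff V).mp h)⟩)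
  haveI : CharP (AlgebraicClosure (ZMod p)) p :=
    charP_of_injective_algebraMap (algebraMap (ZMod p) _).injective p
  haveI : Finite φ.range := Finite.of_surjective φ.rangeRestrict φ.rangeRestrict_surjective
  obtain ⟨f, hf, hfr⟩ := SL2.exists_sl2_zmod_hom hp φ.range ⟨a', rfl⟩ ⟨b', rfl⟩ hta htb hnc
  -- the preimage of the copy of `SL(2, p)`
  let K₀ : Subgroup X := f.range.comap φ
  let θ : K₀ →* f.range := (φ.comp K₀.subtype).codRestrict f.range fun x => x.2
  have hθ : Function.Surjective θ := by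
    rintro ⟨y, hy⟩
    obtain ⟨x, rfl⟩ := hfr hy
    exact ⟨⟨x, hy⟩, rfl⟩
  let ι := (K₀.equivMapOfInjective X.subtype X.subtype_injective).symm
  exact ⟨K₀.map X.subtype, map_subtype_le _,
    ((MonoidHom.ofInjective hf).symm.toMonoidHom.comp θ).comp ι.toMonoidHom,
    ((MonoidHom.ofInjective hf).symm.surjective.comp hθ).comp ι.surjective⟩

/-- Kernel criterion: a normal subgroup of `H` through whose `p'`-elements `V` is centralized contains every
element of `H` that is quadratic on `V`, unless `H` has a section `SL(2, p)`. -/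
theorem exists_normal_or_hasSL2Section [Finite G] [Fact p.Prime] (hp : p ≠ 2) {V H : Subgroup G}
    (hV : IsElementaryAbelian p V) (hHV : H ≤ normalizer (V : Set G)) {a : G} (haH : a ∈ H)
    (hq : ⁅⁅V, Subgroup.zpowers a⁆, Subgroup.zpowers a⁆ = ⊥) (hns : ¬ HasSL2Section p H) :
    ∃ D : Subgroup H, D.Normal ∧ (⟨a, haH⟩ : H) ∈ D ∧
      ∀ y ∈ D, (orderOf y).Coprime p → (y : G) ∈ centralizer (V : Set G) := by
  set C : Subgroup H := (centralizer (V : Set G)).subgroupOf H with hC
  haveI : C.Normal := by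
    refine ⟨fun c hc g => ?_⟩
    exact (normal_subgroupOf_centralizer_normalizer (V : Set G)).conj_mem
      ⟨(c : G), hHV c.2⟩ hc ⟨(g : G), hHV g.2⟩
  set π := QuotientGroup.mk' C with hπ
  obtain ⟨N, hNn, hNp, haN⟩ := CfsgLib.Small.baerSuzuki_elem (p := p) (π ⟨a, haH⟩) (by
    intro q
    obtain ⟨g, rfl⟩ := QuotientGroup.mk'_surjective C q
    by_contra hnot
    apply hns
    have hga : (g : G) * a * (g : G)⁻¹ ∈ H := mul_mem (mul_mem g.2 haH) (inv_mem g.2)
    have hle : Subgroup.closure ({a, (g : G) * a * (g : G)⁻¹} : Set G) ≤ H := (closure_le _).mpr (by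
      rintro x (rfl | rfl) <;> assumption)
    refine (hasSL2Section_of_quadratic_pair hp hV (hHV haH) (hHV hga) hq ?_ ?_).mono hle
    · have hgN := mem_normalizer_iff_map_conj_eq.mp (hHV g.2)
      have h1 := congrArg (Subgroup.map (MulAut.conj (g : G)).toMonoidHom) hq
      rw [map_commutator, map_commutator, MonoidHom.map_zpowers, Subgroup.map_bot,
        show V.map (MulAut.conj (g : G)).toMonoidHom = V from hgN] at h1
      exact h1
    · by_contra hall
      push Not at hall
      apply hnot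
      rw [← map_inv, ← map_mul, ← map_mul, ← Set.image_pair, ← MonoidHom.map_closure]
      rintro ⟨_, x, hx, rfl⟩
      have hxG : (x : G) ∈ Subgroup.closure ({a, (g : G) * a * (g : G)⁻¹} : Set G) := by
        have h1 : (x : G) ∈ (Subgroup.closure ({⟨a, haH⟩, g * ⟨a, haH⟩ * g⁻¹} : Set H)).map H.subtype :=
          mem_map_of_mem _ hx
        rw [MonoidHom.map_closure, Set.image_pair] at h1
        exact h1
      obtain ⟨k, hk⟩ := hall _ hxG
      refine ⟨k, Subtype.ext ?_⟩
      rw [SubmonoidClass.coe_pow, Subgroup.coe_one, ← map_pow]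
      exact (QuotientGroup.eq_one_iff _).mpr (mem_subgroupOf.mpr (by simpa using hk)))
  refine ⟨N.comap π, hNn.comap π, haN, fun y hy hco => ?_⟩
  obtain ⟨j, hj⟩ := IsPGroup.iff_card.mp hNp
  have h1 : orderOf (π y) ∣ p ^ j := hj ▸ Subgroup.orderOf_mk (π y) hy ▸
    orderOf_dvd_natCard (⟨π y, hy⟩ : N)
  exact mem_subgroupOf.mp ((QuotientGroup.eq_one_iff y).mp (orderOf_eq_one_iff.mp
    (Nat.eq_one_of_dvd_coprimes (hco.pow_right j) (orderOf_map_dvd π y) h1)))

/-- For a faithful action: a quadratic element outside `O_p(H)` gives a section `SL(2, p)`. -/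
theorem hasSL2Section_of_not_mem_pCore [Finite G] [Fact p.Prime] (hp : p ≠ 2) {V H : Subgroup G}
    (hV : IsElementaryAbelian p V) (hHV : H ≤ normalizer (V : Set G))
    (hf : H ⊓ centralizer (V : Set G) = ⊥) {a : G} (haH : a ∈ H)
    (hq : ⁅⁅V, Subgroup.zpowers a⁆, Subgroup.zpowers a⁆ = ⊥)
    (hna : a ∉ (pCore p H).map H.subtype) : HasSL2Section p H := by
  by_contra hns
  obtain ⟨D, hD, haD, hDc⟩ := exists_normal_or_hasSL2Section hp hV hHV haH hq hns
  refine hna ⟨⟨a, haH⟩, le_pCore (hN := hD) (isPGroup_of_forall_coprime_eq_one fun y hy => ?_) haD, rfl⟩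
  rw [← Subgroup.orderOf_coe] at hy
  exact Subtype.ext (Subtype.ext (mem_bot.mp (hf ▸ mem_inf.mpr ⟨(y : H).2, hDc _ y.2 hy⟩)))

/-- Without a section `SL(2, p)` the action on a normal elementary abelian `p`-subgroup is `p`-stable. -/
theorem isPStableOn_elementary_of_no_section [Finite G] [Fact p.Prime] (hp : p ≠ 2)
    (hns : ¬ HasSL2Section p (⊤ : Subgroup G)) (V : Subgroup G) [V.Normal]
    (hV : IsElementaryAbelian p V) : IsPStableOn p V := by
  intro a ha
  obtain ⟨D, hD, haD, hDc⟩ := exists_normal_or_hasSL2Section hp hV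
    (le_top.trans (normalizer_eq_top V).ge) (mem_top a) ha hns
  haveI : (D.map (⊤ : Subgroup G).subtype).Normal := hD.map _ fun g => ⟨⟨g, mem_top g⟩, rfl⟩
  set π := QuotientGroup.mk' (centralizer (V : Set G))
  haveI : ((D.map (⊤ : Subgroup G).subtype).map π).Normal :=
    Subgroup.Normal.map inferInstance _ (QuotientGroup.mk'_surjective _)
  refine le_pCore (N := (D.map (⊤ : Subgroup G).subtype).map π)
    (isPGroup_of_forall_coprime_eq_one fun z hz => ?_)
    (mem_map_of_mem π ⟨⟨a, mem_top a⟩, haD, rfl⟩)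
  obtain ⟨_, e, ⟨e', he', rfl⟩, rfl⟩ := z
  rw [← Subgroup.orderOf_coe] at hz
  obtain ⟨k, m, hm, hk⟩ := Nat.exists_eq_pow_mul_and_not_dvd (orderOf_pos e').ne' p
    (Fact.out : p.Prime).ne_one
  have hcm : Nat.Coprime (p ^ k) m :=
    Nat.Coprime.pow_left _ ((Fact.out : p.Prime).coprime_iff_not_dvd.mpr hm)
  obtain ⟨j, hj0, hj1⟩ := Nat.chineseRemainder hcm 0 1
  have hpow : (e' ^ j) ^ m = 1 := by
    obtain ⟨c, rfl⟩ := Nat.modEq_zero_iff_dvd.mp hj0
    rw [← pow_mul, show p ^ k * c * m = orderOf e' * c by rw [hk]; ring, pow_mul,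
      pow_orderOf_eq_one, one_pow]
  have hc := hDc _ (pow_mem he' j)
    ((not_dvd_iff_coprime.mpr hm).coprime_dvd_left (orderOf_dvd_of_pow_eq_one hpow))
  have hdvd : orderOf (π (e' : G)) ∣ m :=
    (hz.pow_right k).dvd_of_dvd_mul_left (hk ▸ Subgroup.orderOf_coe e' ▸ orderOf_map_dvd π (e' : G))
  refine Subtype.ext ?_
  show π (e' : G) = 1
  have h2 : π (e' : G) ^ j = π (e' : G) :=
    (pow_eq_pow_iff_modEq.mpr (hj1.of_dvd hdvd)).trans (pow_one _)
  rw [← h2, ← map_pow, ← Subgroup.coe_pow]
  exact (QuotientGroup.eq_one_iff _).mpr hc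

/-- `V/Φ(V)` is elementary abelian. -/
theorem isElementaryAbelian_map_frattini [Finite G] [Fact p.Prime] {V : Subgroup G} [V.Normal]
    (hV : IsPGroup p V) [((frattini ↥V).map V.subtype).Normal] :
    IsElementaryAbelian p (V.map (QuotientGroup.mk' ((frattini ↥V).map V.subtype))) := by
  refine ⟨le_centralizer_iff_isMulCommutative.mp ?_, ?_⟩
  · rw [← commutator_eq_bot_iff_le_centralizer, ← map_commutator, Subgroup.map_eq_bot_iff,
      QuotientGroup.ker_mk']
    have h := map_mono (f := V.subtype) (CfsgLib.Solvable.commutator_le_frattini hV)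
    rwa [commutator_def, map_commutator, ← MonoidHom.range_eq_map, range_subtype] at h
  · rintro _ ⟨v, hv, rfl⟩
    rw [← map_pow]
    exact (QuotientGroup.eq_one_iff _).mpr
      ⟨(⟨v, hv⟩ : V) ^ p, CfsgLib.Solvable.pow_mem_frattini hV _, rfl⟩

/-- Without a section `SL(2, p)`, the action on `V/Φ(V)` is `p`-stable. -/
theorem isPStableOnSection_frattini_of_no_section [Finite G] [Fact p.Prime] (hp : p ≠ 2)
    (hns : ¬ HasSL2Section p (⊤ : Subgroup G)) (V : Subgroup G) [hVn : V.Normal]
    (hV : IsPGroup p V) [((frattini ↥V).map V.subtype).Normal] :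
    IsPStableOnSection p V ((frattini ↥V).map V.subtype) := by
  set N := (frattini ↥V).map V.subtype with hN
  intro a ha
  set π := QuotientGroup.mk' N
  haveI : (V.map π).Normal := hVn.map _ (QuotientGroup.mk'_surjective _)
  have hst := isPStableOn_elementary_of_no_section (p := p) hp
    (fun h => hns ((h.mono le_top : HasSL2Section p ⊤) |> fun h' =>
      HasSL2Section.comap π (H := (⊤ : Subgroup G))
        (by rwa [map_top_of_surjective _ (QuotientGroup.mk'_surjective _)])))
    (V.map π) (isElementaryAbelian_map_frattini hV)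
  have hq : ⁅⁅V.map π, Subgroup.zpowers (π a)⁆, Subgroup.zpowers (π a)⁆ = ⊥ := by
    rw [← MonoidHom.map_zpowers, ← map_commutator, ← map_commutator, Subgroup.map_eq_bot_iff,
      QuotientGroup.ker_mk']
    exact ha
  obtain ⟨D, hD, hCD, ⟨k, hk⟩, haD⟩ := exists_normal_of_isPStableOn hst hq
  refine ⟨D.comap π, hD.comap π, comap_mono hCD, ⟨k, ?_⟩, haD⟩
  rw [sectionKernel, relIndex_comap, map_comap_eq_self_of_surjective (QuotientGroup.mk'_surjective _)]
  exact hk

/-- Without a section `SL(2, p)`, the action on every normal `p`-subgroup is `p`-stable. -/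
theorem isPStableOn_of_no_section [Finite G] [Fact p.Prime] (hp : p ≠ 2)
    (hns : ¬ HasSL2Section p (⊤ : Subgroup G)) (V : Subgroup G) [hVn : V.Normal]
    (hV : IsPGroup p V) : IsPStableOn p V := by
  set N := (frattini ↥V).map V.subtype with hN
  haveI : N.Normal := normal_map_subtype V (frattini ↥V)
  intro a ha
  obtain ⟨D, hD, hSD, ⟨k, hk⟩, haD⟩ := isPStableOnSection_frattini_of_no_section hp hns V hV a
    (ha ▸ bot_le)
  set π := QuotientGroup.mk' (centralizer (V : Set G))
  haveI : (D.map π).Normal := hD.map _ (QuotientGroup.mk'_surjective _)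
  refine le_pCore (N := D.map π) ?_ (mem_map_of_mem π haD)
  -- `D / C(V)` is a `p`-group
  refine isPGroup_of_forall_coprime_eq_one fun z hz => ?_
  obtain ⟨_, e, he, rfl⟩ := z
  rw [← Subgroup.orderOf_coe] at hz
  obtain ⟨i, m, hm, hi⟩ := Nat.exists_eq_pow_mul_and_not_dvd (orderOf_pos e).ne' p
    (Fact.out : p.Prime).ne_one
  have hcm : Nat.Coprime (p ^ i) m :=
    Nat.Coprime.pow_left _ ((Fact.out : p.Prime).coprime_iff_not_dvd.mpr hm)
  obtain ⟨j, hj0, hj1⟩ := Nat.chineseRemainder hcm 0 1
  have hpow : (e ^ j) ^ m = 1 := by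
    obtain ⟨c, rfl⟩ := Nat.modEq_zero_iff_dvd.mp hj0
    rw [← pow_mul, show p ^ i * c * m = orderOf e * c by rw [hi]; ring, pow_mul,
      pow_orderOf_eq_one, one_pow]
  have hco : (orderOf (e ^ j)).Coprime p :=
    (not_dvd_iff_coprime.mpr hm).coprime_dvd_left (orderOf_dvd_of_pow_eq_one hpow)
  -- a `p'`-element of `D` lies in the section kernel
  haveI : (sectionKernel V N).Normal := by
    haveI : (V.map (QuotientGroup.mk' N)).Normal := hVn.map _ (QuotientGroup.mk'_surjective _)
    exact Subgroup.Normal.comap inferInstance _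
  have hker : e ^ j ∈ sectionKernel V N := by
    have h1 : orderOf (QuotientGroup.mk' (sectionKernel V N) (e ^ j)) ∣ p ^ k := by
      have h2 := relIndex_ker (K := D) (QuotientGroup.mk' (sectionKernel V N))
      rw [QuotientGroup.ker_mk', hk] at h2
      exact h2 ▸ Subgroup.orderOf_mk _ (mem_map_of_mem (QuotientGroup.mk' (sectionKernel V N)) (pow_mem he j)) ▸
        orderOf_dvd_natCard _
    exact (QuotientGroup.eq_one_iff _).mp (orderOf_eq_one_iff.mp
      (Nat.eq_one_of_dvd_coprimes (hco.pow_right k)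
        (orderOf_map_dvd (QuotientGroup.mk' (sectionKernel V N)) (e ^ j)) h1))
  have hc : e ^ j ∈ centralizer (V : Set G) := by
    refine CfsgLib.Coprime.le_centralizer_of_commutator_le_frattini
      (A := Subgroup.zpowers (e ^ j)) (le_top.trans (normalizer_eq_top V).ge) ?_ ?_ (mem_zpowers _)
    · obtain ⟨n, hn⟩ := IsPGroup.iff_card.mp (hV.to_subgroup (frattini ↥V))
      rw [Nat.card_zpowers, hn]
      exact hco.pow_right n
    · rw [← hN, ← QuotientGroup.ker_mk' N, ← Subgroup.map_eq_bot_iff, map_commutator,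
        commutator_eq_bot_iff_le_centralizer, le_centralizer_iff, MonoidHom.map_zpowers, zpowers_le]
      exact hker
  have hdvd : orderOf (π e) ∣ m :=
    (hz.pow_right i).dvd_of_dvd_mul_left (hi ▸ orderOf_map_dvd π e)
  refine Subtype.ext ?_
  show π e = 1
  have h2 : π e ^ j = π e := (pow_eq_pow_iff_modEq.mpr (hj1.of_dvd hdvd)).trans (pow_one _)
  rw [← h2, ← map_pow]
  exact (QuotientGroup.eq_one_iff _).mpr hc

/-- Without a section `SL(2, p)` the group is `p`-stable in the action sense. -/
theorem isActionPStable_of_no_section [Finite G] [Fact p.Prime] (hp : p ≠ 2)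
    (hns : ¬ HasSL2Section p (⊤ : Subgroup G)) : IsActionPStable p G := by
  refine ⟨fun V _ hV => isPStableOn_elementary_of_no_section hp hns V hV, ?_, fun S V _ hle => ?_⟩
  · haveI : ((frattini ↥(pCore p G)).map (pCore p G).subtype).Normal :=
      normal_map_subtype (pCore p G) (frattini ↥(pCore p G))
    exact isPStableOnSection_frattini_of_no_section hp hns (pCore p G) (isPGroup_pCore p G)
  · refine isPStableOn_of_no_section hp (fun h => hns ?_) V ?_
    · have h' := h.map_subtype
      exact h'.mono le_top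
    · refine ((S.isPGroup'.to_le ?_).comap_subtype).to_le (map_le_iff_le_comap.mp hle)
      exact map_subtype_le _

end CfsgLib.PLocal
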