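/-
The Glauberman–Thompson normal `p`-complement theorem, for any functor `W` that is normal in `p`-stable groups with
`C(O_p) ≤ O_p`.
-/
import Cfsg.Agent.OddOrder.ZJ.Main
import Cfsg.Agent.Transfer.Frobenius
import Cfsg.Agent.PLocal.ZJTheorem
set_option autoImplicit false

namespace CfsgLib.PLocal

open Cfsg Subgroup
open scoped commutatorElement IsMulCommutative

universe u

variable {G : Type u} [Group G] {p : ℕ}

/-- The endomorphism of an abelian normal subgroup given by conjugation. -/
noncomputable def conjEnd (V : Subgroup G) [V.Normal] [IsMulCommutative V] :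
    G →* AddMonoid.End (Additive V) where
  toFun g := (MulAut.conjNormal g).toMonoidHom.toAdditive
  map_one' := AddMonoidHom.ext fun v => Additive.toMul.injective (Subtype.ext (by
    show (1 : G) * (v.toMul : G) * (1 : G)⁻¹ = (v.toMul : G)
    simp))
  map_mul' g h := AddMonoidHom.ext fun v => Additive.toMul.injective (Subtype.ext (by
    show g * h * (v.toMul : G) * (g * h)⁻¹ = g * (h * (v.toMul : G) * h⁻¹) * g⁻¹
    simp [mul_assoc]))

theorem conjEnd_eq_one_iff (V : Subgroup G) [V.Normal] [IsMulCommutative V] {g : G} :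
    conjEnd V g = 1 ↔ g ∈ centralizer (V : Set G) := by
  rw [mem_centralizer_iff]
  constructor
  · intro h v hv
    have h0 := congrArg (fun z : Additive V => (z.toMul : G))
      (DFunLike.congr_fun h (Additive.ofMul (⟨v, hv⟩ : V)))
    have h1 : g * v * g⁻¹ = v := h0
    exact (mul_inv_eq_iff_eq_mul.mp h1).symm
  · intro h
    refine AddMonoidHom.ext fun v => Additive.toMul.injective (Subtype.ext ?_)
    show g * (v.toMul : G) * g⁻¹ = (v.toMul : G)
    rw [← h _ v.toMul.2, mul_inv_cancel_right]

/-- In a ring of exponent prime to `2`: an involution commuting with its conjugates by a unipotent `1 + n`, `n² = 0`,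
commutes with `n`. -/
theorem commute_of_involution_quadratic {R : Type*} [Ring R] (h2 : ∀ y : R, y + y = 0 → y = 0)
    {n s : R} (hn : n * n = 0) (hs : s * s = 1)
    (h1 : Commute s ((1 + n) * s * (1 - n))) (h3 : Commute s ((1 - n) * s * (1 + n))) :
    Commute n s := by
  have e : s * (n * s - s * n) + s * (n * s - s * n) - ((n * s - s * n) * s + (n * s - s * n) * s) =
      0 := by
    have := congrArg₂ (· - ·) h1.eq h3.eq
    simp only [mul_add, add_mul, mul_sub, sub_mul, one_mul, mul_one] at this ⊢
    rw [← sub_eq_zero] at this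
    rw [← this]
    noncomm_ring
  have e1 : s * (n * s - s * n) - (n * s - s * n) * s = 0 := h2 _ (by rw [← e]; abel)
  have e2 : s * n * s - n = 0 := by
    refine h2 _ ?_
    rw [← e1]
    have a1 : s * (s * n) = n := by rw [← mul_assoc, hs, one_mul]
    have a2 : n * s * s = n := by rw [mul_assoc, hs, mul_one]
    rw [mul_sub, sub_mul, a1, a2, ← mul_assoc]
    abel
  rw [sub_eq_zero] at e2
  show n * s = s * n
  conv_lhs => rw [← e2]
  rw [mul_assoc, hs, mul_one]

/-- An element acting as an involution on an abelian `V` of odd order and commuting there with its two conjugates by a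
quadratic `a` commutes with `a` there. -/
theorem commutator_mem_centralizer_of_quadratic [Finite G] {V : Subgroup G} [V.Normal]
    (hV : IsMulCommutative V) (hodd : Odd (Nat.card V)) {a x : G}
    (hq : ∀ v ∈ V, Commute ⁅v, a⁆ a) (hx : x * x ∈ centralizer (V : Set G))
    (h1 : ⁅x, a * x * a⁻¹⁆ ∈ centralizer (V : Set G))
    (h2 : ⁅x, a⁻¹ * x * a⁆ ∈ centralizer (V : Set G)) :
    ⁅a, x⁆ ∈ centralizer (V : Set G) := by
  haveI := hV
  rw [← conjEnd_eq_one_iff V] at hx h1 h2 ⊢
  set φ := conjEnd V
  set n := φ a - (1 : AddMonoid.End (Additive V)) with hn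
  have ha : φ a = 1 + n := by rw [hn]; abel
  have hn2 : n * n = 0 := by
    refine AddMonoidHom.ext fun v => ?_
    show φ a (φ a v - v) - (φ a v - v) = 0
    rw [sub_eq_zero]
    refine Additive.toMul.injective (Subtype.ext ?_)
    show a * (a * (v.toMul : G) * a⁻¹ / (v.toMul : G)) * a⁻¹ = a * (v.toMul : G) * a⁻¹ / (v.toMul : G)
    have h := (hq _ v.toMul.2).inv_left
    have e : a * (v.toMul : G) * a⁻¹ / (v.toMul : G) = ⁅(v.toMul : G), a⁆⁻¹ := by
      simp [commutatorElement_def, div_eq_mul_inv, mul_assoc]
    rw [e, ← h.eq, mul_inv_cancel_right]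
  have ha' : φ a⁻¹ = 1 - n := by
    have e : (1 - n) * φ a = 1 := by rw [ha, sub_mul, one_mul, mul_add, mul_one, hn2]; abel
    calc φ a⁻¹ = (1 - n) * φ a * φ a⁻¹ := by rw [e, one_mul]
      _ = 1 - n := by rw [mul_assoc, ← map_mul, mul_inv_cancel, map_one, mul_one]
  have h2' : ∀ y : AddMonoid.End (Additive V), y + y = 0 → y = 0 := by
    intro y hy
    refine AddMonoidHom.ext fun v => ?_
    have h := congrArg (fun f : AddMonoid.End (Additive V) => f v) hy
    obtain ⟨k, hk⟩ := hodd
    have h3 : (Nat.card V) • y v = 0 :=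
      Additive.toMul.injective (show (y v).toMul ^ Nat.card V = 1 from pow_card_eq_one')
    rw [hk, add_smul, one_smul, mul_comm, mul_smul, two_nsmul,
      show y v + y v = 0 from h, nsmul_zero, zero_add] at h3
    exact h3
  have hs : φ x * φ x = 1 := by rw [← map_mul]; exact hx
  have hcomm : ∀ y : G, φ ⁅x, y⁆ = 1 → Commute (φ x) (φ y) := fun y hy => by
    show φ x * φ y = φ y * φ x
    rw [← map_mul, ← map_mul, show x * y = ⁅x, y⁆ * (y * x) by
      simp [commutatorElement_def, mul_assoc], map_mul, hy, one_mul]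
  have c1 := hcomm _ h1
  have c2 := hcomm _ h2
  rw [map_mul, map_mul, ha, ha'] at c1 c2
  have key := commute_of_involution_quadratic h2' hn2 hs c1 c2
  have hax : φ a * φ x = φ x * φ a := by
    rw [ha, add_mul, mul_add, one_mul, mul_one, key.eq]
  rw [commutatorElement_def, map_mul, map_mul, map_mul, hax, mul_assoc (φ x) (φ a), ← map_mul,
    mul_inv_cancel, map_one, mul_one, ← map_mul, mul_inv_cancel, map_one]

/-- An element of a subgroup whose image has order prime to `p` has a preimage in that subgroup of order prime to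
`p`. -/
theorem exists_coprime_lift [Finite G] [Fact p.Prime] {H : Type*} [Group H] (f : G →* H)
    {E : Subgroup G} {e : G} (he : e ∈ E) (hco : (orderOf (f e)).Coprime p) :
    ∃ y ∈ E, (orderOf y).Coprime p ∧ f y = f e := by
  obtain ⟨k, m, hm, hk⟩ := Nat.exists_eq_pow_mul_and_not_dvd (orderOf_pos e).ne' p
    (Fact.out : p.Prime).ne_one
  have hcm : Nat.Coprime (p ^ k) m :=
    Nat.Coprime.pow_left _ ((Fact.out : p.Prime).coprime_iff_not_dvd.mpr hm)
  obtain ⟨j, hj0, hj1⟩ := Nat.chineseRemainder hcm 0 1
  refine ⟨e ^ j, pow_mem he j, ?_, ?_⟩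
  · have hpow : (e ^ j) ^ m = 1 := by
      obtain ⟨c, rfl⟩ := Nat.modEq_zero_iff_dvd.mp hj0
      rw [← pow_mul, show p ^ k * c * m = orderOf e * c by rw [hk]; ring, pow_mul,
        pow_orderOf_eq_one, one_pow]
    exact (not_dvd_iff_coprime.mpr hm).coprime_dvd_left (orderOf_dvd_of_pow_eq_one hpow)
  · have hdvd : orderOf (f e) ∣ m :=
      (hco.pow_right k).dvd_of_dvd_mul_left (hk ▸ orderOf_map_dvd f e)
    rw [map_pow]
    exact (pow_eq_pow_iff_modEq.mpr (hj1.of_dvd hdvd)).trans (pow_one _)

/-- The preimage of `O_p(G/C_G(V))`. -/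
def stableKernel (p : ℕ) (V : Subgroup G) [V.Normal] : Subgroup G :=
  (pCore p (G ⧸ centralizer (V : Set G))).comap (QuotientGroup.mk' (centralizer (V : Set G)))

instance stableKernelNormal (p : ℕ) (V : Subgroup G) [V.Normal] : (stableKernel p V).Normal :=
  Subgroup.Normal.comap inferInstance _

theorem pCore_le_stableKernel (p : ℕ) (V : Subgroup G) [V.Normal] :
    pCore p G ≤ stableKernel p V :=
  map_le_iff_le_comap.mp (map_pCore_le_of_surjective (QuotientGroup.mk'_surjective _))

/-- An element of order prime to `p` in the stable kernel centralizes `V`. -/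
theorem mem_centralizer_of_mem_stableKernel [Finite G] [Fact p.Prime] {V : Subgroup G} [V.Normal]
    {y : G} (hy : y ∈ stableKernel p V) (hco : (orderOf y).Coprime p) :
    y ∈ centralizer (V : Set G) := by
  obtain ⟨k, hk⟩ := IsPGroup.iff_card.mp (isPGroup_pCore p (G ⧸ centralizer (V : Set G)))
  have hy' : QuotientGroup.mk' (centralizer (V : Set G)) y ∈
      pCore p (G ⧸ centralizer (V : Set G)) := hy
  have h1 : orderOf (QuotientGroup.mk' (centralizer (V : Set G)) y) ∣ p ^ k :=
    hk ▸ Subgroup.orderOf_mk _ hy' ▸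
      orderOf_dvd_natCard (⟨_, hy'⟩ : pCore p (G ⧸ centralizer (V : Set G)))
  exact (QuotientGroup.eq_one_iff y).mp (orderOf_eq_one_iff.mp
    (Nat.eq_one_of_dvd_coprimes (hco.pow_right k)
      (orderOf_map_dvd (QuotientGroup.mk' (centralizer (V : Set G))) y) h1))

/-- A normal subgroup whose elements of order prime to `p` centralize `V` lies in the stable kernel. -/
theorem le_stableKernel [Finite G] [Fact p.Prime] {V E : Subgroup G} [V.Normal] [E.Normal]
    (h : ∀ y ∈ E, (orderOf y).Coprime p → y ∈ centralizer (V : Set G)) :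
    E ≤ stableKernel p V := by
  refine map_le_iff_le_comap.mp ?_
  haveI : (E.map (QuotientGroup.mk' (centralizer (V : Set G)))).Normal :=
    (inferInstance : E.Normal).map _ (QuotientGroup.mk'_surjective _)
  refine le_pCore (isPGroup_of_forall_coprime_eq_one fun z hz => ?_)
  obtain ⟨z, e, he, rfl⟩ := z
  replace hz : (orderOf (QuotientGroup.mk' (centralizer (V : Set G)) e)).Coprime p := by
    rwa [← Subgroup.orderOf_coe] at hz
  obtain ⟨y, hy, hyc, hye⟩ := exists_coprime_lift _ he hz
  refine Subtype.ext ?_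
  show QuotientGroup.mk' _ e = 1
  rw [← hye]
  exact (QuotientGroup.eq_one_iff y).mpr (h y hy hyc)

/-- With `K/R` an elementary abelian `2`-group, a quadratic element commutes with `K` modulo the stable kernel. -/
theorem commutator_mem_stableKernel [Finite G] [Fact p.Prime] (hp : p ≠ 2) {K : Subgroup G}
    [K.Normal] (hsq : ∀ x ∈ K, x * x ∈ pCore p G) (hab : ⁅K, K⁆ ≤ pCore p G) {a x : G} (hx : x ∈ K) :
    ∀ (k : ℕ) (V : Subgroup G) [V.Normal], Nat.card V = k → IsPGroup p V →
      (∀ v ∈ V, Commute ⁅v, a⁆ a) → ⁅a, x⁆ ∈ stableKernel p V := by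
  intro k
  induction k using Nat.strong_induction_on with
  | h k ih =>
  intro V _ hk hV hq
  rcases eq_or_ne V ⊥ with rfl | hne
  · have : (⊤ : Subgroup G) ≤ stableKernel p (⊥ : Subgroup G) :=
      le_stableKernel fun y _ _ z hz => by
        rw [SetLike.mem_coe, mem_bot] at hz
        simp [hz]
    exact this (mem_top _)
  set R := pCore p G with hR
  have hVR : V ≤ R := le_pCore hV
  set V' := ⁅V, R⁆ with hV'
  have hV'le : V' ≤ V := commutator_le_left V R
  have hlt : V' < V := by
    refine lt_of_le_not_ge hV'le fun hle => hne ?_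
    haveI : Group.IsNilpotent R := (isPGroup_pCore p G).isNilpotent
    have h1 : V.subgroupOf R = ⊥ := by
      refine eq_bot_of_le_commutator_top fun v hv => ?_
      have hv' : (v : G) ∈ ⁅V.subgroupOf R, (⊤ : Subgroup R)⁆.map R.subtype := by
        rw [map_commutator, subgroupOf_map_subtype, inf_eq_left.mpr hVR,
          ← MonoidHom.range_eq_map, range_subtype]
        exact hle hv
      obtain ⟨w, hw, hwv⟩ := hv'
      rwa [Subtype.ext hwv] at hw
    rwa [subgroupOf_eq_bot, disjoint_iff, inf_eq_left.mpr hVR] at h1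
  have hIH : ⁅a, x⁆ ∈ stableKernel p V' :=
    ih _ (hk ▸ Set.ncard_lt_ncard (SetLike.coe_ssubset_coe.mpr hlt) (Set.toFinite _)) V' rfl
      (hV.to_le hV'le) fun v hv => hq v (hV'le hv)
  set π := QuotientGroup.mk' V' with hπ
  haveI : (V.map π).Normal := (inferInstance : V.Normal).map _ (QuotientGroup.mk'_surjective _)
  have hker : ∀ A B : Subgroup G, ⁅A, B⁆ ≤ V' → A.map π ≤ centralizer (B.map π : Set _) := by
    intro A B h
    rw [← commutator_eq_bot_iff_le_centralizer, ← map_commutator, Subgroup.map_eq_bot_iff, hπ,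
      QuotientGroup.ker_mk']
    exact h
  have hRc : ∀ r ∈ R, π r ∈ centralizer (V.map π : Set _) := fun r hr =>
    hker R V (commutator_comm R V ▸ le_rfl) (mem_map_of_mem π hr)
  have hVc : IsMulCommutative (V.map π) :=
    le_centralizer_iff_isMulCommutative.mp (hker V V (commutator_mono le_rfl hVR))
  have hodd : Odd (Nat.card (V.map π)) := by
    obtain ⟨j, hj⟩ := IsPGroup.iff_card.mp (hV.map π)
    exact hj ▸ ((Fact.out : p.Prime).odd_of_ne_two hp).pow
  have h1 : π ⁅a, x⁆ ∈ centralizer (V.map π : Set _) := by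
    rw [map_commutatorElement]
    refine commutator_mem_centralizer_of_quadratic hVc hodd ?_ ?_ ?_ ?_
    · rintro _ ⟨v, hv, rfl⟩
      rw [← map_commutatorElement]
      exact (hq v hv).map π
    · rw [← map_mul]; exact hRc _ (hsq x hx)
    · rw [← map_inv, ← map_mul, ← map_mul, ← map_commutatorElement]
      exact hRc _ (hab (commutator_mem_commutator hx
        ((inferInstance : K.Normal).conj_mem x hx a)))
    · rw [← map_inv, ← map_mul, ← map_mul, ← map_commutatorElement]
      refine hRc _ (hab (commutator_mem_commutator hx ?_))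
      simpa using (inferInstance : K.Normal).conj_mem x hx a⁻¹
  haveI : (sectionKernel V V').Normal := Subgroup.Normal.comap inferInstance _
  suffices h : sectionKernel V V' ⊓ stableKernel p V' ≤ stableKernel p V from h (mem_inf.mpr ⟨h1, hIH⟩)
  refine le_stableKernel fun y hy hco => ?_
  have hy' := mem_centralizer_of_mem_stableKernel (mem_inf.mp hy).2 hco
  rw [mem_centralizer_iff]
  intro v hv
  have hw : ⁅v, y⁆ ∈ V' := by
    have : π ⁅v, y⁆ = 1 := by
      rw [map_commutatorElement, commutatorElement_eq_one_iff_mul_comm]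
      exact mem_centralizer_iff.mp (mem_inf.mp hy).1 _ (mem_map_of_mem π hv)
    exact (QuotientGroup.eq_one_iff _).mp this
  have hcm : Commute ⁅v, y⁆ y := mem_centralizer_iff.mp hy' _ hw
  have h3 : ⁅v, y⁆ ^ orderOf y = 1 := by
    rw [← commutatorElement_zpow_right_of_comm (fun n => (hcm.zpow_right n).eq),
      pow_orderOf_eq_one, commutatorElement_one_right]
  obtain ⟨j, hj⟩ := IsPGroup.iff_card.mp hV
  have h4 : orderOf ⁅v, y⁆ ∣ p ^ j :=
    hj ▸ Subgroup.orderOf_mk ⁅v, y⁆ (hV'le hw) ▸ orderOf_dvd_natCard (⟨_, hV'le hw⟩ : V)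
  exact commutatorElement_eq_one_iff_mul_comm.mp (orderOf_eq_one_iff.mp
    (Nat.eq_one_of_dvd_coprimes (hco.pow_right j) (orderOf_dvd_of_pow_eq_one h3) h4))

/-- `p`-stability of a `p`-closed-by-elementary-abelian-`2` by `p` group with minimal middle factor. -/
theorem quadraticStable_of_two [Finite G] [Fact p.Prime] (hp : p ≠ 2) (K : Subgroup G) [K.Normal]
    (hsq : ∀ x ∈ K, x * x ∈ pCore p G) (hab : ⁅K, K⁆ ≤ pCore p G) (hRK : pCore p G ≤ K)
    (hmin : ∀ E : Subgroup G, E.Normal → pCore p G ≤ E → E ≤ K → E = pCore p G ∨ E = K)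
    (hq : IsPGroup p (G ⧸ K)) : CfsgLib.OddOrder.ZJ.QuadraticStable p G := by
  intro V hVn hV a ha
  show a ∈ stableKernel p V
  set R := pCore p G with hR
  set D := stableKernel p V with hD
  have hRD : R ≤ D := pCore_le_stableKernel p V
  have haN : a ∈ normalizer (V : Set G) := (normalizer_eq_top V).ge (mem_top a)
  obtain ⟨s, hs, hsq', hsa⟩ := exists_pElement_quadratic hV ((quadratic_iff haN).mpr ha)
  have hCD : centralizer (V : Set G) ≤ D := le_stableKernel fun _ h _ => h
  suffices hsD : s ∈ D by simpa using mul_mem hsD (inv_mem (hCD hsa))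
  rcases hmin (D ⊓ K) inferInstance (le_inf hRD hRK) inf_le_right with hDK | hDK
  · obtain ⟨S, hS⟩ := hs.exists_le_sylow
    haveI : (sectionKernel K R).Normal := by
      haveI : (K.map (QuotientGroup.mk' R)).Normal :=
        (inferInstance : K.Normal).map _ (QuotientGroup.mk'_surjective _)
      exact Subgroup.Normal.comap inferInstance _
    have hmem : ∀ g, g ∈ sectionKernel K R ↔ ∀ k ∈ K, ⁅g, k⁆ ∈ R := by
      intro g
      rw [sectionKernel, mem_comap, mem_centralizer_iff]
      constructor
      · intro h k hk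
        rw [← QuotientGroup.eq_one_iff, ← QuotientGroup.mk'_apply, map_commutatorElement,
          commutatorElement_eq_one_iff_mul_comm]
        exact (h _ (mem_map_of_mem _ hk)).symm
      · rintro h _ ⟨k, hk, rfl⟩
        refine (commutatorElement_eq_one_iff_mul_comm.mp ?_).symm
        rw [← map_commutatorElement]
        exact (QuotientGroup.eq_one_iff _).mpr (h k hk)
    have hsCK : s ∈ sectionKernel K R := (hmem s).mpr fun k hk => hDK.le (mem_inf.mpr
      ⟨commutator_mem_stableKernel hp hsq hab hk _ V rfl hV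
        ((quadratic_iff ((normalizer_eq_top V).ge (mem_top s))).mp hsq'),
       mul_mem ((inferInstance : K.Normal).conj_mem k hk s) (inv_mem hk)⟩)
    set E := sectionKernel K R ⊓ (S : Subgroup G) with hE
    have hRE : R ≤ E := by
      refine le_inf (fun r hr => (hmem r).mpr fun k _ => ?_) (pCore_le_sylow S)
      rw [← commutatorElement_inv]
      exact inv_mem (mul_mem ((inferInstance : R.Normal).conj_mem r hr k) (inv_mem hr))
    have htop : normalizer (E : Set G) = ⊤ := by
      rw [← top_le_iff, ← CfsgLib.Transfer.sylow_sup_pResidual S]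
      refine sup_le ?_ ((CfsgLib.Transfer.pResidual_le_of_isPGroup_quotient K hq).trans ?_)
      · intro g hg
        exact mem_normalizer_iff.mpr fun y => by
          rw [mem_inf, mem_inf, ← mem_normalizer_iff.mp ((normalizer_eq_top _).ge (mem_top g)) y,
            ← mem_normalizer_iff.mp (le_normalizer hg) y]
      · rw [le_normalizer_iff_commutator_le_right, commutator_comm, commutator_le]
        intro e he k hk
        exact hRE ((hmem e).mp (mem_inf.mp he).1 k hk)
    haveI : E.Normal := normalizer_eq_top_iff.mp htop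
    exact hRD (le_pCore (N := E) (S.isPGroup'.to_le inf_le_right)
      (mem_inf.mpr ⟨hsCK, hS (mem_zpowers s)⟩))
  · have hKD : K ≤ D := hDK ▸ inf_le_left
    refine (le_stableKernel (E := (⊤ : Subgroup G)) fun y _ hco => ?_) (mem_top s)
    exact mem_centralizer_of_mem_stableKernel
      (hKD (CfsgLib.Transfer.pResidual_le_of_isPGroup_quotient K hq
        (CfsgLib.Transfer.mem_pResidual_of_coprime hco))) hco

/-- What the argument needs of the functor `W`. -/
structure ComplementFunctor (p : ℕ) (W : ∀ (G : Type u) [Group G], Subgroup G → Subgroup G) :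
    Prop where
  le : ∀ (G : Type u) [Group G] (P : Subgroup G), W G P ≤ P
  normalizer_le : ∀ (G : Type u) [Group G] [Finite G] (P : Subgroup G),
    normalizer (P : Set G) ≤ normalizer (W G P : Set G)
  ne_bot : ∀ (G : Type u) [Group G] [Finite G] (P : Subgroup G), IsPGroup p P → P ≠ ⊥ → W G P ≠ ⊥
  map : ∀ (G H : Type u) [Group G] [Group H] [Finite G] [Finite H] (f : G →* H) (P : Subgroup G),
    Set.InjOn f P → (W G P).map f = W H (P.map f)
  normal : ∀ (G : Type u) [Group G] [Finite G] (S : Sylow p G),
    CfsgLib.OddOrder.ZJ.QuadraticStable p G →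
      centralizer (pCore p G : Set G) ≤ pCore p G → (W G (S : Subgroup G)).Normal

namespace ComplementFunctor

variable {W : ∀ (G : Type u) [Group G], Subgroup G → Subgroup G}

/-- The hypothesis for one Sylow subgroup gives it for every one. -/
theorem hyp_of_one [Finite G] [Fact p.Prime] (hW : ComplementFunctor p W) {P : Sylow p G}
    (h : HasNormalPComplement p ↥(normalizer (W G (P : Subgroup G) : Set G))) (S : Sylow p G) :
    HasNormalPComplement p ↥(normalizer (W G (S : Subgroup G) : Set G)) := by
  obtain ⟨g, hg⟩ := MulAction.exists_smul_eq G P S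
  have hS : (S : Subgroup G) = (P : Subgroup G).map (MulAut.conj g).toMonoidHom := by
    rw [← hg]; rfl
  have hi : Function.Injective (MulAut.conj g).toMonoidHom := (MulAut.conj g).injective
  rw [hS, ← hW.map G G _ _ hi.injOn, ← map_normalizer_eq_of_bijective _ (MulAut.conj g).bijective]
  exact (CfsgLib.Transfer.hasNormalPComplement_congr (equivMapOfInjective _ _ hi)).mp h

/-- The hypothesis descends to subgroups: `N_M(W T)` embeds in `N_G(W T)`. -/
theorem hyp_subgroup [Finite G] [Fact p.Prime] (hW : ComplementFunctor p W) {M T : Subgroup G}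
    (hTM : T ≤ M)
    (h : HasNormalPComplement p ↥(normalizer (W G T : Set G))) :
    HasNormalPComplement p ↥(normalizer (W M (T.subgroupOf M) : Set M)) := by
  have he : (W M (T.subgroupOf M)).map M.subtype = W G T := by
    rw [hW.map M G M.subtype _ M.subtype_injective.injOn, subgroupOf_map_subtype,
      inf_eq_left.mpr hTM]
  refine CfsgLib.Transfer.hasNormalPComplement_of_injective h
    ((M.subtype.comp (normalizer (W M (T.subgroupOf M) : Set M)).subtype).codRestrict _ fun x => ?_) ?_
  · rw [← he]
    exact le_normalizer_map (H := W M (T.subgroupOf M)) M.subtype ⟨x.1, x.2, rfl⟩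
  · intro x y hxy
    exact Subtype.ext (Subtype.ext (congrArg Subtype.val hxy :))

end ComplementFunctor

/-- The normal `p`-complement theorem of Glauberman and Thompson, for the functor `W`. -/
theorem ComplementFunctor.hasNormalPComplement [Fact p.Prime] (hp : p ≠ 2)
    {W : ∀ (G : Type u) [Group G], Subgroup G → Subgroup G} (hW : ComplementFunctor p W) :
    ∀ (k : ℕ) (G : Type u) [Group G] [Finite G], Nat.card G = k → ∀ P : Sylow p G,
      HasNormalPComplement p ↥(normalizer (W G (P : Subgroup G) : Set G)) →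
      HasNormalPComplement p G := by
  intro k
  induction k using Nat.strong_induction_on with
  | h k ih =>
  intro G _ _ hk P hP
  by_contra hno
  -- proper subgroups
  have hcardlt : ∀ M : Subgroup G, M ≠ ⊤ → Nat.card M < k := fun M hM =>
    hk ▸ lt_of_le_of_ne (card_le_card_group M) fun h => hM (card_eq_iff_eq_top M |>.mp h)
  have hsub : ∀ M : Subgroup G, M ≠ ⊤ → ∀ S : Sylow p G, (S : Subgroup G) ≤ M →
      HasNormalPComplement p M := fun M hM S hSM =>
    ih _ (hcardlt M hM) M rfl (S.subtype hSM) (hW.hyp_subgroup hSM (hW.hyp_of_one hP S))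
  -- Step 1: `O_p(G) ≠ 1`
  set R := pCore p G with hR
  have hRne : R ≠ ⊥ := by
    intro hRbot
    obtain ⟨Q, ⟨hQ, hQne, hQno⟩, hmax⟩ := Set.exists_max_image
      {Q : Subgroup G | IsPGroup p Q ∧ Q ≠ ⊥ ∧ ¬ HasNormalPComplement p ↥(normalizer (Q : Set G))}
      (fun Q => Nat.card (default : Sylow p ↥(normalizer (Q : Set G)))) (Set.toFinite _) (by
        by_contra h
        rw [Set.not_nonempty_iff_eq_empty, Set.eq_empty_iff_forall_notMem] at h
        exact hno (CfsgLib.Transfer.hasNormalPComplement_of_normalizers fun Q h1 h2 =>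
          by_contra fun h3 => h Q ⟨h1, h2, h3⟩))
    set M := normalizer (Q : Set G) with hM
    by_cases hMtop : M = ⊤
    · haveI : Q.Normal := normalizer_eq_top_iff.mp hMtop
      exact hQne (le_bot_iff.mp (hRbot ▸ le_pCore hQ))
    set S : Sylow p M := default with hS
    set T := (S : Subgroup M).map M.subtype with hT
    have hTp : IsPGroup p T := S.isPGroup'.map _
    have hTsub : T.subgroupOf M = (S : Subgroup M) :=
      comap_map_eq_self_of_injective M.subtype_injective _
    obtain ⟨P', hP'⟩ := hTp.exists_le_sylow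
    have hTne : T ≠ ⊥ := by
      intro h
      haveI : (Q.subgroupOf M).Normal := normal_in_normalizer
      have : Q ≤ T := fun q hq =>
        ⟨⟨q, le_normalizer hq⟩, ((le_pCore (N := Q.subgroupOf M) hQ.comap_subtype).trans
          (pCore_le_sylow S)) hq, rfl⟩
      exact hQne (le_bot_iff.mp (h ▸ this))
    have hbad : ¬ HasNormalPComplement p ↥(normalizer (W G T : Set G)) := by
      intro h
      have := hW.hyp_subgroup (map_subtype_le _) h
      rw [hTsub] at this
      exact hQno (ih _ (hcardlt M hMtop) M rfl S this)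
    by_cases hTP : T = (P' : Subgroup G)
    · exact hbad (hTP ▸ hW.hyp_of_one hP P')
    · have hmem := hmax (W G T) ⟨hTp.to_le (hW.le G T), hW.ne_bot G T hTp hTne, hbad⟩
      have hlt : T < (P' : Subgroup G) ⊓ normalizer (T : Set G) :=
        CfsgLib.Transfer.lt_inf_normalizer P'.isPGroup' (lt_of_le_of_ne hP' hTP)
      set N := normalizer (W G T : Set G)
      set U := (P' : Subgroup G) ⊓ normalizer (T : Set G)
      have hUN : U ≤ N := inf_le_right.trans (hW.normalizer_le G T)
      obtain ⟨S', hS'⟩ := ((P'.isPGroup'.to_le inf_le_left : IsPGroup p U).comap_subtype (K := N)).exists_le_sylow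
      have e1 : Nat.card T = Nat.card S :=
        (Nat.card_congr (equivMapOfInjective _ _ M.subtype_injective).toEquiv).symm
      have e2 : Nat.card T < Nat.card U :=
        Set.ncard_lt_ncard (SetLike.coe_ssubset_coe.mpr hlt) (Set.toFinite _)
      have e3 : Nat.card U ≤ Nat.card S' :=
        (Nat.card_congr (subgroupOfEquivOfLe hUN).toEquiv).symm.le.trans (Subgroup.card_le_of_le hS')
      have e4 : Nat.card S' = Nat.card (default : Sylow p N) := by
        rw [Sylow.card_eq_multiplicity, Sylow.card_eq_multiplicity]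
      omega
  -- Step 2: `O_{p'}(G) = 1`
  have hO : pPrimeCore p G = ⊥ := by
    by_contra hOne
    set O := pPrimeCore p G
    have hco := coprime_card_pPrimeCore p G
    have hlt : Nat.card (G ⧸ O) < k := by
      rw [← hk, card_eq_card_quotient_mul_card_subgroup O]
      exact lt_mul_of_one_lt_right Nat.card_pos (O.one_lt_card_iff_ne_bot.mpr hOne)
    refine hno (CfsgLib.Transfer.hasNormalPComplement_of_quotient O (not_dvd_iff_coprime.mp hco)
      (ih _ hlt (G ⧸ O) rfl (P.mapSurjective (QuotientGroup.mk'_surjective O)) ?_))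
    have hinj : Set.InjOn (QuotientGroup.mk' O) (P : Subgroup G) := fun x hx y hy hxy =>
      congrArg Subtype.val (@injective_comp_subtype_of_coprime G _ p _ _ (QuotientGroup.mk' O) _
        P.isPGroup' (by rw [QuotientGroup.ker_mk']; exact hco) ⟨x, hx⟩ ⟨y, hy⟩ hxy)
    rw [show ((P.mapSurjective (QuotientGroup.mk'_surjective O) : Sylow p (G ⧸ O)) : Subgroup (G ⧸ O))
        = (P : Subgroup G).map (QuotientGroup.mk' O) from rfl,
      ← hW.map G (G ⧸ O) _ _ hinj,
      normalizer_map_mk'_eq O hco (P.isPGroup'.to_le (hW.le G _))]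
    exact CfsgLib.Transfer.hasNormalPComplement_of_surjective hP _
      (MonoidHom.subgroupMap_surjective _ _)
  -- Step 3: `G/R` has a normal `p`-complement
  have hRp : IsPGroup p R := isPGroup_pCore p G
  set π := QuotientGroup.mk' R with hπ
  have hQbar : HasNormalPComplement p (G ⧸ R) := by
    have hlt : Nat.card (G ⧸ R) < k := by
      rw [← hk, card_eq_card_quotient_mul_card_subgroup R]
      exact lt_mul_of_one_lt_right Nat.card_pos (R.one_lt_card_iff_ne_bot.mpr hRne)
    refine ih _ hlt (G ⧸ R) rfl (P.mapSurjective (QuotientGroup.mk'_surjective R)) ?_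
    rw [show ((P.mapSurjective (QuotientGroup.mk'_surjective R) : Sylow p (G ⧸ R)) : Subgroup (G ⧸ R))
        = (P : Subgroup G).map π from rfl]
    set Pb := (P : Subgroup G).map π with hPb
    set Nb := normalizer (W (G ⧸ R) Pb : Set (G ⧸ R)) with hNb
    have hPM : (P : Subgroup G) ≤ Nb.comap π :=
      map_le_iff_le_comap.mp (le_normalizer.trans (hW.normalizer_le _ Pb))
    by_cases hM : Nb.comap π = ⊤
    · exfalso
      apply hno
      have hNtop : Nb = ⊤ := by
        rw [← map_comap_eq_self_of_surjective (QuotientGroup.mk'_surjective R) Nb, ← hπ, hM,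
          map_top_of_surjective _ (QuotientGroup.mk'_surjective R)]
      haveI : (W (G ⧸ R) Pb).Normal := normalizer_eq_top_iff.mp hNtop
      have hbot : Pb = ⊥ := by
        by_contra h
        exact hW.ne_bot _ Pb (P.isPGroup'.map π) h (le_bot_iff.mp
          (pCore_quotient_pCore_eq_bot p G ▸ le_pCore ((P.isPGroup'.map π).to_le (hW.le _ _))))
      have hPR : (P : Subgroup G) = R := by
        refine le_antisymm ?_ (pCore_le_sylow P)
        rw [← QuotientGroup.ker_mk' R, ← Subgroup.map_eq_bot_iff]; exact hbot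
      have hn : normalizer (W G (P : Subgroup G) : Set G) = ⊤ := by
        refine top_le_iff.mp (le_trans ?_ (hW.normalizer_le G _))
        rw [hPR, normalizer_eq_top]
      rw [hn] at hP
      exact (CfsgLib.Transfer.hasNormalPComplement_congr topEquiv).mp hP
    · have h := hsub _ hM P hPM
      have h' := CfsgLib.Transfer.hasNormalPComplement_of_surjective h _
        (MonoidHom.subgroupMap_surjective π (Nb.comap π))
      rwa [map_comap_eq_self_of_surjective (QuotientGroup.mk'_surjective R)] at h'
  -- `P` is a maximal subgroup in the sense used below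
  set Kb := pResidual p (G ⧸ R) with hKb
  have hKbc : (Nat.card Kb).Coprime p :=
    not_dvd_iff_coprime.mpr (CfsgLib.Transfer.hasNormalPComplement_iff.mp hQbar)
  set K := Kb.comap π with hK
  have hRK : R ≤ K := by
    intro r hr
    rw [hK, mem_comap, hπ, QuotientGroup.mk'_apply, (QuotientGroup.eq_one_iff r).mpr hr]
    exact one_mem _
  have hGK : IsPGroup p (G ⧸ K) :=
    (CfsgLib.Transfer.isPGroup_quotient_pResidual (p := p) (G := G ⧸ R)).of_injective
      (QuotientGroup.map K Kb π le_rfl) (by
        rw [← MonoidHom.ker_eq_bot_iff, eq_bot_iff]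
        intro q hq
        obtain ⟨g, rfl⟩ := QuotientGroup.mk'_surjective K q
        rw [MonoidHom.mem_ker, QuotientGroup.mk'_apply, QuotientGroup.map_mk,
          QuotientGroup.eq_one_iff] at hq
        exact mem_bot.mpr ((QuotientGroup.eq_one_iff g).mpr hq))
  have hc : centralizer (R : Set G) ≤ R := by
    refine centralizer_pCore_le (isPSolvable_of_extension R (isPSolvable_of_isPGroup hRp) ?_) hO
    exact isPSolvable_of_extension Kb (isPSolvable_of_coprime hKbc)
      (isPSolvable_of_isPGroup CfsgLib.Transfer.isPGroup_quotient_pResidual)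
  have hmax : ∀ M : Subgroup G, R ≤ M → ∀ S : Sylow p G, (S : Subgroup G) ≤ M → M ≠ ⊤ →
      IsPGroup p M := by
    intro M hRM S hSM hM
    have h := hsub M hM S hSM
    refine isPGroup_of_forall_coprime_eq_one fun y hy => ?_
    have hy' : y ∈ pResidual p M := CfsgLib.Transfer.mem_pResidual_of_coprime hy
    have hdis : R.subgroupOf M ⊓ pResidual p M = ⊥ :=
      disjoint_of_isPGroup_of_coprime hRp.comap_subtype
        (not_dvd_iff_coprime.mpr (CfsgLib.Transfer.hasNormalPComplement_iff.mp h))
    have hyR : (y : G) ∈ R := by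
      refine hc fun r hr => ?_
      have : (⟨r, hRM hr⟩ : M) * y = y * ⟨r, hRM hr⟩ :=
        commutatorElement_eq_one_iff_mul_comm.mp (mem_bot.mp (hdis ▸
          (commutator_le_inf (R.subgroupOf M) (pResidual p M))
            (commutator_mem_commutator (show (⟨r, hRM hr⟩ : M) ∈ R.subgroupOf M from hr) hy')))
      exact congrArg Subtype.val this
    exact mem_bot.mp (hdis ▸ mem_inf.mpr ⟨hyR, hy'⟩)
  -- a Sylow subgroup of `G/R` and a non-trivial `p'`-subgroup it normalizes generate
  have hgen : ∀ (U : Sylow p (G ⧸ R)) (E : Subgroup (G ⧸ R)), E ≤ Kb →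
      (U : Subgroup (G ⧸ R)) ≤ normalizer (E : Set (G ⧸ R)) → E ≠ ⊥ → E = Kb := by
    intro U E hE hUE hEne
    have htop : (U : Subgroup (G ⧸ R)) ⊔ E = ⊤ := by
      by_contra h
      set M := ((U : Subgroup (G ⧸ R)) ⊔ E).comap π
      have hRM : R ≤ M := by
        intro r hr
        rw [mem_comap, hπ, QuotientGroup.mk'_apply, (QuotientGroup.eq_one_iff r).mpr hr]
        exact one_mem _
      obtain ⟨S, hS⟩ := ((U.isPGroup').comap_of_ker_isPGroup π
        (by rw [hπ, QuotientGroup.ker_mk']; exact hRp)).exists_le_sylow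
      have hSM : (S : Subgroup G) ≤ M := by
        refine map_le_iff_le_comap.mp ?_
        have : (S : Subgroup G).map π = (U : Subgroup (G ⧸ R)) := by
          refine U.is_maximal' (S.isPGroup'.map π) ?_
          rw [← map_comap_eq_self_of_surjective (QuotientGroup.mk'_surjective R)
            (U : Subgroup (G ⧸ R))]
          exact map_mono hS
        rw [this]; exact le_sup_left
      have hMne : M ≠ ⊤ := fun hM' => h (by
        have := congrArg (Subgroup.map π) hM'
        rwa [map_comap_eq_self_of_surjective (QuotientGroup.mk'_surjective R),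
          map_top_of_surjective _ (QuotientGroup.mk'_surjective R)] at this)
      have hp' := (hmax M hRM S hSM hMne).map π
      rw [map_comap_eq_self_of_surjective (QuotientGroup.mk'_surjective R)] at hp'
      exact hEne (eq_bot_of_isPGroup_of_coprime (hp'.to_le le_sup_right)
        (coprime_card_of_le hE hKbc))
    refine le_antisymm hE fun x hx => ?_
    have hx' : x ∈ E ⊔ (U : Subgroup (G ⧸ R)) := sup_comm (U : Subgroup (G ⧸ R)) E ▸ htop.ge (mem_top x)
    rw [← SetLike.mem_coe, coe_mul_of_right_le_normalizer_left E _ hUE] at hx'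
    obtain ⟨e, he, u, hu, rfl⟩ := hx'
    have hu' : u ∈ (U : Subgroup (G ⧸ R)) ⊓ Kb := by
      refine ⟨hu, ?_⟩
      have := mul_mem (inv_mem (hE he)) hx
      rwa [inv_mul_cancel_left] at this
    rw [disjoint_of_isPGroup_of_coprime U.isPGroup' hKbc, mem_bot] at hu'
    show e * u ∈ E
    rw [hu', mul_one]; exact he
  -- `Kb` is a `q`-group
  have hKne : Kb ≠ ⊥ := by
    intro h
    apply hno
    have : IsPGroup p (G ⧸ R) := (CfsgLib.Transfer.isPGroup_quotient_pResidual).of_injective
      (QuotientGroup.mk' Kb) (by rw [← MonoidHom.ker_eq_bot_iff, QuotientGroup.ker_mk', h])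
    refine CfsgLib.Transfer.hasNormalPComplement_of_isPGroup ?_
    intro g
    obtain ⟨i, hi⟩ := this (QuotientGroup.mk g)
    obtain ⟨j, hj⟩ := hRp ⟨g ^ p ^ i, (QuotientGroup.eq_one_iff _).mp (by rw [← hi]; rfl)⟩
    refine ⟨i + j, ?_⟩
    have := congrArg Subtype.val hj
    rwa [Subgroup.coe_pow, ← pow_mul, ← pow_add] at this
  obtain ⟨q, hq, hqdvd⟩ := Nat.exists_prime_and_dvd fun h1 => hKne (card_eq_one.mp h1)
  haveI : Fact q.Prime := ⟨hq⟩
  set Q : Sylow q Kb := default
  set Q' := (Q : Subgroup Kb).map Kb.subtype with hQ'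
  have hQne : Q' ≠ ⊥ := by
    rw [hQ', Ne, Subgroup.map_eq_bot_iff_of_injective _ Kb.subtype_injective]
    exact Q.ne_bot_of_dvd_card hqdvd
  obtain ⟨U, hU⟩ : ∃ U : Sylow p (G ⧸ R),
      (U : Subgroup (G ⧸ R)) ≤ normalizer (Q' : Set (G ⧸ R)) := by
    have hsup : normalizer (Q' : Set (G ⧸ R)) ⊔ Kb = ⊤ := Sylow.normalizer_sup_eq_top Q
    have hidx : ¬ p ∣ (normalizer (Q' : Set (G ⧸ R))).index := by
      rw [← not_dvd_iff_coprime]
      refine hKbc.coprime_dvd_left ?_
      rw [← relIndex_top_right, ← hsup]
      have h2 := card_sup_dvd_mul (normalizer (Q' : Set (G ⧸ R))) Kb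
      rw [← card_mul_relIndex (le_sup_left : normalizer (Q' : Set (G ⧸ R)) ≤ _ ⊔ Kb)] at h2
      exact Nat.dvd_of_mul_dvd_mul_left Nat.card_pos h2
    set N := normalizer (Q' : Set (G ⧸ R))
    let V : Sylow p N := default
    refine ⟨(V.isPGroup'.map N.subtype).toSylow ?_, map_subtype_le _⟩
    rw [index_map_subtype]
    exact fun h => ((Fact.out : p.Prime).dvd_mul.mp h).elim V.not_dvd_index hidx
  have hKQ : Q' = Kb := hgen U Q' (map_subtype_le _) hU hQne
  have hKq : IsPGroup q Kb := hKQ ▸ Q.isPGroup'.map _
  have hminb : ∀ E : Subgroup (G ⧸ R), E.Normal → E ≤ Kb → E = ⊥ ∨ E = Kb := fun E hE hEK => by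
    rcases eq_or_ne E ⊥ with h | h
    · exact Or.inl h
    · exact Or.inr (hgen default E hEK ((le_top).trans (@normalizer_eq_top _ _ E hE).ge) h)
  have hKab : ⁅Kb, Kb⁆ = ⊥ := by
    refine (hminb _ inferInstance Kb.commutator_le_self).resolve_right fun h => hKne ?_
    haveI : Group.IsNilpotent Kb := hKq.isNilpotent
    have h1 : (⊤ : Subgroup Kb) ≤ ⁅(⊤ : Subgroup Kb), (⊤ : Subgroup Kb)⁆ := by
      intro x _
      have : (x : G ⧸ R) ∈ ⁅(⊤ : Subgroup Kb), (⊤ : Subgroup Kb)⁆.map Kb.subtype := by
        rw [map_commutator, ← MonoidHom.range_eq_map, range_subtype]; exact h.ge x.2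
      obtain ⟨y, hy, hyx⟩ := this
      rwa [Subtype.ext hyx] at hy
    rw [eq_bot_iff]
    intro x hx
    exact mem_bot.mpr (congrArg Subtype.val
      (mem_bot.mp ((eq_bot_of_le_commutator_top h1).le (mem_top (⟨x, hx⟩ : Kb)))))
  have hstable : CfsgLib.OddOrder.ZJ.QuadraticStable p G := by
    rcases eq_or_ne q 2 with rfl | hq2
    · have hab : ⁅K, K⁆ ≤ R := by
        rw [← QuotientGroup.ker_mk' R, ← hπ, ← Subgroup.map_eq_bot_iff, map_commutator, hK,
          map_comap_eq_self_of_surjective (QuotientGroup.mk'_surjective R), hKab]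
      have hmin : ∀ E : Subgroup G, E.Normal → R ≤ E → E ≤ K → E = R ∨ E = K := by
        intro E hE hRE hEK
        have e : (E.map π).comap π = E := by
          rw [comap_map_eq, hπ, QuotientGroup.ker_mk', sup_eq_left.mpr hRE]
        rcases hminb (E.map π) (hE.map π (QuotientGroup.mk'_surjective R))
          (map_le_iff_le_comap.mpr hEK) with h | h
        · left
          rw [← e, h, MonoidHom.comap_bot, hπ, QuotientGroup.ker_mk']
        · right
          rw [← e, h]
      -- the squares form a proper normal subgroup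
      have hsqb : ∀ y ∈ Kb, y * y = 1 := by
        let S := Subgroup.closure ((fun y => y * y) '' (Kb : Set (G ⧸ R)))
        have hSn : S.Normal := by
          refine ⟨fun x hx g => ?_⟩
          have : S.map (MulAut.conj g).toMonoidHom ≤ S := by
            rw [MonoidHom.map_closure]
            refine closure_mono ?_
            rintro _ ⟨_, ⟨y, hy, rfl⟩, rfl⟩
            exact ⟨g * y * g⁻¹, (inferInstance : Kb.Normal).conj_mem y hy g, by simp [mul_assoc]⟩
          exact this ⟨x, hx, rfl⟩
        have hSK : S ≤ Kb := (closure_le _).mpr (by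
          rintro _ ⟨y, hy, rfl⟩; exact mul_mem hy hy)
        rcases hminb S hSn hSK with h | h
        · intro y hy
          exact mem_bot.mp (h ▸ subset_closure ⟨y, hy, rfl⟩)
        · exfalso
          haveI : IsMulCommutative Kb := le_centralizer_iff_isMulCommutative.mp
            (commutator_eq_bot_iff_le_centralizer.mp hKab)
          obtain ⟨z, hz⟩ := exists_prime_orderOf_dvd_card' 2 hqdvd
          let sq : Kb →* Kb := MonoidHom.mk' (fun y => y * y) fun a b => by
            simp only [mul_assoc]; rw [← mul_assoc b a, mul_comm' b a, mul_assoc]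
          have hsurj : Function.Surjective sq := by
            rw [← MonoidHom.range_eq_top]
            refine top_le_iff.mp fun x _ => ?_
            have hx : (x : G ⧸ R) ∈ sq.range.map Kb.subtype := by
              refine (?_ : S ≤ _) (h.ge x.2)
              refine (closure_le _).mpr ?_
              rintro _ ⟨y, hy, rfl⟩
              exact ⟨sq ⟨y, hy⟩, ⟨_, rfl⟩, rfl⟩
            obtain ⟨w, hw, hwx⟩ := hx
            rwa [Subtype.ext hwx] at hw
          have hinj := (Finite.injective_iff_surjective.mpr hsurj)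
          have hz2 : sq z = sq 1 := by
            show z * z = 1 * 1
            rw [← pow_two, ← hz, pow_orderOf_eq_one, one_mul]
          rw [hinj hz2, orderOf_one] at hz
          omega
      refine quadraticStable_of_two hp K (fun x hx => ?_) hab hRK hmin hGK
      exact (QuotientGroup.eq_one_iff _).mp (hsqb (π x) hx)
    · refine CfsgLib.OddOrder.ZJ.quadraticStable_of_odd hp ?_
      obtain ⟨a, ha⟩ := IsPGroup.iff_card.mp hRp
      obtain ⟨b, hb⟩ := IsPGroup.iff_card.mp hKq
      obtain ⟨c, hc'⟩ := IsPGroup.iff_card.mp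
        (CfsgLib.Transfer.isPGroup_quotient_pResidual (p := p) (G := G ⧸ R))
      rw [card_eq_card_quotient_mul_card_subgroup R, card_eq_card_quotient_mul_card_subgroup Kb,
        ← hKb] at *
      rw [ha, hb, hc']
      exact ((((Fact.out : p.Prime).odd_of_ne_two hp).pow).mul (hq.odd_of_ne_two hq2).pow).mul
        ((Fact.out : p.Prime).odd_of_ne_two hp).pow
  -- conclusion
  haveI := hW.normal G P hstable hc
  rw [normalizer_eq_top] at hP
  exact hno ((CfsgLib.Transfer.hasNormalPComplement_congr topEquiv).mp hP)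

end CfsgLib.PLocal
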