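/-
Glauberman–Thompson: `G` has a normal `p`-complement iff `N_G(Z(J(P)))` has one, for both versions of `J`.
-/
import Cfsg.Agent.PLocal.GlaubermanComplement
import Cfsg.Agent.SolvCrit.ZJBasic
set_option autoImplicit false

namespace CfsgLib.PLocal

open Cfsg Subgroup

universe u

theorem complementFunctor_centerThompsonAOf {p : ℕ} [Fact p.Prime] (hp : p ≠ 2) :
    ComplementFunctor.{u} p fun G _ P => centerThompsonAOf P where
  le G _ P := centerThompsonAOf_le P
  normalizer_le G _ _ P := normalizer_le_normalizer_centerThompsonAOf P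
  ne_bot G _ _ P hP h := centerThompsonAOf_ne_bot hP h
  map G H _ _ _ _ f P hf := by
    have hinj : Function.Injective (f.comp P.subtype) := fun a b h => Subtype.ext (hf a.2 b.2 h)
    show (thompsonSubgroupAOf P ⊓ centralizer (thompsonSubgroupAOf P : Set G)).map f = _
    rw [map_inf_centralizer_self_of_injOn (thompsonSubgroupAOf_le P) hinj,
      map_thompsonSubgroupAOf_of_injOn hinj]
    rfl
  normal G _ _ S hst hc := CfsgLib.OddOrder.ZJ.centerThompsonAOf_normal hp hst hc S

theorem complementFunctor_centerThompsonOf {p : ℕ} [Fact p.Prime] (hp : p ≠ 2) :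
    ComplementFunctor.{u} p fun G _ P => centerThompsonOf p P where
  le G _ P := inf_le_left.trans (thompsonSubgroupOf_le p P)
  normalizer_le G _ _ P := CfsgLib.SolvCrit.normalizer_le_normalizer_centerThompson p P
  ne_bot G _ _ P hP h := CfsgLib.SolvCrit.centerThompson_ne_bot hP h
  map G H _ _ _ _ f P hf := CfsgLib.OddOrder.ZJ.map_centerThompsonOf hf
  normal G _ _ S hst hc := CfsgLib.OddOrder.ZJ.centerThompsonOf_normal hp hst hc S

/-- Glauberman's normal `p`-complement theorem for `Z(J(P))`, abelian version. -/
theorem hasNormalPComplement_of_normalizer_centerThompsonAOf {G : Type u} [Group G] [Finite G]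
    {p : ℕ} [Fact p.Prime] (hp : p ≠ 2) (P : Sylow p G)
    (hN : HasNormalPComplement p ↥(normalizer (centerThompsonAOf (P : Subgroup G) : Set G))) :
    HasNormalPComplement p G :=
  (complementFunctor_centerThompsonAOf hp).hasNormalPComplement hp _ G rfl P hN

/-- The Glauberman–Thompson normal `p`-complement theorem. -/
theorem hasNormalPComplement_iff_normalizer_centerThompsonOf {G : Type u} [Group G] [Finite G]
    {p : ℕ} [Fact p.Prime] (hp : p ≠ 2) (P : Sylow p G) :
    HasNormalPComplement p G ↔
      HasNormalPComplement p ↥(normalizer (centerThompsonOf p (P : Subgroup G) : Set G)) :=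
  ⟨fun h => CfsgLib.Transfer.hasNormalPComplement_subgroup h _,
    fun hN => (complementFunctor_centerThompsonOf hp).hasNormalPComplement hp _ G rfl P hN⟩

end CfsgLib.PLocal
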