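/-
Consequences: faithful quadratic pairs, groups with abelian Sylow `2`-subgroups, `p`-stable groups, and the linear
form over a finite field.
-/
import Cfsg.Agent.PLocal.PStability
import Cfsg.Agent.PLocal.Constraint
import Cfsg.Prelude.Def_Local
import Mathlib.FieldTheory.Finite.Basic
set_option autoImplicit false

namespace CfsgLib.PLocal

open Cfsg Subgroup
open scoped commutatorElement MatrixGroups

variable {G : Type*} [Group G] {p : ℕ}

theorem isMulCommutative_sylow_of_one [Finite G] {q : ℕ} [Fact q.Prime] {T : Sylow q G}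
    (hT : IsMulCommutative T) (T' : Sylow q G) : IsMulCommutative T' := by
  obtain ⟨g, rfl⟩ := MulAction.exists_smul_eq G T T'
  exact isMulCommutative_map hT (MulAut.conj g).toMonoidHom

theorem isMulCommutative_sylow_top [Finite G] {q : ℕ} [Fact q.Prime]
    (hab : ∀ T : Sylow q G, IsMulCommutative T) (T : Sylow q (⊤ : Subgroup G)) :
    IsMulCommutative T := by
  obtain ⟨S, hS⟩ := (T.isPGroup'.map (⊤ : Subgroup G).subtype).exists_le_sylow
  exact isMulCommutative_of_map (⊤ : Subgroup G).subtype_injective (isMulCommutative_of_le (hab S) hS)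

/-- A faithful non-`p`-group generated by two quadratic elements has a section `SL(2, p)`. -/
theorem hasSL2Section_of_faithful_pair [Finite G] [Fact p.Prime] (hp : p ≠ 2) {V H : Subgroup G}
    (hV : IsElementaryAbelian p V) (hHV : H ≤ normalizer (V : Set G))
    (hf : H ⊓ centralizer (V : Set G) = ⊥) {a b : G} (hab : H = Subgroup.closure {a, b})
    (ha : ⁅⁅V, Subgroup.zpowers a⁆, Subgroup.zpowers a⁆ = ⊥)
    (hb : ⁅⁅V, Subgroup.zpowers b⁆, Subgroup.zpowers b⁆ = ⊥) (hnp : ¬ IsPGroup p H) :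
    HasSL2Section p H := by
  subst hab
  refine hasSL2Section_of_quadratic_pair hp hV (hHV (subset_closure (Or.inl rfl)))
    (hHV (subset_closure (Or.inr rfl))) ha hb ?_
  by_contra h
  push Not at h
  refine hnp fun g => ?_
  obtain ⟨k, hk⟩ := h g g.2
  exact ⟨k, Subtype.ext (mem_bot.mp (hf ▸ mem_inf.mpr ⟨(g ^ p ^ k).2, by simpa using hk⟩))⟩

/-- Two noncommuting elements of trace `2` have a product of trace other than `2`. -/
theorem tr_mul_ne_two {K : Type*} [Field K] [CharP K p] [Fact p.Prime] {u v : SL(2, K)}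
    (hu : SL2.tr u = 2) (hv : SL2.tr v = 2) (huv : ¬ Commute u v) : SL2.tr (u * v) ≠ 2 := by
  intro h
  obtain ⟨P, x, hx, hP⟩ := SL2.exists_conj_eq_up hu (fun h1 => huv (h1 ▸ Commute.one_left v))
  set w := P * v * P⁻¹ with hw
  have hwt : SL2.tr w = 2 := (SL2.tr_conj P v).trans hv
  have h1 : SL2.tr (w * SL2.up x) = 2 := by
    have e : w * SL2.up x = (P * v) * (u * v) * (P * v)⁻¹ := by rw [hw, ← hP]; group
    rw [e, SL2.tr_conj, h]
  rw [SL2.tr_mul_up, hwt, add_eq_left, mul_eq_zero] at h1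
  have hw' := SL2.eq_up_of_lower_zero hwt (h1.resolve_right hx)
  apply huv
  have hc : Commute (SL2.up x) w := by
    rw [hw', Commute, SemiconjBy, SL2.up_mul, SL2.up_mul, add_comm]
  rw [← hP, hw] at hc
  have := hc.map (MulAut.conj P⁻¹).toMonoidHom
  simpa [mul_assoc] using this

/-- The linear form over a finite field: the eigenvalues of `ab` lie in `K`. -/
theorem exists_hom_not_pGroup {K : Type*} [Field K] [Fintype K] [Fact p.Prime] [CharP K p]
    {W : Type*} [AddCommGroup W] [Module K W] [Finite W]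
    (H : Subgroup (W ≃ₗ[K] W)) (a b : W ≃ₗ[K] W) (hH : H = Subgroup.closure {a, b})
    (ha : ∀ w : W, a (a w - w) = a w - w) (hb : ∀ w : W, b (b w - w) = b w - w)
    (hnp : ¬ IsPGroup p H) (hk : ∃ e k : ℕ, orderOf (a * b) = p ^ e * k ∧ k ∣ Fintype.card K - 1) :
    ∃ φ : H →* SL(2, K), ¬ IsPGroup p φ.range := by
  subst hH
  haveI : Finite (W ≃ₗ[K] W) := Finite.of_injective (fun e : W ≃ₗ[K] W => (e : W → W))
    fun e f h => LinearEquiv.ext (congrFun h)
  let a' : Subgroup.closure ({a, b} : Set (W ≃ₗ[K] W)) := ⟨a, subset_closure (Or.inl rfl)⟩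
  let b' : Subgroup.closure ({a, b} : Set (W ≃ₗ[K] W)) := ⟨b, subset_closure (Or.inr rfl)⟩
  have hgen : Subgroup.closure ({a', b'} : Set _) = ⊤ := by
    apply map_injective (Subgroup.closure ({a, b} : Set (W ≃ₗ[K] W))).subtype_injective
    rw [MonoidHom.map_closure, ← MonoidHom.range_eq_map, range_subtype]
    simp [a', b', Set.image_insert_eq, Set.image_singleton]
  let ρ : Subgroup.closure ({a, b} : Set (W ≃ₗ[K] W)) →* Module.End K W :=
    { toFun := fun g => (g : W ≃ₗ[K] W).toLinearMap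
      map_one' := rfl
      map_mul' := fun _ _ => rfl }
  have hρ : Function.Injective ρ := fun g h hgh =>
    Subtype.ext (LinearEquiv.toLinearMap_injective hgh)
  have hqa : (ρ a' - 1) * (ρ a' - 1) = 0 := LinearMap.ext fun w => by
    show a (a w - w) - (a w - w) = 0
    rw [ha, sub_self]
  have hqb : (ρ b' - 1) * (ρ b' - 1) = 0 := LinearMap.ext fun w => by
    show b (b w - w) - (b w - w) = 0
    rw [hb, sub_self]
  classical
  set q := Fintype.card K with hqd
  have hq1 : 1 < q := Fintype.one_lt_card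
  set f : Polynomial K := Polynomial.X ^ q - Polynomial.X with hfd
  have hdeg : f.natDegree = q := FiniteField.X_pow_card_sub_X_natDegree_eq K hq1
  have hsplit : f.Splits := by
    rw [Polynomial.splits_iff_card_roots, hdeg, hfd, FiniteField.roots_X_pow_card_sub_X]
    exact Finset.card_univ
  have hmonic : f.Monic :=
    (Polynomial.monic_X_pow q).sub_of_left (by
      rw [Polynomial.degree_X, Polynomial.degree_X_pow]; exact_mod_cast hq1)
  obtain ⟨e, k, hord, c, hc⟩ := hk
  have hcN : (a' * b') ^ (p ^ e * k) = 1 :=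
    Subtype.ext (show (a * b) ^ (p ^ e * k) = 1 from hord ▸ pow_orderOf_eq_one _)
  have hnil : IsNilpotent (Polynomial.aeval (ρ (a' * b')) f) := by
    rw [map_sub, map_pow, Polynomial.aeval_X,
      show q = k * c + 1 by omega, pow_succ, pow_mul]
    have h1 : IsNilpotent (ρ (a' * b') ^ k - 1) := by
      refine ⟨p ^ e, ?_⟩
      have hch : ((p : ℕ) : Module.End K W) = 0 := by
        rw [← map_natCast (algebraMap K (Module.End K W)), CharP.cast_eq_zero, map_zero]
      have frob : ∀ i : ℕ, ∀ t : Module.End K W, (t + 1) ^ p ^ i = t ^ p ^ i + 1 := by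
        intro i
        induction i with
        | zero => intro t; simp
        | succ i ih =>
          intro t
          obtain ⟨r, hr⟩ := Commute.exists_add_pow_prime_eq (Fact.out : p.Prime)
            (Commute.one_right (t ^ p ^ i))
          rw [pow_succ, pow_mul, ih, hr, hch, zero_mul, zero_mul, zero_mul, add_zero, one_pow,
            ← pow_mul]
      have := frob e (ρ (a' * b') ^ k - 1)
      rw [sub_add_cancel, ← pow_mul, mul_comm k, ← map_pow, hcN, map_one] at this
      exact add_eq_right.mp this.symm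
    obtain ⟨s, hs⟩ : ∃ s, Commute (ρ (a' * b') ^ k - 1) s ∧
        (ρ (a' * b') ^ k) ^ c - 1 = (ρ (a' * b') ^ k - 1) * s :=
      ⟨∑ i ∈ Finset.range c, (ρ (a' * b') ^ k) ^ i,
        Commute.sum_right _ _ _ fun i _ =>
          ((Commute.refl _).sub_left (Commute.one_left _)).pow_right i,
        (mul_geom_sum _ c).symm⟩
    have h2 : IsNilpotent ((ρ (a' * b') ^ k) ^ c - 1) := hs.2 ▸ hs.1.isNilpotent_mul_right h1
    have e2 : (ρ (a' * b') ^ k) ^ c * ρ (a' * b') - ρ (a' * b') =
        ((ρ (a' * b') ^ k) ^ c - 1) * ρ (a' * b') := by rw [sub_mul, one_mul]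
    rw [e2]
    exact Commute.isNilpotent_mul_right (((Commute.refl _).pow_left k).pow_left c |>.sub_left
      (Commute.one_left _)) h2
  obtain ⟨φ, -, hta, htb, hnc⟩ := QuadraticPair.exists_plane_hom (p := p) ρ hgen hqa hqb hmonic
    hsplit hnil (by
      by_contra h
      push Not at h
      refine hnp fun g => ?_
      obtain ⟨i, hi⟩ := h g
      exact ⟨i, hρ (hi.trans (map_one ρ).symm)⟩)
  refine ⟨φ, fun hpg => tr_mul_ne_two (p := p) hta htb hnc ?_⟩
  obtain ⟨i, hi⟩ := hpg ⟨φ a' * φ b', ⟨a' * b', map_mul φ a' b'⟩⟩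
  exact SL2.tr_eq_two_of_pow (k := i) (by simpa using congrArg Subtype.val hi)

/-- With no section `SL(2, p)`, a group with `O_{p'} = 1` and `O_p ≠ 1` is `p`-stable. -/
theorem isPStable_of_no_section [Finite G] [Fact p.Prime] (hp : p ≠ 2) (hO : pPrimeCore p G = ⊥)
    (hne : pCore p G ≠ ⊥) (hns : ¬ HasSL2Section p (⊤ : Subgroup G)) : IsPStable p G := by
  refine ⟨(Fact.out : p.Prime).odd_of_ne_two hp, hne, fun A P _ hP _ _ hn hq => ?_⟩
  rw [hO, bot_sup_eq] at hn
  haveI := hn
  have hst := isPStableOn_of_no_section hp hns P hP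
  set N := normalizer (P : Set G)
  have htop : ∀ g : G, g ∈ N := fun g => (normalizer_eq_top P).ge (mem_top g)
  let ψ : G →* N := (MonoidHom.id G).codRestrict N htop
  let f : G →* N ⧸ (centralizer (P : Set G)).subgroupOf N := (QuotientGroup.mk' _).comp ψ
  have hker : centralizer (P : Set G) ≤ f.ker := fun c hc =>
    (QuotientGroup.eq_one_iff _).mpr (mem_subgroupOf.mpr hc)
  have hls : Function.Surjective (QuotientGroup.lift _ f hker) := fun y => by
    obtain ⟨⟨g, hg⟩, rfl⟩ := QuotientGroup.mk'_surjective _ y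
    exact ⟨QuotientGroup.mk g, rfl⟩
  rintro _ ⟨⟨a, haN⟩, haA, rfl⟩
  have hle : Subgroup.zpowers a ≤ A := zpowers_le.mpr haA
  exact map_pCore_le_of_surjective hls (Subgroup.mem_map_of_mem _
    (hst a (le_bot_iff.mp (hq ▸ commutator_mono (commutator_mono le_rfl hle) hle))))

/-- The failure form: a quotient by `O_{p'}` that is not `p`-stable gives a section. -/
theorem hasSL2Section_of_not_isPStable [Finite G] [Fact p.Prime] (hp : p ≠ 2)
    (hO : pPrimeCore p G < pPrimePCore p G) (hns : ¬ IsPStable p (G ⧸ pPrimeCore p G)) :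
    HasSL2Section p (⊤ : Subgroup G) := by
  by_contra h
  refine hns (isPStable_of_no_section hp (pPrimeCore_quotient_pPrimeCore_eq_bot p G) ?_ fun h' => h ?_)
  · intro hbot
    apply hO.ne
    rw [pPrimePCore, hbot, MonoidHom.comap_bot, QuotientGroup.ker_mk']
  · refine HasSL2Section.comap (QuotientGroup.mk' (pPrimeCore p G)) ?_
    rwa [Subgroup.map_top_of_surjective _ (QuotientGroup.mk'_surjective _)]

/-- A quadratic element acting nontrivially on a normal `p'`-subgroup generates with it a `p`-soluble group in which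
it lies outside the `p`-core. -/
theorem exists_pSolvable_not_mem_pCore [Finite G] [Fact p.Prime] {V H Q : Subgroup G}
    (hV : IsElementaryAbelian p V) (hHV : H ≤ normalizer (V : Set G))
    (hf : H ⊓ centralizer (V : Set G) = ⊥) {a : G} (haH : a ∈ H)
    (ha : ⁅⁅V, Subgroup.zpowers a⁆, Subgroup.zpowers a⁆ = ⊥) (hQH : Q ≤ H)
    (hQn : H ≤ normalizer (Q : Set G)) (hQ : (Nat.card Q).Coprime p)
    (hQa : ⁅Q, Subgroup.zpowers a⁆ ≠ ⊥) :
    ∃ H' : Subgroup G, H' ≤ H ∧ ∃ _ : a ∈ H', IsPSolvable p H' ∧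
      a ∉ (pCore p H').map H'.subtype := by
  have hap : a ^ p = 1 := mem_bot.mp (hf ▸ mem_inf.mpr
    ⟨pow_mem haH p, pow_mem_centralizer_of_quadratic hV.2 (hHV haH) ha⟩)
  refine ⟨Q ⊔ Subgroup.zpowers a, sup_le hQH (zpowers_le.mpr haH), mem_sup_right (mem_zpowers a),
    ?_, ?_⟩
  · set H' := Q ⊔ Subgroup.zpowers a
    have hn : H' ≤ normalizer (Q : Set G) :=
      (sup_le hQH (zpowers_le.mpr haH) : H' ≤ H).trans hQn
    haveI : (Q.subgroupOf H').Normal := normal_subgroupOf_of_le_normalizer hn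
    refine isPSolvable_of_extension (Q.subgroupOf H') (isPSolvable_of_coprime ?_)
      (isPSolvable_of_isPGroup ?_)
    · rw [Nat.card_congr (subgroupOfEquivOfLe (le_sup_left : Q ≤ H')).toEquiv]; exact hQ
    · intro x
      obtain ⟨⟨g, hg⟩, rfl⟩ := QuotientGroup.mk'_surjective _ x
      obtain ⟨u, hu, w, hw, rfl⟩ : ∃ u ∈ Q, ∃ w ∈ Subgroup.zpowers a, u * w = g := by
        have h1 : g ∈ ((Q ⊔ Subgroup.zpowers a : Subgroup G) : Set G) := hg
        rw [coe_mul_of_right_le_normalizer_left Q _ ((zpowers_le.mpr haH).trans hQn)] at h1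
        exact h1
      have hwH : w ∈ H' := mem_sup_right hw
      refine ⟨1, ?_⟩
      have e : (QuotientGroup.mk' (Q.subgroupOf H') ⟨u * w, hg⟩ : H' ⧸ Q.subgroupOf H') =
          QuotientGroup.mk' _ ⟨w, hwH⟩ := by
        rw [show (⟨u * w, hg⟩ : H') = ⟨u, mem_sup_left hu⟩ * ⟨w, hwH⟩ from rfl, map_mul,
          show QuotientGroup.mk' (Q.subgroupOf H') ⟨u, mem_sup_left hu⟩ = 1 from
            (QuotientGroup.eq_one_iff _).mpr hu, one_mul]
      obtain ⟨i, rfl⟩ := hw
      rw [pow_one, e, ← map_pow]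
      convert map_one (QuotientGroup.mk' (Q.subgroupOf H')) using 2
      refine Subtype.ext ?_
      show (a ^ i) ^ p = 1
      rw [← zpow_natCast, ← zpow_mul, mul_comm, zpow_mul, zpow_natCast, hap, one_zpow]
  · intro hmem
    apply hQa
    rw [eq_bot_iff, ← disjoint_of_isPGroup_of_coprime
      ((isPGroup_pCore p ↥(Q ⊔ Subgroup.zpowers a)).map (Q ⊔ Subgroup.zpowers a).subtype) hQ]
    refine le_inf ?_ (commutator_le_of_le_normalizer ((zpowers_le.mpr haH).trans hQn))
    have hQle : Q ≤ (⊤ : Subgroup ↥(Q ⊔ Subgroup.zpowers a)).map (Q ⊔ Subgroup.zpowers a).subtype :=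
      fun q hq => ⟨⟨q, mem_sup_left hq⟩, mem_top _, rfl⟩
    refine (commutator_mono hQle (zpowers_le.mpr hmem)).trans ?_
    rw [← map_commutator]
    exact map_mono (commutator_le_right ⊤ _)

end CfsgLib.PLocal
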