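/-
Best offenders in a faithful group whose `p'`-core contains its centralizer (Kurzweil–Stellmacher 9.3):
each has weight `|V|` and is generated by transvection subgroups.
-/
import Cfsg.Agent.PLocal.Replacement
import Cfsg.Agent.PLocal.Thompson
import Cfsg.Agent.PLocal.Cores
import Cfsg.Agent.Coprime.PTimesQ
import Cfsg.Agent.Signalizer.Generation
set_option autoImplicit false

namespace CfsgLib.PLocal.Offender

open Cfsg Subgroup
open scoped commutatorElement

variable {G : Type*} [Group G] {p : ℕ} {V H : Subgroup G}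

/-- `O_{p'}(H)` inside `G`. -/
def coreIn (p : ℕ) (H : Subgroup G) : Subgroup G := (pPrimeCore p H).map H.subtype

/-- A faithful group on `V` whose `p'`-core contains its centralizer. -/
structure Setup (p : ℕ) (V H : Subgroup G) : Prop where
  elem : IsElementaryAbelian p V
  norm : H ≤ normalizer (V : Set G)
  faithful : H ⊓ centralizer (V : Set G) = ⊥
  core : centralizer (pPrimeCore p H : Set H) ≤ pPrimeCore p H

/-- A subgroup of order `p` fixing a hyperplane of `V`. -/
structure IsTV (p : ℕ) (V H T : Subgroup G) : Prop where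
  le : T ≤ H
  card : Nat.card T = p
  index : (V ⊓ centralizer (T : Set G)).relIndex V = p

theorem coreIn_le : coreIn p H ≤ H := map_subtype_le _

theorem le_normalizer_coreIn : H ≤ normalizer (coreIn p H : Set G) := by
  have h1 := le_normalizer_map (H := pPrimeCore p H) H.subtype
  rw [normalizer_eq_top, ← MonoidHom.range_eq_map, range_subtype] at h1
  exact h1

theorem coprime_card_coreIn [Finite G] : (Nat.card (coreIn p H)).Coprime p := by
  rw [coreIn, card_map_of_injective H.subtype_injective]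
  exact coprime_card_pPrimeCore p H

theorem offenderWeight_bot (V : Subgroup G) : offenderWeight V (⊥ : Subgroup G) = Nat.card V := by
  have h : V ⊓ centralizer ((⊥ : Subgroup G) : Set G) = V := inf_eq_left.2 fun v _ z hz => by
    rw [coe_bot, Set.mem_singleton_iff] at hz
    rw [hz, one_mul, mul_one]
  rw [offenderWeight, Subgroup.card_bot, one_mul, h]

theorem mem_inf_centralizer_conj_iff {X : Subgroup G} {x : G}
    (hV : x ∈ normalizer (V : Set G)) (hX : x ∈ centralizer (X : Set G)) {z : G} :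
    z ∈ V ⊓ centralizer (X : Set G) ↔ x * z * x⁻¹ ∈ V ⊓ centralizer (X : Set G) := by
  simp only [mem_inf]
  rw [← mem_normalizer_iff.1 hV z,
    ← mem_normalizer_iff.1 (le_normalizer (H := centralizer (X : Set G)) hX) z]

namespace Setup

variable (hs : Setup p V H)
include hs

theorem inf_centralizer_coreIn_le : H ⊓ centralizer (coreIn p H : Set G) ≤ coreIn p H := by
  intro x hx
  refine ⟨⟨x, hx.1⟩, hs.core ?_, rfl⟩
  intro z hz
  exact Subtype.ext (hx.2 _ (mem_map_of_mem H.subtype hz))

theorem le_of_commutator_eq_bot {A : Subgroup G} (hA : A ≤ H) (h : ⁅V, A⁆ = ⊥) : A = ⊥ := by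
  rw [commutator_comm, commutator_eq_bot_iff_le_centralizer] at h
  exact le_bot_iff.1 (hs.faithful ▸ le_inf hA h)

theorem elementary {A : Subgroup G} (hA : A ≤ H) (h : IsBestOffenderOn p V A) :
    IsElementaryAbelian p A := by
  refine ⟨le_centralizer_iff_isMulCommutative.1 (commutator_eq_bot_iff_le_centralizer.1 ?_),
    fun a ha => ?_⟩
  · exact le_bot_iff.1 (hs.faithful ▸ le_inf ((commutator_mono hA hA).trans H.commutator_le_self) h.2.1)
  · rw [← mem_bot (G := G), ← hs.faithful]
    exact ⟨pow_mem (hA ha) p, h.2.2 a ha⟩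

/-- An element of `H` of order prime to `p` commuting with a `p`-subgroup is determined by `C_V(B)`. -/
theorem eq_bot_of_centralizes [Finite G] [Fact p.Prime] {B D : Subgroup G} (hB : B ≤ H)
    (hBp : IsPGroup p B) (hD : D ≤ coreIn p H) (hBD : D ≤ centralizer (B : Set G))
    (hC : V ⊓ centralizer (B : Set G) ≤ centralizer (D : Set G)) : D = ⊥ :=
  le_bot_iff.1 (hs.faithful ▸ le_inf (hD.trans coreIn_le)
    (CfsgLib.Coprime.le_centralizer_of_inf_centralizer_le hBp
      (coprime_card_of_le hD coprime_card_coreIn) (isPGroup_of_isElementaryAbelian hs.elem)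
      (le_centralizer_iff.1 hBD) (hB.trans hs.norm) ((hD.trans coreIn_le).trans hs.norm) hC))

theorem isBestOffenderOn_of_weight_eq {A B : Subgroup G} (h : IsBestOffenderOn p V A) (hBA : B ≤ A)
    (hw : offenderWeight V B = offenderWeight V A) : IsBestOffenderOn p V B :=
  ⟨fun C hC => (h.1 C (hC.trans hBA)).trans hw.ge, (commutator_mono hBA hBA).trans h.2.1,
    fun b hb => h.2.2 b (hBA hb)⟩

/-- A hyperplane with more fixed points on the core has the weight of the whole offender. -/
theorem weight_hyperplane [Finite G] [Fact p.Prime] {A B : Subgroup G} (hA : A ≤ H)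
    (h : IsBestOffenderOn p V A) (hBA : B ≤ A) (hidx : B.relIndex A = p)
    (hne : ¬ coreIn p H ⊓ centralizer (B : Set G) ≤ centralizer (A : Set G)) :
    offenderWeight V B = offenderWeight V A := by
  refine le_antisymm (h.1 B hBA) ?_
  set Z := V ⊓ centralizer (A : Set G)
  set ZB := V ⊓ centralizer (B : Set G) with hZB
  have hle : Z ≤ ZB := inf_centralizer_mono V hBA
  have hlt : Z < ZB := by
    refine lt_of_le_of_ne hle fun heq => hne fun x hx => ?_
    have hel := hs.elementary hA h
    set D := ⁅coreIn p H ⊓ centralizer (B : Set G), A⁆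
    have hAN : A ≤ normalizer ((coreIn p H ⊓ centralizer (B : Set G) : Subgroup G) : Set G) := by
      intro a ha
      refine mem_normalizer_iff.2 fun z => ?_
      have hac : a ∈ centralizer (B : Set G) := fun b hb =>
        comm_of_isMulCommutative hel.1 (hBA hb) ha
      rw [mem_inf, mem_inf, ← mem_normalizer_iff.1 (le_normalizer_coreIn (hA ha)) z,
        ← mem_normalizer_iff.1 (le_normalizer (H := centralizer (B : Set G)) hac) z]
    have hDle : D ≤ coreIn p H ⊓ centralizer (B : Set G) := commutator_le_of_le_normalizer hAN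
    have hD : D = ⊥ := by
      refine hs.eq_bot_of_centralizes (hBA.trans hA)
        ((isPGroup_of_isElementaryAbelian hel).to_le hBA) (hDle.trans inf_le_left)
        (hDle.trans inf_le_right) ?_
      rw [← hZB, ← heq, le_centralizer_iff, commutator_le]
      intro y hy a ha z hz
      have hyV : y ∈ normalizer (V : Set G) := hs.norm (coreIn_le hy.1)
      have hyB : y⁻¹ ∈ centralizer (B : Set G) := inv_mem hy.2
      have hzc : y⁻¹ * z * y ∈ Z := by
        rw [heq, hZB]
        have := (mem_inf_centralizer_conj_iff (inv_mem hyV) hyB).1 (heq ▸ hz)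
        simpa using this
      have h1 : a * (y⁻¹ * z * y) = (y⁻¹ * z * y) * a := hzc.2 a ha
      have h2 : a * z = z * a := hz.2 a ha
      calc z * ⁅y, a⁆ = y * ((y⁻¹ * z * y) * a) * y⁻¹ * a⁻¹ := by
            rw [commutatorElement_def]; group
        _ = y * (a * (y⁻¹ * z * y)) * y⁻¹ * a⁻¹ := by rw [h1]
        _ = y * a * y⁻¹ * (z * a⁻¹) := by group
        _ = y * a * y⁻¹ * (a⁻¹ * z) := by
            rw [eq_inv_mul_iff_mul_eq.2 (show a * (z * a⁻¹) = z by rw [← mul_assoc, h2, mul_inv_cancel_right])]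
        _ = ⁅y, a⁆ * z := by rw [commutatorElement_def]; group
    exact commutator_eq_bot_iff_le_centralizer.1 hD hx
  have h1 : Nat.card B * p = Nat.card A := hidx ▸ card_mul_relIndex hBA
  have hVp : IsPGroup p ZB := (isPGroup_of_isElementaryAbelian hs.elem).to_le inf_le_left
  obtain ⟨i, hi⟩ := IsPGroup.iff_card.1 hVp
  obtain ⟨j, hj⟩ := IsPGroup.iff_card.1 (hVp.to_le hle)
  have h2 : p ^ j < p ^ i := hi ▸ hj ▸
    Set.ncard_lt_ncard (SetLike.coe_ssubset_coe.mpr hlt) (Set.toFinite _)
  rw [offenderWeight, offenderWeight, ← h1, mul_assoc]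
  refine Nat.mul_le_mul_left _ ?_
  rw [show Nat.card ↥(V ⊓ centralizer (A : Set G)) = p ^ j from hj,
    show Nat.card ↥(V ⊓ centralizer (B : Set G)) = p ^ i from hi, ← pow_succ']
  exact Nat.pow_le_pow_right (Fact.out : p.Prime).pos
    ((Nat.pow_lt_pow_iff_right (Fact.out : p.Prime).one_lt).1 h2)

/-- The fixed points on the core of the hyperplanes are not all central. -/
theorem exists_hyperplane [Finite G] [Fact p.Prime] {A : Subgroup G} (hA : A ≤ H)
    (hel : IsElementaryAbelian p A) {D : Subgroup G}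
    (hD : ¬ coreIn p H ≤ D) (hne : A ≠ ⊥) :
    ∃ B : Subgroup G, B ≤ A ∧ B.relIndex A = p ∧
      ¬ coreIn p H ⊓ centralizer (B : Set G) ≤ D := by
  by_contra h
  push Not at h
  refine hD (CfsgLib.Signalizer.le_of_forall_relIndex_eq hel hne ?_ (hA.trans le_normalizer_coreIn) h)
  exact (Fact.out : p.Prime).coprime_iff_not_dvd.1 coprime_card_coreIn.symm

theorem not_coreIn_le_centralizer [Finite G] [Fact p.Prime] {A : Subgroup G} (hA : A ≤ H)
    (hAp : IsPGroup p A) (hne : A ≠ ⊥) : ¬ coreIn p H ≤ centralizer (A : Set G) := by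
  intro h
  have h1 : A ≤ coreIn p H :=
    (le_inf hA (le_centralizer_iff.1 h)).trans hs.inf_centralizer_coreIn_le
  refine hne ?_
  rw [← inf_eq_left.2 h1]
  exact disjoint_of_isPGroup_of_coprime hAp coprime_card_coreIn

/-- Every best offender has weight `|V|`. -/
theorem weight_eq [Finite G] [Fact p.Prime] : ∀ (n : ℕ) {A : Subgroup G}, Nat.card A = n → A ≤ H →
    IsBestOffenderOn p V A → offenderWeight V A = Nat.card V := by
  intro n
  induction n using Nat.strong_induction_on with
  | h n ih =>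
    intro A hn hA h
    rcases eq_or_ne A ⊥ with rfl | hne
    · exact offenderWeight_bot V
    have hel := hs.elementary hA h
    obtain ⟨B, hBA, hidx, hB⟩ := hs.exists_hyperplane hA hel
      (hs.not_coreIn_le_centralizer hA (isPGroup_of_isElementaryAbelian hel) hne) hne
    have hw := hs.weight_hyperplane hA h hBA hidx hB
    rw [← hw]
    refine ih _ ?_ rfl (hBA.trans hA) (hs.isBestOffenderOn_of_weight_eq h hBA hw)
    rw [← hn, ← card_mul_relIndex hBA, hidx]
    exact lt_mul_of_one_lt_right Nat.card_pos (Fact.out : p.Prime).one_lt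

theorem isTV_of_card [Finite G] [Fact p.Prime] {A : Subgroup G} (hA : A ≤ H)
    (h : IsBestOffenderOn p V A) (hc : Nat.card A = p) : IsTV p V H A := by
  refine ⟨hA, hc, ?_⟩
  have hw := hs.weight_eq _ rfl hA h
  rw [offenderWeight, hc] at hw
  have h2 := card_mul_relIndex (inf_le_left : V ⊓ centralizer (A : Set G) ≤ V)
  rw [← hw, mul_comm p] at h2
  exact Nat.eq_of_mul_eq_mul_left Nat.card_pos h2

/-- A best offender is generated by transvection subgroups which are best offenders. -/
theorem eq_sSup_transvections [Finite G] [Fact p.Prime] : ∀ (n : ℕ) {A : Subgroup G},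
    Nat.card A = n → A ≤ H → IsBestOffenderOn p V A →
      A = sSup {T : Subgroup G | T ≤ A ∧ IsTV p V H T ∧ IsBestOffenderOn p V T} := by
  intro n
  induction n using Nat.strong_induction_on with
  | h n ih =>
    intro A hn hA h
    refine le_antisymm ?_ (sSup_le fun T hT => hT.1)
    set M := sSup {T : Subgroup G | T ≤ A ∧ IsTV p V H T ∧ IsBestOffenderOn p V T}
    rcases eq_or_ne A ⊥ with rfl | hne
    · exact bot_le
    have hel := hs.elementary hA h
    have hAp := isPGroup_of_isElementaryAbelian hel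
    by_cases hcp : Nat.card A = p
    · exact le_sSup ⟨le_rfl, hs.isTV_of_card hA h hcp, h⟩
    obtain ⟨B₁, hB₁, hidx₁, hne₁⟩ := hs.exists_hyperplane hA hel
      (hs.not_coreIn_le_centralizer hA hAp hne) hne
    have hB₁ne : B₁ ≠ ⊥ := by
      rintro rfl
      exact hcp (by rw [← hidx₁, relIndex_bot_left])
    obtain ⟨B₂, hB₂, hidx₂, hne₂⟩ := hs.exists_hyperplane hA hel
      (D := coreIn p H ⊓ centralizer (B₁ : Set G)) (fun hle => hs.not_coreIn_le_centralizer
        (hB₁.trans hA) (hAp.to_le hB₁) hB₁ne (hle.trans inf_le_right)) hne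
    have hne₂' : ¬ coreIn p H ⊓ centralizer (B₂ : Set G) ≤ centralizer (A : Set G) := fun hle =>
      hne₂ (le_inf inf_le_left (hle.trans (centralizer_le hB₁)))
    have hsub : ∀ B : Subgroup G, B ≤ A → B.relIndex A = p →
        ¬ coreIn p H ⊓ centralizer (B : Set G) ≤ centralizer (A : Set G) → B ≤ M := by
      intro B hBA hidx hB
      have hw := hs.weight_hyperplane hA h hBA hidx hB
      have hlt : Nat.card B < n := by
        rw [← hn, ← card_mul_relIndex hBA, hidx]
        exact lt_mul_of_one_lt_right Nat.card_pos (Fact.out : p.Prime).one_lt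
      rw [ih _ hlt rfl (hBA.trans hA) (hs.isBestOffenderOn_of_weight_eq h hBA hw)]
      exact sSup_le fun T hT => le_sSup ⟨hT.1.trans hBA, hT.2⟩
    have h12 : ¬ B₂ ≤ B₁ := fun hle => by
      have hc : Nat.card B₁ ≤ Nat.card B₂ := by
        have e1 := card_mul_relIndex hB₁
        have e2 := card_mul_relIndex hB₂
        rw [hidx₁] at e1
        rw [hidx₂, ← e1] at e2
        exact (Nat.eq_of_mul_eq_mul_right (Fact.out : p.Prime).pos e2).ge
      exact hne₂ (le_inf inf_le_left (eq_of_le_of_card_ge hle hc ▸ inf_le_right))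
    have htop : B₁ ⊔ B₂ = A := by
      refine eq_of_le_of_card_ge (sup_le hB₁ hB₂) ?_
      have hlt : B₁ < B₁ ⊔ B₂ := lt_of_le_of_ne le_sup_left fun he => h12 (he ▸ le_sup_right)
      obtain ⟨i, hi⟩ := IsPGroup.iff_card.1 (hAp.to_le (sup_le hB₁ hB₂))
      obtain ⟨j, hj⟩ := IsPGroup.iff_card.1 (hAp.to_le hB₁)
      have h3 : p ^ j < p ^ i := hi ▸ hj ▸
        Set.ncard_lt_ncard (SetLike.coe_ssubset_coe.mpr hlt) (Set.toFinite _)
      rw [← card_mul_relIndex hB₁, hidx₁, hi, hj, ← pow_succ]
      exact Nat.pow_le_pow_right (Fact.out : p.Prime).pos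
        ((Nat.pow_lt_pow_iff_right (Fact.out : p.Prime).one_lt).1 h3)
    exact htop ▸ sup_le (hsub _ hB₁ hidx₁ hne₁) (hsub _ hB₂ hidx₂ hne₂')

/-- A minimal nontrivial best offender is a transvection subgroup. -/
theorem isTV_of_minimal [Finite G] [Fact p.Prime] {A : Subgroup G} (hA : A ≤ H)
    (h : IsBestOffenderOn p V A) (hAV : ⁅V, A⁆ ≠ ⊥)
    (hmin : ∀ B : Subgroup G, B ≤ A → IsBestOffenderOn p V B → ⁅V, B⁆ ≠ ⊥ → B = A) :
    IsTV p V H A := by
  have hne : A ≠ ⊥ := fun h0 => hAV (by rw [h0, commutator_bot_right])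
  obtain ⟨T, hTA, hT, hTb⟩ : ∃ T : Subgroup G, T ≤ A ∧ IsTV p V H T ∧ IsBestOffenderOn p V T := by
    by_contra hno
    exact hne ((hs.eq_sSup_transvections _ rfl hA h).trans
      (sSup_eq_bot.2 fun T hT => absurd ⟨T, hT⟩ hno))
  have := hmin T hTA hTb fun h0 => by
    have hc := hT.card
    rw [hs.le_of_commutator_eq_bot hT.le h0, Subgroup.card_bot] at hc
    exact (Fact.out : p.Prime).ne_one hc.symm
  exact this ▸ hT

theorem minimal_of_card [Fact p.Prime] {T : Subgroup G} (hT : Nat.card T = p)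
    {C : Subgroup G} (hC : C ≤ T) (hCV : ⁅V, C⁆ ≠ ⊥) : C = T := by
  haveI : Finite T := Nat.finite_of_card_ne_zero (hT ▸ (Fact.out : p.Prime).ne_zero)
  refine eq_of_le_of_card_ge hC ?_
  rcases (Fact.out : p.Prime).eq_one_or_self_of_dvd _ (hT ▸ card_dvd_of_le hC) with h1 | h1
  · exact absurd (by rw [card_eq_one.1 h1, commutator_bot_right]) hCV
  · rw [hT, h1]

/-- The decomposition of a best offender as a direct product of transvection subgroups. -/
theorem exists_product [Finite G] [Fact p.Prime] {A : Subgroup G} (hA : A ≤ H)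
    (h : IsBestOffenderOn p V A) : ∃ (k : ℕ) (B : Fin k → Subgroup G),
      (∀ i, B i ≤ A ∧ IsBestOffenderOn p V (B i) ∧ IsTV p V H (B i)) ∧
        iSupIndep B ∧ ⨆ i, B i = A := by
  classical
  haveI : Fintype (Subgroup G) := Fintype.ofFinite _
  set 𝒯 := {T : Subgroup G | T ≤ A ∧ IsTV p V H T ∧ IsBestOffenderOn p V T}
  have hmem : (𝒯.toFinset : Finset (Subgroup G)) ∈
      {s : Finset (Subgroup G) | (∀ T ∈ s, T ∈ 𝒯) ∧ s.sup id = A} := by
    refine ⟨fun T hT => Set.mem_toFinset.1 hT, ?_⟩
    rw [Finset.sup_id_eq_sSup, Set.coe_toFinset]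
    exact (hs.eq_sSup_transvections _ rfl hA h).symm
  obtain ⟨s, ⟨hs𝒯, hsA⟩, hmin⟩ := Set.exists_min_image
    {s : Finset (Subgroup G) | (∀ T ∈ s, T ∈ 𝒯) ∧ s.sup id = A} Finset.card (Set.toFinite _)
    ⟨_, hmem⟩
  set e := s.equivFin.symm
  refine ⟨s.card, fun i => (e i : Subgroup G), fun i => ?_, ?_, ?_⟩
  · obtain ⟨h1, h2, h3⟩ := hs𝒯 _ (e i).2
    exact ⟨h1, h3, h2⟩
  · intro i
    rw [disjoint_iff]
    by_contra hne
    set T : Subgroup G := (e i : Subgroup G)
    set O : Subgroup G := ⨆ (j : Fin s.card) (_ : j ≠ i), (e j : Subgroup G)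
    have hTO : T ≤ O := by
      have hc : Nat.card T = p := (hs𝒯 _ (e i).2).2.1.card
      rcases (Fact.out : p.Prime).eq_one_or_self_of_dvd _
        (hc ▸ card_dvd_of_le (inf_le_left : T ⊓ O ≤ T)) with h1 | h1
      · exact absurd (card_eq_one.1 h1) hne
      · exact inf_eq_left.1 (eq_of_le_of_card_ge inf_le_left (by rw [h1, hc]))
    have hO : O ≤ (s.erase T).sup id := by
      refine iSup₂_le fun j hj => Finset.le_sup (f := id) (Finset.mem_erase.2 ⟨?_, (e j).2⟩)
      exact fun hji => hj (e.injective (Subtype.ext hji))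
    have hsup : (s.erase T).sup id = A := by
      refine le_antisymm ((Finset.sup_mono (Finset.erase_subset _ _)).trans hsA.le) ?_
      refine hsA ▸ Finset.sup_le fun U hU => ?_
      by_cases hUT : U = T
      · exact hUT ▸ hTO.trans hO
      · exact Finset.le_sup (f := id) (Finset.mem_erase.2 ⟨hUT, hU⟩)
    exact absurd (hmin (s.erase T) ⟨fun U hU => hs𝒯 U (Finset.mem_of_mem_erase hU), hsup⟩)
      (not_le.2 (Finset.card_erase_lt_of_mem (e i).2))
  · refine le_antisymm (iSup_le fun i => (hs𝒯 _ (e i).2).1) ?_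
    refine hsA ▸ Finset.sup_le fun T hT => le_iSup_of_le (e.symm ⟨T, hT⟩) ?_
    show id T ≤ (e (e.symm ⟨T, hT⟩) : Subgroup G)
    rw [Equiv.apply_symm_apply]
    rfl

end Setup

end CfsgLib.PLocal.Offender
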