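/-
Two conjugate transvection subgroups span a component (Kurzweil–Stellmacher 9.3).
-/
import Cfsg.Agent.PLocal.Offender
import Cfsg.Agent.PLocal.Quadratic
set_option autoImplicit false

namespace CfsgLib.PLocal.Offender

open Cfsg Subgroup
open scoped commutatorElement

variable {G : Type*} [Group G] {p : ℕ} {V H : Subgroup G}

/-- The conjugate `xTx⁻¹`. -/
def cjg (x : G) (T : Subgroup G) : Subgroup G := T.map (MulAut.conj x).toMonoidHom

/-- The component of a transvection subgroup. -/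
def comp (p : ℕ) (H T : Subgroup G) : Subgroup G := ⁅coreIn p H, T⁆ ⊔ T

theorem mem_cjg {x z : G} {T : Subgroup G} : z ∈ cjg x T ↔ x⁻¹ * z * x ∈ T := by
  constructor
  · rintro ⟨t, ht, rfl⟩
    simpa [mul_assoc] using ht
  · exact fun h => ⟨_, h, by simp [mul_assoc]⟩

theorem cjg_cjg (x y : G) (T : Subgroup G) : cjg x (cjg y T) = cjg (x * y) T := by
  ext z
  simp only [mem_cjg, mul_inv_rev, mul_assoc]

theorem cjg_one (T : Subgroup G) : cjg 1 T = T := by
  ext z
  simp [mem_cjg]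

theorem card_cjg (x : G) (T : Subgroup G) : Nat.card (cjg x T) = Nat.card T :=
  (Nat.card_congr (equivMapOfInjective T _ (MulAut.conj x).injective).toEquiv).symm

theorem cjg_eq_self {x : G} {X : Subgroup G} (hx : x ∈ normalizer (X : Set G)) : cjg x X = X :=
  mem_normalizer_iff_map_conj_eq.1 hx

theorem cjg_commutator (x : G) (A B : Subgroup G) : cjg x ⁅A, B⁆ = ⁅cjg x A, cjg x B⁆ :=
  map_commutator _ _ _

/-- An element normalizing `A` and `B` normalizes `⁅A, B⁆`. -/
theorem mem_normalizer_commutator {A B : Subgroup G} {g : G} (hA : g ∈ normalizer (A : Set G))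
    (hB : g ∈ normalizer (B : Set G)) : g ∈ normalizer ((⁅A, B⁆ : Subgroup G) : Set G) :=
  mem_normalizer_iff_map_conj_eq.2 (show cjg g ⁅A, B⁆ = ⁅A, B⁆ by
    rw [cjg_commutator, cjg_eq_self hA, cjg_eq_self hB])

theorem mem_normalizer_inf {A B : Subgroup G} {g : G} (hA : g ∈ normalizer (A : Set G))
    (hB : g ∈ normalizer (B : Set G)) : g ∈ normalizer ((A ⊓ B : Subgroup G) : Set G) :=
  mem_normalizer_iff.2 fun z => by
    rw [mem_inf, mem_inf, ← mem_normalizer_iff.1 hA z, ← mem_normalizer_iff.1 hB z]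

theorem mem_normalizer_sup {A B : Subgroup G} {g : G} (hA : g ∈ normalizer (A : Set G))
    (hB : g ∈ normalizer (B : Set G)) : g ∈ normalizer ((A ⊔ B : Subgroup G) : Set G) :=
  mem_normalizer_iff_map_conj_eq.2 (show cjg g (A ⊔ B) = A ⊔ B by
    rw [cjg, Subgroup.map_sup]
    exact congrArg₂ _ (cjg_eq_self hA) (cjg_eq_self hB))

theorem mem_normalizer_centralizer {A : Subgroup G} {g : G} (hA : g ∈ normalizer (A : Set G)) :
    g ∈ normalizer ((centralizer (A : Set G) : Subgroup G) : Set G) := by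
  have key : ∀ h ∈ normalizer (A : Set G), ∀ z ∈ centralizer (A : Set G),
      h * z * h⁻¹ ∈ centralizer (A : Set G) := by
    intro h hh z hz a ha
    have h1 : h⁻¹ * a * h ∈ A := by
      simpa using (mem_normalizer_iff.1 (inv_mem hh) a).1 ha
    calc a * (h * z * h⁻¹) = h * ((h⁻¹ * a * h) * z) * h⁻¹ := by group
      _ = h * (z * (h⁻¹ * a * h)) * h⁻¹ := by rw [hz _ h1]
      _ = h * z * h⁻¹ * a := by group
  refine mem_normalizer_iff.2 fun z => ⟨key g hA z, fun h => ?_⟩
  simpa [mul_assoc] using key g⁻¹ (inv_mem hA) _ h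

/-- Commutators with a generated subgroup. -/
theorem commutator_sup_le {A B W : Subgroup G} (hA : ⁅V, A⁆ ≤ W) (hB : ⁅V, B⁆ ≤ W)
    (hAW : A ≤ normalizer (W : Set G)) (hBW : B ≤ normalizer (W : Set G)) :
    ⁅V, A ⊔ B⁆ ≤ W := by
  rw [commutator_le]
  intro v hv g hg
  let S : Subgroup G :=
    { carrier := {g | g ∈ normalizer (W : Set G) ∧ ∀ v ∈ V, ⁅v, g⁆ ∈ W}
      one_mem' := ⟨one_mem _, fun v _ => by simp⟩
      mul_mem' := by
        rintro g h ⟨hg1, hg2⟩ ⟨hh1, hh2⟩
        refine ⟨mul_mem hg1 hh1, fun v hv => ?_⟩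
        have : ⁅v, g * h⁆ = ⁅v, g⁆ * (g * ⁅v, h⁆ * g⁻¹) := by
          simp only [commutatorElement_def]; group
        rw [this]
        exact mul_mem (hg2 v hv) ((mem_normalizer_iff.1 hg1 _).1 (hh2 v hv))
      inv_mem' := by
        rintro g ⟨hg1, hg2⟩
        refine ⟨inv_mem hg1, fun v hv => ?_⟩
        have : ⁅v, g⁻¹⁆ = g⁻¹ * ⁅v, g⁆⁻¹ * g⁻¹⁻¹ := by
          simp only [commutatorElement_def]; group
        rw [this]
        exact (mem_normalizer_iff.1 (inv_mem hg1) _).1 (inv_mem (hg2 v hv)) }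
  have hle : A ⊔ B ≤ S := sup_le
    (fun a ha => ⟨hAW ha, fun v hv => hA (commutator_mem_commutator hv ha)⟩)
    (fun b hb => ⟨hBW hb, fun v hv => hB (commutator_mem_commutator hv hb)⟩)
  exact (hle hg).2 v hv

theorem exists_generator [Fact p.Prime] {T : Subgroup G} (hT : Nat.card T = p) :
    ∃ a ∈ T, a ≠ 1 ∧ T = zpowers a ∧ orderOf a = p := by
  haveI : Finite T := Nat.finite_of_card_ne_zero (hT ▸ (Fact.out : p.Prime).ne_zero)
  obtain ⟨a, ha⟩ := exists_prime_orderOf_dvd_card' p hT.symm.dvd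
  rw [← Subgroup.orderOf_coe] at ha
  refine ⟨a, a.2, fun h => ?_, (eq_of_le_of_card_ge (zpowers_le.2 a.2) ?_).symm, ha⟩
  · rw [h, orderOf_one] at ha
    exact (Fact.out : p.Prime).ne_one ha.symm
  · rw [Nat.card_zpowers, ha, hT]

theorem eq_or_inf_eq_bot [Fact p.Prime] {T X : Subgroup G} (hT : Nat.card T = p) :
    T ≤ X ∨ T ⊓ X = ⊥ := by
  haveI : Finite T := Nat.finite_of_card_ne_zero (hT ▸ (Fact.out : p.Prime).ne_zero)
  rcases (Fact.out : p.Prime).eq_one_or_self_of_dvd _
    (hT ▸ card_dvd_of_le (inf_le_left : T ⊓ X ≤ T)) with h | h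
  · exact Or.inr (card_eq_one.1 h)
  · exact Or.inl (inf_eq_left.1 (eq_of_le_of_card_ge inf_le_left (by rw [h, hT])))

namespace Setup

variable (hs : Setup p V H)
include hs

theorem conj_commutator_mem {y : G} (hy : y ∈ H) {c : G} (hc : c ∈ coreIn p H) :
    ⁅c, y⁆ ∈ coreIn p H := by
  rw [commutatorElement_def, mul_assoc, mul_assoc, ← mul_assoc y]
  exact mul_mem hc ((mem_normalizer_iff.1 (le_normalizer_coreIn hy) _).1 (inv_mem hc))

theorem isTV_cjg {T : Subgroup G} (hT : IsTV p V H T) {g : G} (hg : g ∈ H) :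
    IsTV p V H (cjg g T) := by
  refine ⟨fun z hz => ?_, by rw [card_cjg, hT.card], ?_⟩
  · have := mul_mem (mul_mem hg (hT.le (mem_cjg.1 hz))) (inv_mem hg)
    simpa [mul_assoc] using this
  · have e : V ⊓ centralizer (cjg g T : Set G) = cjg g (V ⊓ centralizer (T : Set G)) := by
      rw [cjg, cjg, map_inf_centralizer (MulAut.conj g).injective]
      congr 1
      exact (cjg_eq_self (hs.norm hg)).symm
    rw [e]
    have h2 : (cjg g (V ⊓ centralizer (T : Set G))).relIndex (cjg g V) = p :=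
      (relIndex_map_map_of_injective _ _ (MulAut.conj g).injective).trans hT.index
    rwa [cjg_eq_self (hs.norm hg)] at h2

theorem commutator_cjg {T : Subgroup G} {g : G} (hg : g ∈ H) :
    ⁅V, cjg g T⁆ = cjg g ⁅V, T⁆ := by
  rw [cjg_commutator, cjg_eq_self (hs.norm hg)]

variable [Finite G] [Fact p.Prime]

theorem isPGroup_tv {T : Subgroup G} (hT : IsTV p V H T) : IsPGroup p T :=
  IsPGroup.of_card (n := 1) (by rw [hT.card, pow_one])

theorem commutator_le_fixed {T : Subgroup G} (hT : IsTV p V H T) :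
    ⁅V, T⁆ ≤ V ⊓ centralizer (T : Set G) := by
  set h := V ⊓ centralizer (T : Set G) with hh
  have hTV : T ≤ normalizer (V : Set G) := hT.le.trans hs.norm
  have hle : ⁅V, T⁆ ≤ V := commutator_le_of_le_normalizer hTV
  have hVp := isPGroup_of_isElementaryAbelian hs.elem
  rcases eq_or_lt_of_le (sup_le hle inf_le_left : ⁅V, T⁆ ⊔ h ≤ V) with heq | hlt
  · exfalso
    have hfix : ⁅V, T⁆ ≤ ⁅⁅V, T⁆, T⁆ := by
      rw [commutator_le]
      intro v hv a ha
      obtain ⟨w, hw, c, hc, rfl⟩ := CfsgLib.Coprime.exists_mul_of_mem_sup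
        (show h ≤ normalizer ((⁅V, T⁆ : Subgroup G) : Set G) from inf_le_left.trans
          ((le_centralizer_iff_isMulCommutative.2 hs.elem.1).trans
            ((centralizer_le hle).trans (centralizer_le_normalizer _)))) (heq.ge hv)
      rw [commutatorElement_mul_left_of_abelian hs.elem.1 (hle hw) hc.1 (hTV ha),
        commutatorElement_eq_one_iff_mul_comm.2 (hc.2 a ha).symm, mul_one]
      exact commutator_mem_commutator hw ha
    have hbot : ⁅V, T⁆ = ⊥ := by
      by_contra hne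
      have h2 := CfsgLib.Coprime.commutator_lt_of_isPGroup (hVp.to_le hle) (hs.isPGroup_tv hT)
        (normalizer_commutator_ge_right V T) hne
      exact absurd hfix (not_le_of_gt h2)
    have h1 := hT.index
    rw [hbot, bot_sup_eq] at heq
    rw [← hh, heq, relIndex_self] at h1
    exact (Fact.out : p.Prime).ne_one h1.symm
  · obtain ⟨i, hi⟩ := IsPGroup.iff_card.1 (hVp.to_le (sup_le hle inf_le_left : ⁅V, T⁆ ⊔ h ≤ V))
    obtain ⟨j, hj⟩ := IsPGroup.iff_card.1 hVp
    have h1 : p ^ i < p ^ j := hi ▸ hj ▸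
      Set.ncard_lt_ncard (SetLike.coe_ssubset_coe.mpr hlt) (Set.toFinite _)
    have h2 := card_mul_relIndex (inf_le_left : h ≤ V)
    rw [hT.index, hj] at h2
    refine le_trans le_sup_left (eq_of_le_of_card_ge (le_sup_right : h ≤ ⁅V, T⁆ ⊔ h) ?_).ge
    refine Nat.le_of_mul_le_mul_right ?_ (Fact.out : p.Prime).pos
    rw [h2, hi, ← pow_succ]
    exact Nat.pow_le_pow_right (Fact.out : p.Prime).pos
      ((Nat.pow_lt_pow_iff_right (Fact.out : p.Prime).one_lt).1 h1)

/-- The point of a transvection subgroup has order `p`. -/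
theorem card_commutator {T : Subgroup G} (hT : IsTV p V H T) : Nat.card ↥(⁅V, T⁆) = p := by
  obtain ⟨a, haT, ha1, hTa, hao⟩ := exists_generator hT.card
  have hfix := hs.commutator_le_fixed hT
  have haV : a ∈ normalizer (V : Set G) := hs.norm (hT.le haT)
  have hmem : ∀ v ∈ V, ⁅v, a⁆ ∈ ⁅V, T⁆ := fun v hv => commutator_mem_commutator hv haT
  let f : V →* G := MonoidHom.mk' (fun v => ⁅(v : G), a⁆) fun u v =>
    commutatorElement_mul_left_of_abelian hs.elem.1 u.2 v.2 haV
  have hker : f.ker = (V ⊓ centralizer (T : Set G)).subgroupOf V := by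
    ext v
    rw [MonoidHom.mem_ker, mem_subgroupOf, mem_inf]
    show ⁅(v : G), a⁆ = 1 ↔ _
    rw [commutatorElement_eq_one_iff_mul_comm]
    refine ⟨fun h => ⟨v.2, ?_⟩, fun h => (h.2 a haT).symm⟩
    rw [hTa]
    intro b hb
    obtain ⟨n, rfl⟩ := mem_zpowers_iff.1 hb
    exact ((show Commute (v : G) a from h).zpow_right n).symm.eq
  have hr : ⁅V, T⁆ = f.range := by
    refine le_antisymm (commutator_le.2 fun v hv b hb => ?_) ?_
    · rw [hTa] at hb
      obtain ⟨n, rfl⟩ := (Submonoid.mem_powers_iff b a).1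
        ((isOfFinOrder_of_finite a).mem_powers_iff_mem_zpowers.2 hb)
      rw [commutatorElement_zpow_right_of_comm (fun k =>
        ((show Commute ⁅v, a⁆ a from ((hfix (hmem v hv)).2 a haT).symm).zpow_right k).eq)]
      exact pow_mem (show ⁅v, a⁆ ∈ f.range from ⟨⟨v, hv⟩, rfl⟩) n
    · rintro _ ⟨v, rfl⟩
      exact hmem v v.2
  rw [hr, ← index_ker, hker]
  exact hT.index

/-- Conjugate transvection subgroups do not centralize each other's points. -/
theorem point_not_le {T : Subgroup G} (hT : IsTV p V H T) {x : G} (hx : x ∈ coreIn p H)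
    (hne : cjg x T ≠ T) : ¬ ⁅V, cjg x T⁆ ≤ centralizer (T : Set G) := by
  intro hle
  set T' := cjg x T
  have hxH := coreIn_le hx
  have hT' := hs.isTV_cjg hT hxH
  set u := ⁅V, T⁆
  set u' := ⁅V, T'⁆
  set W := u ⊔ u' with hW
  set E := T ⊔ T' with hE
  have hEH : E ≤ H := sup_le hT.le hT'.le
  have huV : u ≤ V := (hs.commutator_le_fixed hT).trans inf_le_left
  have hu'V : u' ≤ V := (hs.commutator_le_fixed hT').trans inf_le_left
  have hTW : T ≤ centralizer (W : Set G) :=
    le_centralizer_iff.1 (sup_le ((hs.commutator_le_fixed hT).trans inf_le_right) hle)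
  have hT'W : T' ≤ normalizer (W : Set G) := by
    rw [le_normalizer_iff_commutator_le_left]
    exact (commutator_mono (sup_le huV hu'V) le_rfl).trans le_sup_right
  have hEW : E ≤ normalizer (W : Set G) :=
    sup_le (hTW.trans (centralizer_le_normalizer _)) hT'W
  have hVE : ⁅V, E⁆ ≤ W :=
    commutator_sup_le le_sup_left le_sup_right (hTW.trans (centralizer_le_normalizer _)) hT'W
  set K := E ⊓ centralizer (W : Set G) with hK
  have hKp : IsPGroup p K := by
    intro g
    refine ⟨1, Subtype.ext ?_⟩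
    rw [pow_one, Subgroup.coe_pow, Subgroup.coe_one, ← mem_bot (G := G), ← hs.faithful]
    refine ⟨pow_mem (hEH g.2.1) p, pow_mem_centralizer_of_quadratic hs.elem.2
      (hs.norm (hEH g.2.1)) ?_⟩
    rw [commutator_eq_bot_iff_le_centralizer]
    exact ((commutator_mono le_rfl (zpowers_le.2 g.2.1)).trans hVE).trans
      (le_centralizer_iff.1 (zpowers_le.2 g.2.2))
  have hT'K : T' ≤ normalizer (K : Set G) := fun t ht =>
    mem_normalizer_inf (le_normalizer ((le_sup_right : T' ≤ E) ht))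
      (mem_normalizer_centralizer (hT'W ht))
  have hEp : IsPGroup p E :=
    (IsPGroup.to_sup_of_normal_right' (hs.isPGroup_tv hT') hKp hT'K).to_le
      (sup_le ((le_inf le_sup_left hTW).trans le_sup_right) le_sup_left)
  refine hne (eq_of_le_of_card_ge ?_ (by rw [card_cjg])).symm.symm
  rintro _ ⟨a, ha, rfl⟩
  have h1 : ⁅x, a⁆ ∈ E ⊓ coreIn p H := by
    refine ⟨?_, hs.conj_commutator_mem (hT.le ha) hx⟩
    rw [commutatorElement_def]
    exact mul_mem ((le_sup_right : T' ≤ E) ⟨a, ha, rfl⟩) ((le_sup_left : T ≤ E) (inv_mem ha))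
  rw [disjoint_of_isPGroup_of_coprime hEp coprime_card_coreIn, mem_bot,
    commutatorElement_eq_one_iff_mul_comm] at h1
  show x * a * x⁻¹ ∈ T
  rwa [h1, mul_inv_cancel_right]

theorem exists_conj_ne {T : Subgroup G} (hT : IsTV p V H T) :
    ∃ x ∈ coreIn p H, cjg x T ≠ T := by
  obtain ⟨x, hx, hxT⟩ := SetLike.not_le_iff_exists.1 (hs.not_coreIn_le_centralizer hT.le
    (hs.isPGroup_tv hT) (fun h => by
      have := hT.card
      rw [h, Subgroup.card_bot] at this
      exact (Fact.out : p.Prime).ne_one this.symm))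
  refine ⟨x, hx, fun heq => hxT fun a ha => ?_⟩
  have h1 : ⁅x, a⁆ ∈ T ⊓ coreIn p H := by
    refine ⟨?_, hs.conj_commutator_mem (hT.le ha) hx⟩
    rw [commutatorElement_def]
    exact T.mul_mem (heq.le ⟨a, ha, rfl⟩) (T.inv_mem ha)
  rw [disjoint_of_isPGroup_of_coprime (hs.isPGroup_tv hT) coprime_card_coreIn, mem_bot,
    commutatorElement_eq_one_iff_mul_comm] at h1
  exact h1.symm

/-- A transvection subgroup is determined by its point. -/
theorem eq_of_point_eq {T S : Subgroup G} (hT : IsTV p V H T) (hS : IsTV p V H S)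
    (h : ⁅V, S⁆ = ⁅V, T⁆) : S = T := by
  by_contra hne
  set u := ⁅V, T⁆ with hu
  have huT : u ≤ centralizer (T : Set G) := (hs.commutator_le_fixed hT).trans inf_le_right
  have huS : u ≤ centralizer (S : Set G) := h ▸ (hs.commutator_le_fixed hS).trans inf_le_right
  have hcomm : T ≤ centralizer (S : Set G) := by
    rw [← commutator_eq_bot_iff_le_centralizer]
    refine le_bot_iff.1 (hs.faithful ▸ le_inf
      ((commutator_mono hT.le hS.le).trans H.commutator_le_self) ?_)
    rw [← commutator_eq_bot_iff_le_centralizer]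
    refine commutator_commutator_eq_bot_of_rotate ?_ ?_
    · rwa [commutator_comm S V, h, commutator_eq_bot_iff_le_centralizer]
    · rwa [commutator_eq_bot_iff_le_centralizer]
  set A := T ⊔ S
  have hel : ∀ {X : Subgroup G}, IsTV p V H X → IsElementaryAbelian p X := fun {X} hX => by
    obtain ⟨a, -, -, hXa, hao⟩ := exists_generator hX.card
    rw [hXa]
    exact isElementaryAbelian_zpowers (hao ▸ pow_orderOf_eq_one a)
  have hA : IsElementaryAbelian p A := isElementaryAbelian_sup (hel hT) (hel hS) hcomm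
  have hAH : A ≤ H := sup_le hT.le hS.le
  have hAu : A ≤ normalizer (u : Set G) :=
    sup_le ((le_centralizer_iff.1 huT).trans (centralizer_le_normalizer _))
      ((le_centralizer_iff.1 huS).trans (centralizer_le_normalizer _))
  have hVA : ⁅V, A⁆ ≤ u := commutator_sup_le hu.ge h.le (le_sup_left.trans hAu) (le_sup_right.trans hAu)
  have hTA : T < A := lt_of_le_of_ne le_sup_left fun he =>
    hne (eq_of_le_of_card_ge ((le_sup_right : S ≤ A).trans he.ge) (by rw [hT.card, hS.card]))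
  have hF : coreIn p H ≤ normalizer (u : Set G) := by
    refine CfsgLib.Signalizer.le_of_forall_relIndex_eq hA (ne_bot_of_gt hTA)
      ((Fact.out : p.Prime).coprime_iff_not_dvd.1 coprime_card_coreIn.symm)
      (hAH.trans le_normalizer_coreIn) fun B hB hidx => ?_
    have hBne : B ≠ ⊥ := by
      rintro rfl
      rw [relIndex_bot_left, ← hT.card] at hidx
      exact hTA.ne (eq_of_le_of_card_ge hTA.le hidx.le)
    have hVB : ⁅V, B⁆ = u := by
      refine eq_of_le_of_card_ge ((commutator_mono le_rfl hB).trans hVA) ?_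
      rw [hs.card_commutator hT]
      have hle : ⁅V, B⁆ ≤ V := commutator_le_of_le_normalizer ((hB.trans hAH).trans hs.norm)
      obtain ⟨k, hk⟩ := IsPGroup.iff_card.1 ((isPGroup_of_isElementaryAbelian hs.elem).to_le hle)
      rw [hk]
      refine Nat.le_self_pow (fun hk0 => ?_) p
      rw [hk0, pow_zero, card_eq_one] at hk
      exact hBne (hs.le_of_commutator_eq_bot (hB.trans hAH) hk)
    rw [← hVB]
    exact fun y hy => mem_normalizer_commutator (hs.norm (coreIn_le hy.1))
      (centralizer_le_normalizer _ hy.2)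
  obtain ⟨x, hx, hxT⟩ := hs.exists_conj_ne hT
  refine hs.point_not_le hT hx hxT ?_
  rw [hs.commutator_cjg (coreIn_le hx), cjg_eq_self (hF hx)]
  exact huT

theorem point_inf_fixed {T : Subgroup G} (hT : IsTV p V H T) {x : G} (hx : x ∈ coreIn p H)
    (hne : cjg x T ≠ T) :
    ⁅V, cjg x T⁆ ⊓ (V ⊓ centralizer (T : Set G)) = ⊥ ∧
      ⁅V, T⁆ ⊓ (V ⊓ centralizer (cjg x T : Set G)) = ⊥ := by
  have hT' := hs.isTV_cjg hT (coreIn_le hx)
  refine ⟨(eq_or_inf_eq_bot (hs.card_commutator hT')).resolve_left fun h =>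
    hs.point_not_le hT hx hne (h.trans inf_le_right),
    (eq_or_inf_eq_bot (hs.card_commutator hT)).resolve_left fun h => ?_⟩
  refine hs.point_not_le hT' (inv_mem hx) ?_ ?_
  · rw [cjg_cjg, inv_mul_cancel, cjg_one]
    exact Ne.symm hne
  · rw [cjg_cjg, inv_mul_cancel, cjg_one]
    exact h.trans inf_le_right

/-- The plane of two conjugate transvection subgroups. -/
theorem plane {T : Subgroup G} (hT : IsTV p V H T) {x : G} (hx : x ∈ coreIn p H)
    (hne : cjg x T ≠ T) :
    Nat.card ↥(⁅V, T⁆ ⊔ ⁅V, cjg x T⁆) = p ^ 2 ∧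
      (⁅V, T⁆ ⊔ ⁅V, cjg x T⁆) ⊓ (V ⊓ centralizer ((T ⊔ cjg x T : Subgroup G) : Set G)) = ⊥ ∧
      (⁅V, T⁆ ⊔ ⁅V, cjg x T⁆) ⊔ (V ⊓ centralizer ((T ⊔ cjg x T : Subgroup G) : Set G)) = V ∧
      ⁅V, T ⊔ cjg x T⁆ = ⁅V, T⁆ ⊔ ⁅V, cjg x T⁆ := by
  set T' := cjg x T
  have hT' := hs.isTV_cjg hT (coreIn_le hx)
  obtain ⟨h1, h2⟩ := hs.point_inf_fixed hT hx hne
  set u := ⁅V, T⁆
  set u' := ⁅V, T'⁆
  set W := u ⊔ u'
  have huf := hs.commutator_le_fixed hT
  have hu'f := hs.commutator_le_fixed hT'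
  have huV : u ≤ V := huf.trans inf_le_left
  have hu'V : u' ≤ V := hu'f.trans inf_le_left
  have hVn : ∀ {X Y : Subgroup G}, X ≤ V → Y ≤ V → X ≤ normalizer (Y : Set G) := fun {X Y} hX hY =>
    hX.trans ((le_centralizer_iff_isMulCommutative.2 hs.elem.1).trans
      ((centralizer_le hY).trans (centralizer_le_normalizer _)))
  have hWc : Nat.card W = p ^ 2 := by
    have h3 := card_sup_mul_card_inf (A := u) (B := u') (hVn huV hu'V)
    rw [show u ⊓ u' = ⊥ from le_bot_iff.1 ((inf_le_inf_left u hu'f).trans h2.le), Subgroup.card_bot,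
      mul_one, hs.card_commutator hT, hs.card_commutator hT'] at h3
    rw [h3, sq]
  have hC : V ⊓ centralizer ((T ⊔ T' : Subgroup G) : Set G) =
      (V ⊓ centralizer (T : Set G)) ⊓ (V ⊓ centralizer (T' : Set G)) := by
    refine le_antisymm (le_inf (inf_centralizer_mono V le_sup_left)
      (inf_centralizer_mono V le_sup_right)) ?_
    rintro z ⟨⟨hzV, hz⟩, -, hz'⟩
    refine ⟨hzV, ?_⟩
    show z ∈ centralizer ((T ⊔ T' : Subgroup G) : Set G)
    rw [← zpowers_le, le_centralizer_iff]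
    exact sup_le (le_centralizer_iff.1 (zpowers_le.2 hz)) (le_centralizer_iff.1 (zpowers_le.2 hz'))
  have hinf : W ⊓ (V ⊓ centralizer ((T ⊔ T' : Subgroup G) : Set G)) = ⊥ := by
    rw [hC, eq_bot_iff]
    rintro z ⟨hzW, hz, hz'⟩
    obtain ⟨v, hv, v', hv', rfl⟩ := CfsgLib.Coprime.exists_mul_of_mem_sup (hVn hu'V huV) hzW
    have hv'1 : v' ∈ u' ⊓ (V ⊓ centralizer (T : Set G)) := by
      refine ⟨hv', ?_⟩
      have := mul_mem (inv_mem (huf hv)) hz
      rwa [inv_mul_cancel_left] at this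
    rw [h1, mem_bot] at hv'1
    have hv1 : v ∈ u ⊓ (V ⊓ centralizer (T' : Set G)) := ⟨hv, by rwa [hv'1, mul_one] at hz'⟩
    rw [h2, mem_bot] at hv1
    rw [hv1, hv'1, mul_one]
    exact one_mem _
  refine ⟨hWc, hinf, ?_, ?_⟩
  · refine eq_of_le_of_card_ge (sup_le (sup_le huV hu'V) inf_le_left) ?_
    have h3 := card_sup_mul_card_inf (A := W)
      (hVn (sup_le huV hu'V) (inf_le_left : V ⊓ centralizer ((T ⊔ T' : Subgroup G) : Set G) ≤ V))
    rw [hinf, Subgroup.card_bot, mul_one, hWc] at h3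
    rw [h3, hC]
    have h4 := card_mul_relIndex (inf_le_left.trans inf_le_left :
      (V ⊓ centralizer (T : Set G)) ⊓ (V ⊓ centralizer (T' : Set G)) ≤ V)
    have h5 : ((V ⊓ centralizer (T : Set G)) ⊓ (V ⊓ centralizer (T' : Set G))).relIndex V ≤ p ^ 2 := by
      rw [sq]
      exact relIndex_inf_le.trans (by rw [hT.index, hT'.index])
    rw [← h4, mul_comm (p ^ 2)]
    exact Nat.mul_le_mul_left _ h5
  · refine le_antisymm ?_ (sup_le (commutator_mono le_rfl le_sup_left)
      (commutator_mono le_rfl le_sup_right))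
    refine commutator_sup_le le_sup_left le_sup_right ?_ ?_ <;>
      rw [le_normalizer_iff_commutator_le_left]
    · exact (commutator_mono (sup_le huV hu'V) le_rfl).trans le_sup_left
    · exact (commutator_mono (sup_le huV hu'V) le_rfl).trans le_sup_right

/-- Every line of the plane is the point of a conjugate. -/
theorem exists_point {T : Subgroup G} (hT : IsTV p V H T) {x : G} (hx : x ∈ coreIn p H)
    (hne : cjg x T ≠ T) {l : Subgroup G} (hl : l ≤ ⁅V, T⁆ ⊔ ⁅V, cjg x T⁆) (hlc : Nat.card l = p) :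
    ∃ z ∈ coreIn p H, cjg z T ≤ T ⊔ cjg x T ∧ ⁅V, cjg z T⁆ = l := by
  set T' := cjg x T
  have hT' := hs.isTV_cjg hT (coreIn_le hx)
  obtain ⟨h1, h2⟩ := hs.point_inf_fixed hT hx hne
  set u := ⁅V, T⁆
  set u' := ⁅V, T'⁆
  by_cases hlu : l ≤ u
  · refine ⟨1, one_mem _, by rw [cjg_one]; exact le_sup_left, ?_⟩
    rw [cjg_one]
    exact (eq_of_le_of_card_ge hlu (by rw [hs.card_commutator hT, hlc])).symm
  obtain ⟨w, hw, hwu⟩ := SetLike.not_le_iff_exists.1 hlu
  have huV : u ≤ V := (hs.commutator_le_fixed hT).trans inf_le_left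
  have hu'V : u' ≤ V := (hs.commutator_le_fixed hT').trans inf_le_left
  obtain ⟨v, hv, v', hv', hvw⟩ := CfsgLib.Coprime.exists_mul_of_mem_sup
    (hu'V.trans ((le_centralizer_iff_isMulCommutative.2 hs.elem.1).trans
      ((centralizer_le huV).trans (centralizer_le_normalizer _)))) (hl hw)
  have hv'1 : v' ≠ 1 := by
    intro h
    rw [h, mul_one] at hvw
    exact hwu (hvw ▸ hv)
  obtain ⟨a, haT, ha1, hTa, hao⟩ := exists_generator hT.card
  have haN : a ∈ normalizer (V : Set G) := hs.norm (hT.le haT)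
  set c := a * v' * a⁻¹ * v'⁻¹ with hc
  have hcu : c ∈ u := by
    have h3 : ⁅v', a⁆⁻¹ ∈ u := inv_mem (commutator_mem_commutator (hu'V hv') haT)
    rwa [commutatorElement_inv, commutatorElement_def] at h3
  have hc1 : c ≠ 1 := by
    intro h
    have h3 : v' ∈ u' ⊓ (V ⊓ centralizer (T : Set G)) := by
      refine ⟨hv', hu'V hv', ?_⟩
      rw [hTa]
      intro b hb
      obtain ⟨n, rfl⟩ := mem_zpowers_iff.1 hb
      rw [hc, mul_inv_eq_one, mul_inv_eq_iff_eq_mul] at h
      exact (Commute.zpow_left (show Commute a v' from h) n).eq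
    rw [h1, mem_bot] at h3
    exact hv'1 h3
  have hzp : zpowers c = u := by
    refine eq_of_le_of_card_ge (zpowers_le.2 hcu) ?_
    rw [hs.card_commutator hT, Nat.card_zpowers,
      orderOf_eq_prime (hs.elem.2 c (huV hcu)) hc1]
  obtain ⟨i, hi⟩ := (Submonoid.mem_powers_iff v c).1
    ((isOfFinOrder_of_finite c).mem_powers_iff_mem_zpowers.2 (hzp.ge hv))
  have hfix : a * c * a⁻¹ = c := by
    rw [((hs.commutator_le_fixed hT) hcu).2 a haT, mul_inv_cancel_right]
  have hpow : ∀ n : ℕ, a ^ n * v' * (a ^ n)⁻¹ = c ^ n * v' := by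
    intro n
    induction n with
    | zero => simp
    | succ n ih =>
      rw [pow_succ' a, mul_inv_rev, show a * a ^ n * v' * ((a ^ n)⁻¹ * a⁻¹) =
        a * (a ^ n * v' * (a ^ n)⁻¹) * a⁻¹ by group, ih,
        show a * (c ^ n * v') * a⁻¹ = (a * c * a⁻¹) ^ n * (a * v' * a⁻¹) by
          rw [conj_pow]; group,
        hfix, show a * v' * a⁻¹ = c * v' by rw [hc]; group, ← mul_assoc, ← pow_succ]
  have haF : a ^ i * x * (a ^ i)⁻¹ ∈ coreIn p H :=
    (mem_normalizer_iff.1 (le_normalizer_coreIn (pow_mem (hT.le haT) i)) x).1 hx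
  have heq : cjg (a ^ i * x * (a ^ i)⁻¹) T = cjg (a ^ i) T' := by
    rw [mul_assoc, ← cjg_cjg, ← cjg_cjg, cjg_eq_self (le_normalizer (inv_mem (pow_mem haT i)))]
  refine ⟨_, haF, ?_, ?_⟩
  · rw [heq]
    rintro _ ⟨t, ht, rfl⟩
    exact mul_mem (mul_mem ((le_sup_left : T ≤ T ⊔ T') (pow_mem haT i))
      ((le_sup_right : T' ≤ T ⊔ T') ht)) ((le_sup_left : T ≤ T ⊔ T') (inv_mem (pow_mem haT i)))
  · rw [heq, hs.commutator_cjg (pow_mem (hT.le haT) i)]
    have hl1 : Nat.card (cjg (a ^ i) u') = p := by rw [card_cjg]; exact hs.card_commutator hT'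
    have hmem : w ∈ cjg (a ^ i) u' := ⟨v', hv', by
      show a ^ i * v' * (a ^ i)⁻¹ = w
      rw [hpow, hi, hvw]⟩
    rcases eq_or_inf_eq_bot (X := l) hl1 with h3 | h3
    · exact eq_of_le_of_card_ge h3 (by rw [hl1, hlc])
    · have hw1 : w ∈ cjg (a ^ i) u' ⊓ l := ⟨hmem, hw⟩
      rw [h3, mem_bot] at hw1
      exact absurd (hw1 ▸ one_mem u) hwu

/-- The plane meets every hyperplane fixed by a transvection subgroup in the point of a conjugate. -/
theorem exists_point_fixed {T : Subgroup G} (hT : IsTV p V H T) {x : G} (hx : x ∈ coreIn p H)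
    (hne : cjg x T ≠ T) {S : Subgroup G} (hS : IsTV p V H S) :
    ∃ z ∈ coreIn p H, cjg z T ≤ T ⊔ cjg x T ∧
      ⁅V, cjg z T⁆ ≤ V ⊓ centralizer (S : Set G) := by
  set W := ⁅V, T⁆ ⊔ ⁅V, cjg x T⁆
  set h := V ⊓ centralizer (S : Set G)
  have hWV : W ≤ V := sup_le ((hs.commutator_le_fixed hT).trans inf_le_left)
    ((hs.commutator_le_fixed (hs.isTV_cjg hT (coreIn_le hx))).trans inf_le_left)
  have hne' : W ⊓ h ≠ ⊥ := by
    intro hbot
    have h3 := card_sup_mul_card_inf (A := W) (B := h) (hWV.trans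
      ((le_centralizer_iff_isMulCommutative.2 hs.elem.1).trans
        ((centralizer_le inf_le_left).trans (centralizer_le_normalizer _))))
    rw [hbot, Subgroup.card_bot, mul_one, (hs.plane hT hx hne).1] at h3
    have h4 : Nat.card ↥(W ⊔ h) ≤ Nat.card V := card_le_of_le (sup_le hWV inf_le_left)
    rw [h3, ← card_mul_relIndex (inf_le_left : h ≤ V), hS.index, mul_comm] at h4
    have := Nat.le_of_mul_le_mul_left h4 Nat.card_pos
    exact absurd this (not_le.2 (lt_self_pow₀ (Fact.out : p.Prime).one_lt one_lt_two))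
  obtain ⟨w, hw, hw1⟩ := (Subgroup.ne_bot_iff_exists_ne_one.1 hne').elim fun w hw =>
    (⟨w.1, w.2, fun h => hw (Subtype.ext h)⟩ : ∃ w, w ∈ W ⊓ h ∧ w ≠ 1)
  obtain ⟨z, hz, hzle, hzl⟩ := hs.exists_point hT hx hne (l := zpowers w) (zpowers_le.2 hw.1)
    (by rw [Nat.card_zpowers]; exact orderOf_eq_prime (hs.elem.2 w hw.2.1) hw1)
  exact ⟨z, hz, hzle, hzl ▸ zpowers_le.2 hw.2⟩

omit [Finite G] [Fact p.Prime] in
theorem cjg_le_comp {T : Subgroup G} {y : G} (hy : y ∈ coreIn p H) :
    cjg y T ≤ comp p H T := by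
  rintro _ ⟨a, ha, rfl⟩
  show y * a * y⁻¹ ∈ _
  rw [show y * a * y⁻¹ = ⁅y, a⁆ * a by rw [commutatorElement_def]; group]
  exact mul_mem ((le_sup_left : ⁅coreIn p H, T⁆ ≤ comp p H T) (commutator_mem_commutator hy ha))
    ((le_sup_right : T ≤ comp p H T) ha)

omit [Finite G] [Fact p.Prime] in
theorem comp_le {T X : Subgroup G} (h : ∀ y ∈ coreIn p H, cjg y T ≤ X) : comp p H T ≤ X := by
  have hT : T ≤ X := cjg_one T ▸ h 1 (one_mem _)
  refine sup_le (commutator_le.2 fun y hy a ha => ?_) hT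
  rw [commutatorElement_def]
  exact mul_mem (h y hy ⟨a, ha, rfl⟩) (inv_mem (hT ha))

omit [Finite G] [Fact p.Prime] in
theorem comp_cjg {T : Subgroup G} {z : G} (hz : z ∈ coreIn p H) :
    comp p H (cjg z T) = comp p H T :=
  le_antisymm (hs.comp_le fun y hy => cjg_cjg y z T ▸ hs.cjg_le_comp (mul_mem hy hz))
    (hs.comp_le fun y hy => by
      have := hs.cjg_le_comp (T := cjg z T) (mul_mem hy (inv_mem hz))
      rwa [cjg_cjg, inv_mul_cancel_right] at this)

/-- Two distinct conjugates generate the component. -/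
theorem comp_eq_pair {T : Subgroup G} (hT : IsTV p V H T) {x : G} (hx : x ∈ coreIn p H)
    (hne : cjg x T ≠ T) : comp p H T = T ⊔ cjg x T := by
  refine le_antisymm (hs.comp_le fun y hy => ?_) (sup_le le_sup_right (hs.cjg_le_comp hx))
  obtain ⟨z, hz, hzle, hzf⟩ := hs.exists_point_fixed hT hx hne (hs.isTV_cjg hT (coreIn_le hy))
  by_cases heq : cjg z T = cjg y T
  · exact heq ▸ hzle
  exfalso
  refine hs.point_not_le (hs.isTV_cjg hT (coreIn_le hy)) (mul_mem hz (inv_mem hy)) ?_ ?_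
  · rwa [cjg_cjg, inv_mul_cancel_right]
  · rw [cjg_cjg, inv_mul_cancel_right]
    exact hzf.trans inf_le_right

/-- Every transvection subgroup normalizes every component. -/
theorem le_normalizer_comp {T S : Subgroup G} (hT : IsTV p V H T) (hS : IsTV p V H S) :
    S ≤ normalizer (comp p H T : Set G) := by
  obtain ⟨x, hx, hne⟩ := hs.exists_conj_ne hT
  obtain ⟨z, hz, -, hzf⟩ := hs.exists_point_fixed hT hx hne hS
  have hTi := hs.isTV_cjg hT (coreIn_le hz)
  intro s hsS
  rw [← hs.comp_cjg hz]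
  have hN : s ∈ normalizer (cjg z T : Set G) := by
    refine mem_normalizer_iff_map_conj_eq.2 (hs.eq_of_point_eq hTi (hs.isTV_cjg hTi (hS.le hsS)) ?_)
    show ⁅V, cjg s (cjg z T)⁆ = _
    rw [hs.commutator_cjg (hS.le hsS)]
    exact cjg_eq_self (centralizer_le_normalizer _
      (le_centralizer_iff.1 (hzf.trans inf_le_right) hsS))
  exact mem_normalizer_sup (mem_normalizer_commutator (le_normalizer_coreIn (hS.le hsS)) hN) hN

/-- A transvection subgroup lies in a component or centralizes its plane. -/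
theorem le_comp_or_le_centralizer {T S : Subgroup G} (hT : IsTV p V H T) (hS : IsTV p V H S) :
    S ≤ comp p H T ∨ S ≤ centralizer ((⁅V, comp p H T⁆ : Subgroup G) : Set G) := by
  obtain ⟨x, hx, hne⟩ := hs.exists_conj_ne hT
  have hE := hs.comp_eq_pair hT hx hne
  have hSW : S ≤ normalizer ((⁅V, comp p H T⁆ : Subgroup G) : Set G) := fun s hs' =>
    mem_normalizer_commutator (hs.norm (hS.le hs')) (hs.le_normalizer_comp hT hS hs')
  set W := ⁅V, comp p H T⁆ with hW
  have hWV : W ≤ V := by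
    refine commutator_le_of_le_normalizer (le_trans ?_ hs.norm)
    rw [hE]
    exact sup_le hT.le (hs.isTV_cjg hT (coreIn_le hx)).le
  by_cases hc : ⁅W, S⁆ = ⊥
  · exact Or.inr (le_centralizer_iff.1 (commutator_eq_bot_iff_le_centralizer.1 hc))
  left
  have hle : ⁅V, S⁆ ≤ W := by
    rcases eq_or_inf_eq_bot (X := W) (hs.card_commutator hS) with h | h
    · exact h
    · exact absurd (le_bot_iff.1 (h ▸ le_inf (commutator_mono hWV le_rfl)
        (le_normalizer_iff_commutator_le_left.1 hSW))) hc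
  rw [hW, hE, (hs.plane hT hx hne).2.2.2] at hle
  obtain ⟨z, hz, hzle, hzl⟩ := hs.exists_point hT hx hne hle (hs.card_commutator hS)
  rw [hs.eq_of_point_eq (hs.isTV_cjg hT (coreIn_le hz)) hS hzl.symm, hE]
  exact hzle

end Setup

end CfsgLib.PLocal.Offender
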