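/-
Two conjugate transvection subgroups generate `SL(2, p)`, `p = 2` or `3` (Kurzweil–Stellmacher 9.3).
-/
import Cfsg.Agent.PLocal.OffenderPair
import Cfsg.Agent.PLocal.SL2Section
import Cfsg.Agent.FusionEssential.Aut
import Cfsg.Agent.Linear.Basic
set_option autoImplicit false

namespace CfsgLib.PLocal.Offender

open Cfsg Subgroup
open scoped commutatorElement MatrixGroups

variable {G : Type*} [Group G] {p : ℕ} [Fact p.Prime]

/-- Coordinates of a plane with respect to two generators. -/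
theorem exists_coordinates [Finite G] {W : Subgroup G} {h : Fin 2 → G} (hW : ∀ i, h i ∈ W)
    (hcard : Nat.card W = p ^ 2) (hcomm : Commute (h 0) (h 1)) (hord : ∀ i, orderOf (h i) = p)
    (hinf : zpowers (h 0) ⊓ zpowers (h 1) = ⊥) :
    ∃ f : W ≃* Multiplicative (Fin 2 → ZMod p), ∀ (i : Fin 2) (c : ZMod p),
      (f.symm (Multiplicative.ofAdd (Pi.single i c)) : G) = h i ^ c.val := by
  have hpp : ∀ i, h i ^ p = 1 := fun i => hord i ▸ pow_orderOf_eq_one _
  have hmod : ∀ i (a b : ZMod p), h i ^ (a + b).val = h i ^ a.val * h i ^ b.val := fun i a b => by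
    rw [ZMod.val_add, ← pow_add, ← pow_eq_pow_mod _ (hpp i)]
  let θ : Multiplicative (Fin 2 → ZMod p) →* W := MonoidHom.mk'
    (fun v => ⟨h 0 ^ (v.toAdd 0).val * h 1 ^ (v.toAdd 1).val,
      mul_mem (pow_mem (hW 0) _) (pow_mem (hW 1) _)⟩) fun v w => by
      apply Subtype.ext
      show h 0 ^ (v.toAdd 0 + w.toAdd 0).val * h 1 ^ (v.toAdd 1 + w.toAdd 1).val =
        h 0 ^ (v.toAdd 0).val * h 1 ^ (v.toAdd 1).val * (h 0 ^ (w.toAdd 0).val * h 1 ^ (w.toAdd 1).val)
      rw [hmod, hmod]
      exact (hcomm.pow_pow _ _).mul_mul_mul_comm _ _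
  have hinj : Function.Injective θ := by
    rw [injective_iff_map_eq_one]
    intro v hv
    have hv' : h 0 ^ (v.toAdd 0).val * h 1 ^ (v.toAdd 1).val = 1 := congrArg Subtype.val hv
    have h0 : h 0 ^ (v.toAdd 0).val = 1 := by
      rw [← mem_bot (G := G), ← hinf]
      refine ⟨pow_mem (mem_zpowers _) _, ?_⟩
      rw [eq_inv_of_mul_eq_one_left hv']
      exact (zpowers (h 1)).inv_mem (pow_mem (mem_zpowers _) _)
    have h1 : h 1 ^ (v.toAdd 1).val = 1 := by rwa [h0, one_mul] at hv'
    refine Multiplicative.toAdd.injective (funext fun i => ?_)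
    have key : ∀ (a : ZMod p) (j : Fin 2), h j ^ a.val = 1 → a = 0 := fun a j ha => by
      rw [← ZMod.val_eq_zero]
      have hd := orderOf_dvd_of_pow_eq_one ha
      rw [hord j] at hd
      exact Nat.eq_zero_of_dvd_of_lt hd a.val_lt
    fin_cases i
    · exact key _ 0 h0
    · exact key _ 1 h1
  have hbij : Function.Bijective θ := by
    refine (Nat.bijective_iff_injective_and_card θ).2 ⟨hinj, ?_⟩
    rw [hcard, Nat.card_congr Multiplicative.toAdd, Nat.card_fun, Nat.card_zmod, Nat.card_fin]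
  refine ⟨(MulEquiv.ofBijective θ hbij).symm, fun i c => ?_⟩
  rw [MulEquiv.symm_symm]
  show (θ (Multiplicative.ofAdd (Pi.single i c)) : G) = _
  show h 0 ^ ((Pi.single i c : Fin 2 → ZMod p) 0).val * h 1 ^ ((Pi.single i c : Fin 2 → ZMod p) 1).val = _
  fin_cases i <;> simp

/-- A group acting faithfully on a plane, generated by two nontrivial transvection groups. -/
theorem nonempty_mulEquiv_sl2 [Finite G] {E W : Subgroup G} {X : Fin 2 → Subgroup G} {h : Fin 2 → G}
    (hE : X 0 ⊔ X 1 = E) (hEW : E ≤ normalizer (W : Set G))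
    (hf : E ⊓ centralizer (W : Set G) = ⊥) (hW : ∀ i, h i ∈ W) (hcard : Nat.card W = p ^ 2)
    (hcomm : Commute (h 0) (h 1)) (hord : ∀ i, orderOf (h i) = p)
    (hinf : zpowers (h 0) ⊓ zpowers (h 1) = ⊥)
    (hfix : ∀ i, ∀ b ∈ X i, b * h i = h i * b)
    (hmove : ∀ i j, i ≠ j → ∀ b ∈ X i, b * h j * b⁻¹ * (h j)⁻¹ ∈ zpowers (h i))
    (hne : ∀ i j, i ≠ j → ∃ b ∈ X i, b * h j ≠ h j * b) :
    Nonempty (E ≃* SL(2, ZMod p)) := by
  obtain ⟨f, hfs⟩ := exists_coordinates hW hcard hcomm hord hinf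
  have hXE : ∀ i, X i ≤ E := fun i => by
    fin_cases i
    · exact hE ▸ le_sup_left
    · exact hE ▸ le_sup_right
  set M : E →* Matrix (Fin 2) (Fin 2) (ZMod p) :=
    (CfsgLib.FusionEssential.autMatrix f).comp (W.normalizerMonoidHom.comp (inclusion hEW))
    with hMdef
  have hMv : ∀ (b : E) (v : Fin 2 → ZMod p) (w : W), f w = Multiplicative.ofAdd v →
      ∀ w' : W, (b : G) * w * (b : G)⁻¹ = w' → (M b).mulVec v = (f w').toAdd := by
    intro b v w hw w' hw'
    rw [hMdef, MonoidHom.comp_apply, CfsgLib.FusionEssential.autMatrix_mulVec, ← hw,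
      MulEquiv.symm_apply_apply]
    exact congrArg (fun z => (f z).toAdd) (Subtype.ext hw')
  have h1 : ∀ i, f ⟨h i, hW i⟩ = Multiplicative.ofAdd (Pi.single i 1) := fun i => by
    rw [← MulEquiv.eq_symm_apply]
    apply Subtype.ext
    rw [hfs, ZMod.val_one, pow_one]
  have key : ∀ (i j : Fin 2) (hij : i ≠ j) (b : E), (b : G) ∈ X i → ∃ c : ZMod p,
      M b = (Matrix.SpecialLinearGroup.transvection hij c).1 ∧
        (c = 0 → (b : G) * h j = h j * (b : G)) := by
    intro i j hij b hb
    obtain ⟨n, hn⟩ := (Submonoid.mem_powers_iff _ _).1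
      ((isOfFinOrder_of_finite (h i)).mem_powers_iff_mem_zpowers.2 (hmove i j hij _ hb))
    have hn' : (b : G) * h j * (b : G)⁻¹ = h i ^ n * h j := by rw [hn]; group
    have hpn : h i ^ (n : ZMod p).val = h i ^ n := by
      rw [ZMod.val_natCast, ← pow_eq_pow_mod _ (hord i ▸ pow_orderOf_eq_one _)]
    refine ⟨n, ?_, fun hc => ?_⟩
    swap
    · rw [← hpn, hc, ZMod.val_zero, pow_zero, one_mul, mul_inv_eq_iff_eq_mul] at hn'
      exact hn'
    refine Matrix.ext_of_mulVec_single fun k => funext fun l => ?_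
    rw [CfsgLib.Linear.transvection_smul_apply]
    obtain rfl | rfl : k = i ∨ k = j := by omega
    · rw [hMv b _ ⟨h k, hW k⟩ (h1 k) ⟨h k, hW k⟩
        (by show (b : G) * h k * (b : G)⁻¹ = h k; rw [hfix k _ hb, mul_inv_cancel_right]), h1,
        toAdd_ofAdd]
      simp [Pi.single_apply, hij]
    · rw [hMv b _ ⟨h k, hW k⟩ (h1 k) (f.symm (Multiplicative.ofAdd (Pi.single i (n : ZMod p))) *
        ⟨h k, hW k⟩) (by rw [Subgroup.coe_mul, hfs, hpn]; exact hn'), map_mul,
        MulEquiv.apply_symm_apply, h1, toAdd_mul, toAdd_ofAdd, toAdd_ofAdd, Pi.add_apply, add_comm]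
      simp [Pi.single_apply]
  have hdet : ∀ b, (M b).det = 1 := by
    intro b
    have htop : (⊤ : Subgroup E) ≤ (Matrix.detMonoidHom.comp M).ker := by
      rw [show (⊤ : Subgroup E) = (X 0).subgroupOf E ⊔ (X 1).subgroupOf E by
        rw [← subgroupOf_sup (hXE 0) (hXE 1), hE, subgroupOf_self], sup_le_iff]
      have hall : ∀ (i j : Fin 2), i ≠ j → (X i).subgroupOf E ≤ (Matrix.detMonoidHom.comp M).ker := by
        intro i j hij b hb
        obtain ⟨c, hc, -⟩ := key i j hij b hb
        rw [MonoidHom.mem_ker, MonoidHom.comp_apply, hc]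
        exact (Matrix.SpecialLinearGroup.transvection hij c).2
      exact ⟨hall 0 1 (by decide), hall 1 0 (by decide)⟩
    exact htop (mem_top b)
  set S : E →* SL(2, ZMod p) := MonoidHom.mk' (fun b => ⟨M b, hdet b⟩)
    (fun a b => Subtype.ext (map_mul M a b)) with hSdef
  have hinj : Function.Injective S := by
    rw [injective_iff_map_eq_one]
    intro b hb
    have hM : M b = 1 := congrArg Subtype.val hb
    have h3 : W.normalizerMonoidHom (inclusion hEW b) = 1 := by
      apply CfsgLib.FusionEssential.autMatrix_injective f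
      rw [map_one]
      exact hM
    rw [← MonoidHom.mem_ker, normalizerMonoidHom_ker] at h3
    have h4 : (b : G) ∈ E ⊓ centralizer (W : Set G) := ⟨b.2, h3⟩
    rw [hf, mem_bot] at h4
    exact Subtype.ext h4
  have hrange : S.range = ⊤ := by
    refine CfsgLib.Linear.sl_eq_top_of_transvections fun i j hij c => ?_
    obtain ⟨b, hb, hbne⟩ := hne i j hij
    obtain ⟨c₀, hc₀, hzero⟩ := key i j hij ⟨b, hXE i hb⟩ hb
    have hc0 : c₀ ≠ 0 := fun h => hbne (hzero h)
    have hpow : ∀ n : ℕ, (Matrix.SpecialLinearGroup.transvection hij c₀) ^ n =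
        Matrix.SpecialLinearGroup.transvection hij ((n : ZMod p) * c₀) := by
      intro n
      induction n with
      | zero => simp [Matrix.SpecialLinearGroup.transvection_coeff_zero]
      | succ n ih =>
        rw [pow_succ, ih]
        apply Subtype.ext
        rw [Matrix.SpecialLinearGroup.coe_mul, Matrix.SpecialLinearGroup.transvection]
        show Matrix.transvection i j _ * Matrix.transvection i j c₀ = Matrix.transvection i j _
        rw [Matrix.transvection_mul_transvection_same _ _ hij]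
        congr 1; push_cast; ring
    refine ⟨⟨b, hXE i hb⟩ ^ (c / c₀).val, ?_⟩
    rw [map_pow, show S ⟨b, hXE i hb⟩ = Matrix.SpecialLinearGroup.transvection hij c₀ from
      Subtype.ext hc₀, hpow, ZMod.natCast_zmod_val, div_mul_cancel₀ c hc0]
  exact ⟨MulEquiv.ofBijective S ⟨hinj, MonoidHom.range_eq_top.1 hrange⟩⟩

/-- `SL(2, p)` is perfect for `p ≥ 5`. -/
theorem commutator_sl2_eq_top (hp : 5 ≤ p) : commutator SL(2, ZMod p) = ⊤ := by
  have hne : (2 : ZMod p) ≠ 0 ∧ (2 : ZMod p) ^ 2 ≠ 1 := by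
    constructor
    · intro h
      have h' : ((2 : ℕ) : ZMod p) = 0 := by simpa using h
      rw [ZMod.natCast_eq_zero_iff] at h'
      have := Nat.le_of_dvd two_pos h'
      omega
    · intro h
      have h' : ((3 : ℕ) : ZMod p) = 0 := by push_cast; linear_combination h
      rw [ZMod.natCast_eq_zero_iff] at h'
      have := Nat.le_of_dvd (by norm_num) h'
      omega
  exact CfsgLib.Linear.sl_eq_top_of_transvections fun i j hij c =>
    Matrix.transvection_mem_commutator hne.1 hne.2 hij c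

theorem cjg_ne_of_not_mem_centralizer [Finite G] {V H T : Subgroup G} (hs : Setup p V H)
    (hT : IsTV p V H T) {x : G} (hx : x ∈ coreIn p H) (hxT : x ∉ centralizer (T : Set G)) :
    cjg x T ≠ T := by
  intro heq
  refine hxT fun a ha => ?_
  have h1 : ⁅x, a⁆ ∈ T ⊓ coreIn p H := by
    refine ⟨?_, hs.conj_commutator_mem (hT.le ha) hx⟩
    rw [commutatorElement_def]
    exact T.mul_mem (heq.le ⟨a, ha, rfl⟩) (T.inv_mem ha)
  rw [disjoint_of_isPGroup_of_coprime (hs.isPGroup_tv hT) coprime_card_coreIn, mem_bot,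
    commutatorElement_eq_one_iff_mul_comm] at h1
  exact h1.symm

namespace Setup

variable [Finite G] {V H : Subgroup G} (hs : Setup p V H)
include hs

theorem comp_le_self {T : Subgroup G} (hT : IsTV p V H T) : comp p H T ≤ H :=
  hs.comp_le fun _ hy => (hs.isTV_cjg hT (coreIn_le hy)).le

theorem commutator_core_le {T : Subgroup G} (hT : IsTV p V H T) :
    ⁅coreIn p H, T⁆ ≤ coreIn p H :=
  commutator_le.2 fun _ hc _ hy => hs.conj_commutator_mem (hT.le hy) hc

theorem inf_centralizer_plane {T : Subgroup G} (hT : IsTV p V H T) :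
    comp p H T ⊓ centralizer ((⁅V, comp p H T⁆ : Subgroup G) : Set G) = ⊥ := by
  obtain ⟨x, hx, hne⟩ := hs.exists_conj_ne hT
  have hE := hs.comp_eq_pair hT hx hne
  obtain ⟨-, -, hsup, hVE⟩ := hs.plane hT hx hne
  rw [hE, hVE, eq_bot_iff, ← hs.faithful]
  refine le_inf (inf_le_left.trans (sup_le hT.le (hs.isTV_cjg hT (coreIn_le hx)).le)) ?_
  rw [le_centralizer_iff]
  refine hsup.ge.trans (sup_le ?_ ?_) <;> rw [le_centralizer_iff]
  · exact inf_le_right
  · exact inf_le_left.trans (le_centralizer_iff.1 inf_le_right)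

/-- The component is `SL(2, p)`. -/
theorem nonempty_comp_equiv {T : Subgroup G} (hT : IsTV p V H T) :
    Nonempty (comp p H T ≃* SL(2, ZMod p)) := by
  obtain ⟨x, hx, hne⟩ := hs.exists_conj_ne hT
  have hE := hs.comp_eq_pair hT hx hne
  have hf := hs.inf_centralizer_plane hT
  obtain ⟨hc, -, -, hVE⟩ := hs.plane hT hx hne
  obtain ⟨hi1, hi2⟩ := hs.point_inf_fixed hT hx hne
  have hEN : comp p H T ≤ normalizer ((⁅V, comp p H T⁆ : Subgroup G) : Set G) := fun e he =>
    mem_normalizer_commutator (hs.norm (hs.comp_le_self hT he)) (le_normalizer he)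
  rw [hE] at hf hEN ⊢
  rw [hVE] at hf hEN
  set X : Fin 2 → Subgroup G := ![T, cjg x T] with hX
  have hXT : ∀ i, IsTV p V H (X i) := fun i => by
    fin_cases i
    · exact hT
    · exact hs.isTV_cjg hT (coreIn_le hx)
  choose h hh hh1 hhz hho using fun i => exists_generator (hs.card_commutator (hXT i))
  have hfix := fun i => hs.commutator_le_fixed (hXT i)
  have hhV : ∀ i, h i ∈ V := fun i => ((hfix i) (hh i)).1
  refine nonempty_mulEquiv_sl2 (X := X) (h := h) rfl hEN hf (fun i => ?_) hc ?_ hho ?_ ?_ ?_ ?_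
  · have := hh i
    fin_cases i
    · exact (le_sup_left : ⁅V, T⁆ ≤ ⁅V, T⁆ ⊔ ⁅V, cjg x T⁆) this
    · exact (le_sup_right : ⁅V, cjg x T⁆ ≤ ⁅V, T⁆ ⊔ ⁅V, cjg x T⁆) this
  · exact comm_of_isMulCommutative hs.elem.1 (hhV 0) (hhV 1)
  · rw [← hhz 0, ← hhz 1]
    exact le_bot_iff.1 ((inf_le_inf_left _ (hfix 1)).trans hi2.le)
  · exact fun i b hb => (hfix i (hh i)).2 b hb
  · intro i j hij b hb
    rw [← hhz i, commutator_comm]
    exact commutatorElement_def b (h j) ▸ commutator_mem_commutator hb (hhV j)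
  · intro i j hij
    by_contra hno
    push Not at hno
    have h3 : h j ∈ ⁅V, X j⁆ ⊓ (V ⊓ centralizer (X i : Set G)) := ⟨hh j, hhV j, hno⟩
    have h4 : ⁅V, X j⁆ ⊓ (V ⊓ centralizer (X i : Set G)) = ⊥ := by
      fin_cases i <;> fin_cases j <;> first | exact absurd rfl hij | exact hi1 | exact hi2
    rw [h4, mem_bot] at h3
    exact hh1 j h3

theorem core_commutator_disjoint {T : Subgroup G} (hT : IsTV p V H T) :
    T ⊓ ⁅coreIn p H, T⁆ = ⊥ :=
  le_bot_iff.1 ((inf_le_inf_left T (hs.commutator_core_le hT)).trans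
    (disjoint_of_isPGroup_of_coprime (hs.isPGroup_tv hT) coprime_card_coreIn).le)

theorem le_normalizer_core_commutator {T : Subgroup G} (hT : IsTV p V H T) :
    comp p H T ≤ normalizer ((⁅coreIn p H, T⁆ : Subgroup G) : Set G) :=
  sup_le le_normalizer fun _ ha =>
    mem_normalizer_commutator (le_normalizer_coreIn (hT.le ha)) (le_normalizer ha)

/-- `p` is `2` or `3`. -/
theorem eq_two_or_three {T : Subgroup G} (hT : IsTV p V H T) : p = 2 ∨ p = 3 := by
  obtain ⟨e⟩ := hs.nonempty_comp_equiv hT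
  have hp := (Fact.out : p.Prime)
  by_contra hp23
  have hp5 : 5 ≤ p := by
    by_contra hlt
    have : p ≠ 4 := fun h => absurd (h ▸ hp) (by norm_num)
    have := hp.two_le
    omega
  set K := ⁅coreIn p H, T⁆
  set E := comp p H T
  have hKE : K ≤ E := le_sup_left
  haveI : (K.subgroupOf E).Normal :=
    (normal_subgroupOf_iff_le_normalizer hKE).2 (hs.le_normalizer_core_commutator hT)
  have hTE : T ≤ E := le_sup_right
  obtain ⟨a, -, -, hTa, -⟩ := exists_generator hT.card
  haveI : IsCyclic T := hTa ▸ inferInstance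
  have hTc : IsMulCommutative (T.subgroupOf E) :=
    ⟨⟨fun a b => (subgroupOfEquivOfLe hTE).injective (by
      rw [map_mul, map_mul]; exact IsCyclic.isMulCommutative.is_comm.comm _ _)⟩⟩
  have hle : commutator E ≤ K.subgroupOf E :=
    Normal.commutator_le_of_self_sup_commutative_eq_top
      (by rw [← subgroupOf_sup hKE hTE]; exact subgroupOf_self _) hTc
  have hperf : commutator E = ⊤ := by
    rw [_root_.commutator_def, ← map_top_of_surjective e.symm.toMonoidHom e.symm.surjective,
      ← map_commutator, ← _root_.commutator_def, commutator_sl2_eq_top hp5]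
  rw [hperf, top_le_iff, subgroupOf_eq_top] at hle
  have h1 := hs.core_commutator_disjoint hT
  rw [inf_eq_left.2 (hTE.trans hle)] at h1
  have h2 := hT.card
  rw [h1, Subgroup.card_bot] at h2
  exact hp.ne_one h2.symm

theorem card_core_commutator {T : Subgroup G} (hT : IsTV p V H T) :
    Nat.card ↥(⁅coreIn p H, T⁆) = p ^ 2 - 1 := by
  obtain ⟨e⟩ := hs.nonempty_comp_equiv hT
  have h1 := Nat.card_congr e.toEquiv
  rw [CfsgLib.Linear.card_SL_two, ZMod.card] at h1
  have h2 := card_sup_mul_card_inf (A := T) (B := ⁅coreIn p H, T⁆)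
    (le_sup_right.trans (hs.le_normalizer_core_commutator hT))
  rw [hs.core_commutator_disjoint hT, Subgroup.card_bot, mul_one, hT.card, sup_comm] at h2
  rw [show Nat.card ↥(⁅coreIn p H, T⁆ ⊔ T) = Nat.card (comp p H T) from rfl, h1] at h2
  exact (Nat.eq_of_mul_eq_mul_left (Fact.out : p.Prime).pos h2).symm

theorem not_commutative_core_commutator {T : Subgroup G} (hT : IsTV p V H T) (hp : p = 3) :
    ¬ IsMulCommutative ↥(⁅coreIn p H, T⁆) := by
  intro hcomm
  obtain ⟨e⟩ := hs.nonempty_comp_equiv hT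
  obtain ⟨i, j, hi, hj, -, hnc⟩ := exists_sl2_quaternion_pair (p := p) (by omega)
  set K := ⁅coreIn p H, T⁆
  set E := comp p H T
  have hKE : K ≤ E := le_sup_left
  haveI : (K.subgroupOf E).Normal :=
    (normal_subgroupOf_iff_le_normalizer hKE).2 (hs.le_normalizer_core_commutator hT)
  have hidx : (K.subgroupOf E).index = 3 := by
    have h1 := (K.subgroupOf E).card_mul_index
    rw [Nat.card_congr (subgroupOfEquivOfLe hKE).toEquiv, Nat.card_congr e.toEquiv,
      CfsgLib.Linear.card_SL_two, ZMod.card, hs.card_core_commutator hT] at h1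
    subst hp
    norm_num at h1
    omega
  have hmem : ∀ z : SL(2, ZMod p), z ^ 4 = 1 → (e.symm z : G) ∈ K := by
    intro z hz
    have h3 := (K.subgroupOf E).pow_mem ((K.subgroupOf E).pow_index_mem (e.symm z)) 3
    rw [hidx, ← pow_mul, show 3 * 3 = 4 * 2 + 1 from rfl, pow_succ, pow_mul,
      ← map_pow e.symm z 4, hz, map_one, one_pow, one_mul] at h3
    exact h3
  apply hnc
  apply e.symm.injective
  rw [map_mul, map_mul]
  exact Subtype.ext (comm_of_isMulCommutative hcomm (hmem i hi) (hmem j hj))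

end Setup

end CfsgLib.PLocal.Offender
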