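/-
The structure theorem for failure of factorization (Kurzweil–Stellmacher 9.3.8).
-/
import Cfsg.Agent.PLocal.OffenderSL2
set_option autoImplicit false

namespace CfsgLib.PLocal.Offender

open Cfsg Subgroup
open scoped commutatorElement MatrixGroups

variable {G : Type*} [Group G]

section Decomposition

variable {ι : Type*} {V : Subgroup G} {E : ι → Subgroup G}

/-- A family of summands, each complemented by the fixed points of its group, decomposes `V`. -/
theorem le_sup_of_decomposition [DecidableEq ι] (hV : IsMulCommutative V) {W : ι → Subgroup G}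
    (hsplit : ∀ i, W i ⊔ (V ⊓ centralizer (E i : Set G)) = V)
    (hcross : ∀ i j, i ≠ j → W i ≤ centralizer (E j : Set G)) (s : Finset ι) :
    V ≤ (V ⊓ s.inf fun j => centralizer (E j : Set G)) ⊔ s.sup W := by
  induction s using Finset.induction_on with
  | empty => simp
  | @insert a s has ih =>
    refine ih.trans (sup_le ?_ (le_sup_of_le_right (Finset.sup_mono (Finset.subset_insert a s))))
    intro c hc
    have hWV : W a ≤ V := hsplit a ▸ le_sup_left
    obtain ⟨w, hw, c', hc', rfl⟩ := CfsgLib.Coprime.exists_mul_of_mem_sup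
      (show V ⊓ centralizer (E a : Set G) ≤ normalizer (W a : Set G) from inf_le_left.trans
        ((le_centralizer_iff_isMulCommutative.2 hV).trans
          ((centralizer_le hWV).trans (centralizer_le_normalizer _))))
      ((hsplit a).ge hc.1)
    have hw' : w ∈ s.inf fun j => centralizer (E j : Set G) :=
      (Finset.le_inf fun j hj => hcross a j fun h => has (h ▸ hj) : W a ≤ _) hw
    refine mul_mem (mem_sup_right ((Finset.le_sup (f := W) (Finset.mem_insert_self a s)) hw))
      (mem_sup_left ⟨hc'.1, ?_⟩)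
    rw [Finset.inf_insert]
    refine ⟨hc'.2, ?_⟩
    have := mul_mem (inv_mem hw') hc.2
    rwa [inv_mul_cancel_left] at this

/-- The common fixed points meet the sum of the summands trivially. -/
theorem inf_finsetSup_eq_bot [DecidableEq ι] (hV : IsMulCommutative V) {W : ι → Subgroup G}
    (hinf : ∀ i, W i ⊓ (V ⊓ centralizer (E i : Set G)) = ⊥) (hWV : ∀ i, W i ≤ V)
    (hcross : ∀ i j, i ≠ j → W i ≤ centralizer (E j : Set G)) {C : Subgroup G}
    (hC : ∀ i, C ≤ V ⊓ centralizer (E i : Set G)) (s : Finset ι) : C ⊓ s.sup W = ⊥ := by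
  induction s using Finset.induction_on with
  | empty => simp
  | @insert a s has ih =>
    rw [eq_bot_iff]
    rintro z ⟨hzC, hz⟩
    rw [Finset.sup_insert] at hz
    have hsV : s.sup W ≤ V := Finset.sup_le fun i _ => hWV i
    obtain ⟨w, hw, u, hu, rfl⟩ := CfsgLib.Coprime.exists_mul_of_mem_sup
      (show s.sup W ≤ normalizer (W a : Set G) from hsV.trans
        ((le_centralizer_iff_isMulCommutative.2 hV).trans
          ((centralizer_le (hWV a)).trans (centralizer_le_normalizer _)))) hz
    have hua : u ∈ V ⊓ centralizer (E a : Set G) :=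
      (Finset.sup_le fun j hj => le_inf (hWV j) (hcross j a fun h => has (h.symm ▸ hj)) :
        s.sup W ≤ _) hu
    have hw1 : w ∈ W a ⊓ (V ⊓ centralizer (E a : Set G)) := by
      refine ⟨hw, ?_⟩
      have := mul_mem (hC a hzC) (inv_mem hua)
      rwa [mul_inv_cancel_right] at this
    rw [hinf a, mem_bot] at hw1
    rw [hw1, one_mul] at hzC ⊢
    exact ih.le ⟨hzC, hu⟩

end Decomposition

namespace Setup

variable {p : ℕ} [Fact p.Prime] [Finite G] {V H : Subgroup G} (hs : Setup p V H)
include hs

omit [Finite G] in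
theorem commutator_ne_bot {T : Subgroup G} (hT : IsTV p V H T) : ⁅V, T⁆ ≠ ⊥ := by
  intro h0
  have hc := hT.card
  rw [hs.le_of_commutator_eq_bot hT.le h0, Subgroup.card_bot] at hc
  exact (Fact.out : p.Prime).ne_one hc.symm

/-- The transvection subgroups which are best offenders generate. -/
theorem le_of_forall_tv
    (hgen : H = ⨆ A : {A : Subgroup G // A ≤ H ∧ IsBestOffenderOn p V A}, (A : Subgroup G))
    {X : Subgroup G} (h : ∀ S, IsTV p V H S → IsBestOffenderOn p V S → S ≤ X) : H ≤ X :=
  hgen.le.trans (iSup_le fun A => (hs.eq_sSup_transvections _ rfl A.2.1 A.2.2).le.trans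
    (sSup_le fun S hS => h S hS.2.1 hS.2.2))

variable (hgen : H = ⨆ A : {A : Subgroup G // A ≤ H ∧ IsBestOffenderOn p V A}, (A : Subgroup G))
include hgen

theorem le_normalizer_component {T : Subgroup G} (hT : IsTV p V H T) :
    H ≤ normalizer (comp p H T : Set G) :=
  hs.le_of_forall_tv hgen fun _ hS _ => hs.le_normalizer_comp hT hS

theorem le_normalizer_plane {T : Subgroup G} (hT : IsTV p V H T) :
    H ≤ normalizer ((⁅V, comp p H T⁆ : Subgroup G) : Set G) := fun _ hh =>
  mem_normalizer_commutator (hs.norm hh) (hs.le_normalizer_component hgen hT hh)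

theorem sup_centralizer_plane {T : Subgroup G} (hT : IsTV p V H T) :
    comp p H T ⊔ (H ⊓ centralizer ((⁅V, comp p H T⁆ : Subgroup G) : Set G)) = H :=
  le_antisymm (sup_le (hs.comp_le_self hT) inf_le_left) (hs.le_of_forall_tv hgen fun _ hS _ =>
    (hs.le_comp_or_le_centralizer hT hS).elim (fun h => h.trans le_sup_left)
      fun h => (le_inf hS.le h).trans le_sup_right)

theorem le_normalizer_centralizer_plane {T : Subgroup G} (hT : IsTV p V H T) :
    H ≤ normalizer ((H ⊓ centralizer ((⁅V, comp p H T⁆ : Subgroup G) : Set G) : Subgroup G) :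
      Set G) :=
  fun _ hh => mem_normalizer_inf (le_normalizer hh)
    (mem_normalizer_centralizer (hs.le_normalizer_plane hgen hT hh))

theorem commutator_centralizer_plane {T : Subgroup G} (hT : IsTV p V H T) :
    ⁅comp p H T, H ⊓ centralizer ((⁅V, comp p H T⁆ : Subgroup G) : Set G)⁆ = ⊥ := by
  set F := H ⊓ centralizer ((⁅V, comp p H T⁆ : Subgroup G) : Set G)
  have h1 : ⁅comp p H T, F⁆ ≤ comp p H T := le_normalizer_iff_commutator_le_left.1
    (inf_le_left.trans (hs.le_normalizer_component hgen hT))
  have h2 : ⁅comp p H T, F⁆ ≤ F := le_normalizer_iff_commutator_le_right.1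
    ((hs.comp_le_self hT).trans (hs.le_normalizer_centralizer_plane hgen hT))
  rw [eq_bot_iff, ← hs.inf_centralizer_plane hT]
  exact le_inf h1 (h2.trans inf_le_right)

theorem plane_split {T : Subgroup G} (hT : IsTV p V H T) :
    Nat.card ↥(⁅V, comp p H T⁆) = p ^ 2 ∧
      ⁅V, comp p H T⁆ ⊓ (V ⊓ centralizer (comp p H T : Set G)) = ⊥ ∧
      ⁅V, comp p H T⁆ ⊔ (V ⊓ centralizer (comp p H T : Set G)) = V := by
  obtain ⟨x, hx, hne⟩ := hs.exists_conj_ne hT
  obtain ⟨h1, h2, h3, h4⟩ := hs.plane hT hx hne
  rw [hs.comp_eq_pair hT hx hne, h4]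
  exact ⟨h1, h2, h3⟩

theorem commutator_centralizer_plane_le {T : Subgroup G} (hT : IsTV p V H T) :
    ⁅V, H ⊓ centralizer ((⁅V, comp p H T⁆ : Subgroup G) : Set G)⁆ ≤
      V ⊓ centralizer (comp p H T : Set G) := by
  refine le_inf (commutator_le_of_le_normalizer (inf_le_left.trans hs.norm)) ?_
  rw [← commutator_eq_bot_iff_le_centralizer]
  refine commutator_commutator_eq_bot_of_rotate ?_ ?_
  · rw [commutator_comm _ (comp p H T), hs.commutator_centralizer_plane hgen hT, commutator_bot_left]
  · rw [commutator_comm (comp p H T) V, commutator_eq_bot_iff_le_centralizer]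
    exact le_centralizer_iff.1 inf_le_right

/-- Two components are equal or commute on each other's planes. -/
theorem comp_eq_or_le {T S : Subgroup G} (hT : IsTV p V H T) (hS : IsTV p V H S) :
    comp p H S = comp p H T ∨
      comp p H S ≤ H ⊓ centralizer ((⁅V, comp p H T⁆ : Subgroup G) : Set G) := by
  have hconj : ∀ {X : Subgroup G}, S ≤ X → H ≤ normalizer (X : Set G) → comp p H S ≤ X := by
    intro X hSX hX
    refine hs.comp_le fun y hy => ?_
    rintro _ ⟨a, ha, rfl⟩
    exact (mem_normalizer_iff.1 (hX (coreIn_le hy)) a).1 (hSX ha)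
  refine (hs.le_comp_or_le_centralizer hT hS).imp (fun h => ?_) fun h =>
    hconj (le_inf hS.le h) (hs.le_normalizer_centralizer_plane hgen hT)
  refine eq_of_le_of_card_ge (hconj h (hs.le_normalizer_component hgen hT)) ?_
  obtain ⟨e⟩ := hs.nonempty_comp_equiv hT
  obtain ⟨e'⟩ := hs.nonempty_comp_equiv hS
  exact (Nat.card_congr (e.trans e'.symm).toEquiv).le

theorem plane_cross {T S : Subgroup G} (hT : IsTV p V H T) (hS : IsTV p V H S)
    (h : comp p H S ≠ comp p H T) : ⁅V, comp p H S⁆ ≤ V ⊓ centralizer (comp p H T : Set G) :=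
  (commutator_mono le_rfl ((hs.comp_eq_or_le hgen hT hS).resolve_left h)).trans
    (hs.commutator_centralizer_plane_le hgen hT)

/-- The structure theorem, for any indexing of the components. -/
theorem structure_components {ι : Type*} [Finite ι] (E : ι → Subgroup G)
    (hE : ∀ i, ∃ T, IsTV p V H T ∧ E i = comp p H T)
    (hall : ∀ T, IsTV p V H T → IsBestOffenderOn p V T → ∃ i, E i = comp p H T)
    (hinj : Function.Injective E) :
    iSupIndep E ∧ (⨆ i, E i) = H ∧
      iSupIndep (fun o : Option ι => o.elim (V ⊓ centralizer (H : Set G)) fun i => ⁅V, E i⁆) ∧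
      (V ⊓ centralizer (H : Set G)) ⊔ (⨆ i, ⁅V, E i⁆) = V := by
  classical
  haveI : Fintype ι := Fintype.ofFinite ι
  choose T hT hET using hE
  have hEH : ∀ i, E i ≤ H := fun i => hET i ▸ hs.comp_le_self (hT i)
  have hne : ∀ {i j}, i ≠ j → comp p H (T i) ≠ comp p H (T j) := fun {i j} hij h =>
    hij (hinj ((hET i).trans (h.trans (hET j).symm)))
  have hsup : (⨆ i, E i) = H := le_antisymm (iSup_le hEH) (hs.le_of_forall_tv hgen fun S hS hSb => by
    obtain ⟨i, hi⟩ := hall S hS hSb
    exact le_trans (le_sup_right : S ≤ comp p H S) (hi.ge.trans (le_iSup E i)))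
  have hcross : ∀ i j, i ≠ j → ⁅V, E i⁆ ≤ V ⊓ centralizer (E j : Set G) := fun i j hij => by
    rw [hET i, hET j]
    exact hs.plane_cross hgen (hT j) (hT i) (hne hij)
  have hsplit : ∀ i, ⁅V, E i⁆ ⊔ (V ⊓ centralizer (E i : Set G)) = V := fun i => by
    rw [hET i]
    exact (hs.plane_split hgen (hT i)).2.2
  have hinf : ∀ i, ⁅V, E i⁆ ⊓ (V ⊓ centralizer (E i : Set G)) = ⊥ := fun i => by
    rw [hET i]
    exact (hs.plane_split hgen (hT i)).2.1
  have hCle : ∀ i, V ⊓ centralizer (H : Set G) ≤ V ⊓ centralizer (E i : Set G) := fun i =>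
    inf_centralizer_mono V (hEH i)
  refine ⟨fun i => ?_, hsup, fun o => ?_, le_antisymm ?_ ?_⟩
  · rw [disjoint_iff, eq_bot_iff, ← hs.inf_centralizer_plane (hT i), ← hET i]
    refine inf_le_inf_left _ (iSup₂_le fun j hji => ?_)
    rw [hET j, hET i]
    exact ((hs.comp_eq_or_le hgen (hT i) (hT j)).resolve_left (hne hji)).trans inf_le_right
  · rw [disjoint_iff, eq_bot_iff]
    cases o with
    | none =>
      refine le_trans (inf_le_inf_left _ ?_) (inf_finsetSup_eq_bot hs.elem.1 (W := fun i => ⁅V, E i⁆)
        hinf (fun i => (hsplit i).le.trans' le_sup_left) (fun i j hij => (hcross i j hij).trans inf_le_right)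
        hCle Finset.univ).le
      refine iSup₂_le fun j hj => ?_
      cases j with
      | none => exact absurd rfl hj
      | some k => exact Finset.le_sup (f := fun i => ⁅V, E i⁆) (Finset.mem_univ k)
    | some i =>
      rw [← hinf i]
      refine inf_le_inf_left _ (iSup₂_le fun j hj => ?_)
      cases j with
      | none => exact hCle i
      | some k => exact hcross k i fun h => hj (congrArg some h)
  · exact sup_le inf_le_left (iSup_le fun i => (hsplit i).le.trans' le_sup_left)
  · refine (le_sup_of_decomposition hs.elem.1 hsplit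
      (fun i j hij => (hcross i j hij).trans inf_le_right) Finset.univ).trans
        (sup_le_sup (inf_le_inf_left V ?_) (Finset.sup_le fun i _ => le_iSup (fun i => ⁅V, E i⁆) i))
    intro z hz
    rw [← zpowers_le, le_centralizer_iff]
    refine hsup.ge.trans (iSup_le fun i => ?_)
    rw [le_centralizer_iff, zpowers_le]
    exact (Finset.inf_le (f := fun j => centralizer (E j : Set G)) (Finset.mem_univ i)) hz

end Setup

end CfsgLib.PLocal.Offender
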