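/-
Operators of order prime to the order of a group generated by best offenders: the fixed points contain the
diagonal of each orbit of components (Kurzweil–Stellmacher 9.3).
-/
import Cfsg.Agent.PLocal.OffenderStructure
set_option autoImplicit false

namespace CfsgLib.PLocal.Offender

open Cfsg Subgroup
open scoped commutatorElement MatrixGroups

variable {G : Type*} [Group G]

theorem mem_centralizer_iSup {ι : Sort*} {E : ι → Subgroup G} {z : G}
    (h : ∀ i, z ∈ centralizer (E i : Set G)) :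
    z ∈ centralizer ((⨆ i, E i : Subgroup G) : Set G) := by
  rw [← zpowers_le, le_centralizer_iff]
  refine iSup_le fun i => ?_
  rw [le_centralizer_iff, zpowers_le]
  exact h i

/-- An element of a direct product is given by its components. -/
theorem existsUnique_of_targets {ι : Type*} [Finite ι] {U : Subgroup G} {E F : ι → Subgroup G}
    (hsplit : ∀ a, E a ⊔ F a = U) (hcross : ∀ i j, i ≠ j → E i ≤ F j)
    (hnorm : ∀ a, U ≤ normalizer (F a : Set G))
    (hbot : ∀ z ∈ U, (∀ i, z ∈ F i) → z = 1) (t : ι → G) (ht : ∀ i, t i ∈ E i) :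
    ∃ h ∈ U, (∀ i, h * (t i)⁻¹ ∈ F i) ∧ ∀ h' ∈ U, (∀ i, h' * (t i)⁻¹ ∈ F i) → h' = h := by
  classical
  haveI : Fintype ι := Fintype.ofFinite ι
  have hex : ∀ s : Finset ι, ∃ h ∈ U, ∀ i ∈ s, h * (t i)⁻¹ ∈ F i := by
    intro s
    induction s using Finset.induction_on with
    | empty => exact ⟨1, one_mem _, by simp⟩
    | @insert a s has ih =>
      obtain ⟨h, hh, hs⟩ := ih
      have hEU : E a ≤ U := hsplit a ▸ le_sup_left
      obtain ⟨ε, hε, f, hf, rfl⟩ : ∃ ε ∈ E a, ∃ f ∈ F a, ε * f = h := by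
        have h1 : (E a ⊔ F a : Subgroup G) = F a ⊔ E a := sup_comm _ _
        obtain ⟨f, hf, ε, hε, hfe⟩ := CfsgLib.Coprime.exists_mul_of_mem_sup
          (hEU.trans (hnorm a)) (h1 ▸ (hsplit a).ge hh)
        refine ⟨ε, hε, ε⁻¹ * f * ε, ?_, by rw [← hfe]; group⟩
        simpa using (mem_normalizer_iff.1 (hnorm a (inv_mem (hEU hε))) f).1 hf
      refine ⟨t a * f, mul_mem (hEU (ht a)) (((le_sup_right : F a ≤ _).trans (hsplit a).le) hf),
        fun i hi => ?_⟩
      rcases Finset.mem_insert.1 hi with rfl | hi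
      · exact (mem_normalizer_iff.1 (hnorm i (hEU (ht i))) f).1 hf
      · have hne : a ≠ i := fun h => has (h ▸ hi)
        have := mul_mem (hcross a i hne (mul_mem (ht a) (inv_mem hε))) (hs i hi)
        convert this using 1
        group
  obtain ⟨h, hh, hall⟩ := hex Finset.univ
  refine ⟨h, hh, fun i => hall i (Finset.mem_univ i), fun h' hh' hall' => ?_⟩
  rw [← mul_inv_eq_one]
  refine hbot _ (mul_mem hh' (inv_mem hh)) fun i => ?_
  have := mul_mem (hall' i) (inv_mem (hall i (Finset.mem_univ i)))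
  convert this using 1
  group

/-- The automorphisms of an elementary abelian group of order `4` or `9` have order dividing `48`. -/
theorem orderOf_mulAut_dvd {p : ℕ} [Fact p.Prime] (hp : p = 2 ∨ p = 3) {W : Subgroup G} [Finite W]
    (hW : IsElementaryAbelian p W) (hcard : Nat.card W = p ^ 2) (α : MulAut W) :
    orderOf α ∣ 48 := by
  obtain ⟨f⟩ := CfsgLib.FusionEssential.exists_mulEquiv_fin_of_elementary (p := p) (H := W)
    (fun a b => Subtype.ext (comm_of_isMulCommutative hW.1 a.2 b.2))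
    (fun x => Subtype.ext (hW.2 x x.2)) hcard
  have hinj : Function.Injective (CfsgLib.FusionEssential.autMatrix f).toHomUnits := fun a b hab =>
    CfsgLib.FusionEssential.autMatrix_injective f (congrArg Units.val hab)
  rw [← orderOf_injective _ hinj]
  refine (_root_.orderOf_dvd_natCard _).trans ?_
  show Nat.card (GL (Fin 2) (ZMod p)) ∣ 48
  rw [CfsgLib.Linear.card_GL_two, ZMod.card]
  rcases hp with rfl | rfl <;> norm_num

namespace Setup

variable {p : ℕ} [Fact p.Prime] [Finite G] {V H : Subgroup G} (hs : Setup p V H)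
include hs

theorem isTV_cjg_of_normalizer {T : Subgroup G} (hT : IsTV p V H T) {g : G}
    (hgH : g ∈ normalizer (H : Set G)) (hgV : g ∈ normalizer (V : Set G)) :
    IsTV p V H (cjg g T) := by
  refine ⟨fun z hz => ?_, by rw [card_cjg, hT.card], ?_⟩
  · have := (mem_normalizer_iff.1 hgH _).1 (hT.le (mem_cjg.1 hz))
    simpa [mul_assoc] using this
  · have e : V ⊓ centralizer (cjg g T : Set G) = cjg g (V ⊓ centralizer (T : Set G)) := by
      rw [cjg, cjg, map_inf_centralizer (MulAut.conj g).injective]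
      congr 1
      exact (cjg_eq_self hgV).symm
    rw [e]
    have h2 : (cjg g (V ⊓ centralizer (T : Set G))).relIndex (cjg g V) = p :=
      (relIndex_map_map_of_injective _ _ (MulAut.conj g).injective).trans hT.index
    rwa [cjg_eq_self hgV] at h2

omit hs [Fact p.Prime] [Finite G] in
theorem mem_normalizer_coreIn {g : G} (hg : g ∈ normalizer (H : Set G)) :
    g ∈ normalizer (coreIn p H : Set G) := by
  rw [mem_normalizer_iff_map_conj_eq]
  set e := H.normalizerMonoidHom ⟨g, hg⟩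
  show ((pPrimeCore p H).map H.subtype).map (MulAut.conj g).toMonoidHom = (pPrimeCore p H).map H.subtype
  conv_rhs => rw [← map_pPrimeCore_equiv (p := p) e, map_map]
  rw [map_map]
  rfl

omit hs [Fact p.Prime] [Finite G] in
theorem comp_cjg_of_normalizer {T : Subgroup G} {g : G} (hg : g ∈ normalizer (H : Set G)) :
    comp p H (cjg g T) = cjg g (comp p H T) := by
  rw [comp, comp, cjg, cjg, Subgroup.map_sup]
  congr 1
  show ⁅coreIn p H, cjg g T⁆ = cjg g ⁅coreIn p H, T⁆
  rw [cjg_commutator, cjg_eq_self (mem_normalizer_coreIn hg)]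

theorem six_dvd_card {T : Subgroup G} (hT : IsTV p V H T) : 6 ∣ Nat.card H := by
  refine dvd_trans ?_ (card_dvd_of_le (hs.comp_le_self hT))
  obtain ⟨e⟩ := hs.nonempty_comp_equiv hT
  rw [Nat.card_congr e.toEquiv, CfsgLib.Linear.card_SL_two, ZMod.card]
  rcases hs.eq_two_or_three hT with rfl | rfl <;> norm_num

variable (hgen : H = ⨆ A : {A : Subgroup G // A ≤ H ∧ IsBestOffenderOn p V A}, (A : Subgroup G))
variable {X : Subgroup G} (hXH : X ≤ normalizer (H : Set G)) (hXV : X ≤ normalizer (V : Set G))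
  (hX : (Nat.card X).Coprime (Nat.card H))
include hgen hXH hXV hX

/-- A stabilizer of a component centralizes it and its plane. -/
theorem stabilizer_centralizes {T : Subgroup G} (hT : IsTV p V H T) {x : G} (hx : x ∈ X)
    (hfix : cjg x (comp p H T) = comp p H T) :
    x ∈ centralizer ((⁅V, comp p H T⁆ : Subgroup G) : Set G) ∧
      x ∈ centralizer (comp p H T : Set G) := by
  set E := comp p H T
  set W := ⁅V, E⁆
  have hxE : x ∈ normalizer (E : Set G) := mem_normalizer_iff_map_conj_eq.2 hfix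
  have hxW : x ∈ normalizer (W : Set G) := mem_normalizer_commutator (hXV hx) hxE
  obtain ⟨hWc, -, hWsup⟩ := hs.plane_split hgen hT
  have hWel : IsElementaryAbelian p W :=
    isElementaryAbelian_of_le hs.elem (le_sup_left.trans hWsup.le)
  have h48 : ∀ n : ℕ, n.Coprime 6 → n.Coprime 48 := fun n h => by
    have := Nat.Coprime.pow_right 4 h
    exact this.coprime_dvd_right (by norm_num)
  have h1 : W.normalizerMonoidHom ⟨x, hxW⟩ = 1 := by
    rw [← orderOf_eq_one_iff]
    refine Nat.eq_one_of_dvd_coprimes (h48 _ (hX.coprime_dvd_right (hs.six_dvd_card hT))) ?_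
      (orderOf_mulAut_dvd (hs.eq_two_or_three hT) hWel hWc _)
    refine (orderOf_map_dvd _ _).trans ?_
    rw [← Subgroup.orderOf_coe]
    exact Subgroup.orderOf_dvd_natCard X hx
  rw [← MonoidHom.mem_ker, normalizerMonoidHom_ker] at h1
  refine ⟨h1, fun e he => ?_⟩
  have h2 : ⁅x, e⁆ ∈ E ⊓ centralizer (W : Set G) := by
    refine ⟨?_, ?_⟩
    · rw [commutatorElement_def]
      exact E.mul_mem ((mem_normalizer_iff.1 hxE e).1 he) (E.inv_mem he)
    · have heW : e ∈ normalizer (W : Set G) :=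
        mem_normalizer_commutator (hs.norm (hs.comp_le_self hT he)) (le_normalizer he)
      rw [commutatorElement_def, mul_assoc, mul_assoc, ← mul_assoc e]
      exact (centralizer (W : Set G)).mul_mem h1
        ((mem_normalizer_iff.1 (mem_normalizer_centralizer heW) x⁻¹).1 (inv_mem h1))
  rw [hs.inf_centralizer_plane hT, mem_bot, commutatorElement_eq_one_iff_mul_comm] at h2
  exact h2.symm

/-- The diagonal of the orbit of a component: fixed by `X`, and acting on a fixed plane. -/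
theorem exists_diagonal {T : Subgroup G} (hT : IsTV p V H T) :
    ∃ (δ : comp p H T →* G) (ω : (⁅V, comp p H T⁆ : Subgroup G) →* G),
      Function.Injective δ ∧ Function.Injective ω ∧
      (∀ e, δ e ∈ H ⊓ centralizer (X : Set G) ∧
        δ e * (e : G)⁻¹ ∈ H ⊓ centralizer ((⁅V, comp p H T⁆ : Subgroup G) : Set G)) ∧
      (∀ w, ω w ∈ V ⊓ centralizer (X : Set G)) ∧
      δ.range ≤ normalizer (ω.range : Set G) ∧ δ.range ⊓ centralizer (ω.range : Set G) = ⊥ := by
  classical
  let ι := {E : Subgroup G // ∃ S, IsTV p V H S ∧ E = comp p H S}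
  let E₀ : ι := ⟨comp p H T, T, hT, rfl⟩
  let F : ι → Subgroup G := fun i => H ⊓ centralizer ((⁅V, (i : Subgroup G)⁆ : Subgroup G) : Set G)
  let W : ι → Subgroup G := fun i => ⁅V, (i : Subgroup G)⁆
  let U : Subgroup G := ⨆ i, W i
  let C : ι → Subgroup G := fun i => U ⊓ centralizer ((i : Subgroup G) : Set G)
  obtain ⟨-, hsup, hindW, hVdec⟩ := hs.structure_components hgen (fun i : ι => (i : Subgroup G))
    (fun i => i.2) (fun S hS _ => ⟨⟨_, S, hS, rfl⟩, rfl⟩) Subtype.val_injective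
  have hEH : ∀ i : ι, (i : Subgroup G) ≤ H := by
    rintro ⟨_, S, hS, rfl⟩
    exact hs.comp_le_self hS
  have hEn : ∀ i : ι, H ≤ normalizer ((i : Subgroup G) : Set G) := by
    rintro ⟨_, S, hS, rfl⟩
    exact hs.le_normalizer_component hgen hS
  have hWn : ∀ i, H ≤ normalizer (W i : Set G) := by
    rintro ⟨_, S, hS, rfl⟩
    exact hs.le_normalizer_plane hgen hS
  have hFn : ∀ i, H ≤ normalizer (F i : Set G) := fun i h hh =>
    mem_normalizer_inf (le_normalizer hh) (mem_normalizer_centralizer (hWn i hh))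
  have hWV : ∀ i, W i ≤ V := fun i =>
    commutator_le_of_le_normalizer ((hEH i).trans hs.norm)
  have hUV : U ≤ V := iSup_le hWV
  have hsplitH : ∀ i : ι, (i : Subgroup G) ⊔ F i = H := by
    rintro ⟨_, S, hS, rfl⟩
    exact hs.sup_centralizer_plane hgen hS
  have hcrossH : ∀ i j : ι, i ≠ j → (i : Subgroup G) ≤ F j := by
    rintro ⟨_, S, hS, rfl⟩ ⟨_, S', hS', rfl⟩ hne
    exact (hs.comp_eq_or_le hgen hS' hS).resolve_left fun h => hne (Subtype.ext h)
  have hbotH : ∀ z ∈ H, (∀ i, z ∈ F i) → z = 1 := by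
    intro z hz hall
    rw [← mem_bot (G := G), ← hs.faithful]
    refine ⟨hz, centralizer_le hVdec.ge ?_⟩
    rw [← zpowers_le, le_centralizer_iff]
    refine sup_le ?_ (iSup_le fun i => ?_) <;> rw [le_centralizer_iff, zpowers_le]
    · exact le_centralizer_iff.1 inf_le_right hz
    · exact (hall i).2
  have hcrossW : ∀ i j : ι, i ≠ j → W i ≤ C j := by
    rintro ⟨_, S, hS, rfl⟩ ⟨_, S', hS', rfl⟩ hne
    exact le_inf (le_iSup W _) ((hs.plane_cross hgen hS' hS fun h => hne (Subtype.ext h)).trans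
      inf_le_right)
  have hVn : ∀ {A B : Subgroup G}, A ≤ V → B ≤ V → A ≤ normalizer (B : Set G) := fun {A B} hA hB =>
    hA.trans ((le_centralizer_iff_isMulCommutative.2 hs.elem.1).trans
      ((centralizer_le hB).trans (centralizer_le_normalizer _)))
  have hsplitW : ∀ i, W i ⊔ C i = U := by
    intro i
    refine le_antisymm (sup_le (le_iSup W i) inf_le_left) fun u hu => ?_
    obtain ⟨w, hw, c, hc, rfl⟩ := CfsgLib.Coprime.exists_mul_of_mem_sup
      (hVn inf_le_left (hWV i))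
      (show u ∈ W i ⊔ (V ⊓ centralizer ((i : Subgroup G) : Set G)) by
        obtain ⟨_, S, hS, rfl⟩ := i
        rw [(hs.plane_split hgen hS).2.2]
        exact hUV hu)
    refine mul_mem (mem_sup_left hw) (mem_sup_right ⟨?_, hc.2⟩)
    have := mul_mem (inv_mem (le_iSup W i hw)) hu
    rwa [inv_mul_cancel_left] at this
  have hbotW : ∀ z ∈ U, (∀ i, z ∈ C i) → z = 1 := by
    intro z hz hall
    have h1 := hindW none
    rw [disjoint_iff] at h1
    rw [← mem_bot (G := G), ← h1]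
    refine ⟨⟨hUV hz, ?_⟩, (iSup_le fun i => le_iSup₂_of_le (some i) (Option.some_ne_none i) le_rfl :
      U ≤ _) hz⟩
    show z ∈ centralizer (H : Set G)
    rw [← hsup]
    exact mem_centralizer_iSup fun i => (hall i).2
  -- translates of an element along the orbit of the component
  have hconj : ∀ x ∈ X, ∀ i : ι, ∃ j : ι, (j : Subgroup G) = cjg x (i : Subgroup G) := by
    rintro x hx ⟨_, S, hS, rfl⟩
    exact ⟨⟨_, cjg x S, hs.isTV_cjg_of_normalizer hS (hXH hx) (hXV hx),
      (comp_cjg_of_normalizer (hXH hx)).symm⟩, rfl⟩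
  have hstab : ∀ x ∈ X, ∀ y ∈ X, cjg x (E₀ : Subgroup G) = cjg y (E₀ : Subgroup G) → ∀ z,
      (z ∈ (E₀ : Subgroup G) ∨ z ∈ W E₀) → x * z * x⁻¹ = y * z * y⁻¹ := by
    intro x hx y hy h z hz
    have hfix : cjg (y⁻¹ * x) (comp p H T) = comp p H T := by
      rw [← cjg_cjg]
      show cjg y⁻¹ (cjg x (E₀ : Subgroup G)) = _
      rw [h, cjg_cjg, inv_mul_cancel, cjg_one]
    obtain ⟨hW', hE'⟩ := hs.stabilizer_centralizes hgen hXH hXV hX hT (mul_mem (inv_mem hy) hx) hfix
    have hc : z * (y⁻¹ * x) = y⁻¹ * x * z := by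
      rcases hz with hz | hz
      · exact hE' z hz
      · exact hW' z hz
    calc x * z * x⁻¹ = y * (y⁻¹ * x * z) * x⁻¹ := by group
      _ = y * (z * (y⁻¹ * x)) * x⁻¹ := by rw [hc]
      _ = y * z * y⁻¹ := by group
  let orb : G → ι → G := fun z i =>
    if h : ∃ x ∈ X, cjg x (E₀ : Subgroup G) = (i : Subgroup G) then h.choose * z * h.choose⁻¹ else 1
  have horb : ∀ z, (z ∈ (E₀ : Subgroup G) ∨ z ∈ W E₀) → ∀ i : ι, ∀ x ∈ X,
      cjg x (E₀ : Subgroup G) = (i : Subgroup G) → orb z i = x * z * x⁻¹ := by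
    intro z hz i x hx h
    have hh : ∃ y ∈ X, cjg y (E₀ : Subgroup G) = (i : Subgroup G) := ⟨x, hx, h⟩
    simp only [orb, dif_pos hh]
    exact hstab _ hh.choose_spec.1 x hx (hh.choose_spec.2.trans h.symm) z hz
  have horb0 : ∀ z (i : ι), (¬ ∃ x ∈ X, cjg x (E₀ : Subgroup G) = (i : Subgroup G)) →
      orb z i = 1 := fun z i h => dif_neg h
  have horb_mul : ∀ z z' (i : ι), orb (z * z') i = orb z i * orb z' i := by
    intro z z' i
    simp only [orb]
    split_ifs with h
    · group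
    · rw [one_mul]
  have hWcjg : ∀ x ∈ X, ∀ i j : ι, (j : Subgroup G) = cjg x (i : Subgroup G) → W j = cjg x (W i) := by
    intro x hx i j h
    show ⁅V, (j : Subgroup G)⁆ = cjg x ⁅V, (i : Subgroup G)⁆
    rw [cjg_commutator, cjg_eq_self (hXV hx), h]
  have horbE : ∀ e ∈ (E₀ : Subgroup G), ∀ i : ι, orb e i ∈ (i : Subgroup G) := by
    intro e he i
    by_cases h : ∃ x ∈ X, cjg x (E₀ : Subgroup G) = (i : Subgroup G)
    · obtain ⟨x, hx, hxi⟩ := h
      rw [horb e (Or.inl he) i x hx hxi, ← hxi]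
      exact ⟨e, he, rfl⟩
    · rw [horb0 e i h]
      exact one_mem _
  have horbW : ∀ w ∈ W E₀, ∀ i : ι, orb w i ∈ W i := by
    intro w hw i
    by_cases h : ∃ x ∈ X, cjg x (E₀ : Subgroup G) = (i : Subgroup G)
    · obtain ⟨x, hx, hxi⟩ := h
      rw [horb w (Or.inr hw) i x hx hxi, hWcjg x hx E₀ i hxi.symm]
      exact ⟨w, hw, rfl⟩
    · rw [horb0 w i h]
      exact one_mem _
  choose d hdH hdF hdu using fun e : (E₀ : Subgroup G) => existsUnique_of_targets hsplitH hcrossH
    hFn hbotH (orb e) (horbE e e.2)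
  have hUn : ∀ i, U ≤ normalizer (C i : Set G) := fun i => hVn hUV (inf_le_left.trans hUV)
  choose v hvU hvC hvu using fun w : W E₀ => existsUnique_of_targets hsplitW hcrossW hUn hbotW
    (orb w) (horbW w w.2)
  have hdmul : ∀ e e', d (e * e') = d e * d e' := by
    intro e e'
    refine (hdu (e * e') _ (mul_mem (hdH e) (hdH e')) fun i => ?_).symm
    rw [Subgroup.coe_mul, horb_mul]
    have := mul_mem ((mem_normalizer_iff.1 (hFn i (hdH e)) _).1 (hdF e' i)) (hdF e i)
    convert this using 1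
    group
  have hvmul : ∀ w w', v (w * w') = v w * v w' := by
    intro w w'
    refine (hvu (w * w') _ (mul_mem (hvU w) (hvU w')) fun i => ?_).symm
    rw [Subgroup.coe_mul, horb_mul]
    have := mul_mem ((mem_normalizer_iff.1 (hUn i (hvU w)) _).1 (hvC w' i)) (hvC w i)
    convert this using 1
    group
  have hFcjg : ∀ x ∈ X, ∀ i j : ι, (j : Subgroup G) = cjg x (i : Subgroup G) → ∀ z ∈ F i,
      x * z * x⁻¹ ∈ F j := by
    intro x hx i j h z hz
    refine ⟨(mem_normalizer_iff.1 (hXH hx) z).1 hz.1, ?_⟩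
    show x * z * x⁻¹ ∈ centralizer (W j : Set G)
    rw [hWcjg x hx i j h]
    rintro _ ⟨w, hw, rfl⟩
    show x * w * x⁻¹ * (x * z * x⁻¹) = x * z * x⁻¹ * (x * w * x⁻¹)
    calc x * w * x⁻¹ * (x * z * x⁻¹) = x * (w * z) * x⁻¹ := by group
      _ = x * (z * w) * x⁻¹ := by rw [hz.2 w hw]
      _ = x * z * x⁻¹ * (x * w * x⁻¹) := by group
  have hUx : ∀ x ∈ X, ∀ u ∈ U, x * u * x⁻¹ ∈ U := by
    intro x hx u hu
    have : cjg x U ≤ U := by
      show (⨆ i, W i).map (MulAut.conj x).toMonoidHom ≤ U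
      rw [Subgroup.map_iSup]
      refine iSup_le fun i => ?_
      obtain ⟨j, hj⟩ := hconj x hx i
      exact (hWcjg x hx i j hj).ge.trans (le_iSup W j)
    exact this ⟨u, hu, rfl⟩
  have hCcjg : ∀ x ∈ X, ∀ i j : ι, (j : Subgroup G) = cjg x (i : Subgroup G) → ∀ z ∈ C i,
      x * z * x⁻¹ ∈ C j := by
    intro x hx i j h z hz
    refine ⟨hUx x hx z hz.1, ?_⟩
    show x * z * x⁻¹ ∈ centralizer ((j : Subgroup G) : Set G)
    rw [h]
    rintro _ ⟨w, hw, rfl⟩
    show x * w * x⁻¹ * (x * z * x⁻¹) = x * z * x⁻¹ * (x * w * x⁻¹)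
    calc x * w * x⁻¹ * (x * z * x⁻¹) = x * (w * z) * x⁻¹ := by group
      _ = x * (z * w) * x⁻¹ := by rw [hz.2 w hw]
      _ = x * z * x⁻¹ * (x * w * x⁻¹) := by group
  have horbX : ∀ z, (z ∈ (E₀ : Subgroup G) ∨ z ∈ W E₀) → ∀ y ∈ X, ∀ i j : ι,
      (i : Subgroup G) = cjg y (j : Subgroup G) → orb z i = y * orb z j * y⁻¹ := by
    intro z hz y hy i j h
    by_cases hj : ∃ x ∈ X, cjg x (E₀ : Subgroup G) = (j : Subgroup G)
    · obtain ⟨x, hx, hxj⟩ := hj
      rw [horb z hz j x hx hxj, horb z hz i (y * x) (mul_mem hy hx) (by rw [← cjg_cjg, hxj, h])]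
      group
    · have hi : ¬ ∃ x ∈ X, cjg x (E₀ : Subgroup G) = (i : Subgroup G) := by
        rintro ⟨x, hx, hxi⟩
        exact hj ⟨y⁻¹ * x, mul_mem (inv_mem hy) hx,
          by rw [← cjg_cjg, hxi, h, cjg_cjg, inv_mul_cancel, cjg_one]⟩
      rw [horb0 z i hi, horb0 z j hj]
      group
  have hback : ∀ y ∈ X, ∀ i : ι, ∃ j : ι, (i : Subgroup G) = cjg y (j : Subgroup G) := by
    intro y hy i
    obtain ⟨j, hj⟩ := hconj y⁻¹ (inv_mem hy) i
    exact ⟨j, by rw [hj, cjg_cjg, mul_inv_cancel, cjg_one]⟩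
  have hdX : ∀ e, d e ∈ centralizer (X : Set G) := by
    intro e y hy
    rw [← mul_inv_eq_iff_eq_mul]
    refine hdu e _ ((mem_normalizer_iff.1 (hXH hy) _).1 (hdH e)) fun i => ?_
    obtain ⟨j, hj⟩ := hback y hy i
    rw [horbX e (Or.inl e.2) y hy i j hj]
    have := hFcjg y hy j i hj _ (hdF e j)
    convert this using 1
    group
  have hvX : ∀ w, v w ∈ centralizer (X : Set G) := by
    intro w y hy
    rw [← mul_inv_eq_iff_eq_mul]
    refine hvu w _ (hUx y hy _ (hvU w)) fun i => ?_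
    obtain ⟨j, hj⟩ := hback y hy i
    rw [horbX w (Or.inr w.2) y hy i j hj]
    have := hCcjg y hy j i hj _ (hvC w j)
    convert this using 1
    group
  have horb1 : ∀ z, (z ∈ (E₀ : Subgroup G) ∨ z ∈ W E₀) → orb z E₀ = z := fun z hz => by
    rw [horb z hz E₀ 1 (one_mem _) (cjg_one _)]
    group
  let δ : comp p H T →* G := MonoidHom.mk' d hdmul
  let ω : (⁅V, comp p H T⁆ : Subgroup G) →* G := MonoidHom.mk' v hvmul
  have hd0 : ∀ e, d e * (e : G)⁻¹ ∈ F E₀ := fun e => by
    have := hdF e E₀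
    rwa [horb1 e (Or.inl e.2)] at this
  have hact : ∀ (e : (E₀ : Subgroup G)) (w w' : W E₀), (w' : G) = e * w * (e : G)⁻¹ →
      d e * v w * (d e)⁻¹ = v w' := by
    intro e w w' hw'
    refine hvu w' _ ?_ fun i => ?_
    · have : cjg (d e) U ≤ U := by
        show (⨆ i, W i).map (MulAut.conj (d e)).toMonoidHom ≤ U
        rw [Subgroup.map_iSup]
        exact iSup_mono fun i => (cjg_eq_self (hWn i (hdH e))).le
      exact this ⟨v w, hvU w, rfl⟩
    · rw [hw', horb_mul, horb_mul]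
      have h1 : orb (e : G)⁻¹ i = (orb e i)⁻¹ := by
        refine eq_inv_of_mul_eq_one_left ?_
        rw [← horb_mul, inv_mul_cancel]
        simp only [orb]
        split_ifs <;> group
      rw [h1]
      set t := orb (e : G) i with htdef
      set s := orb (w : G) i with hsdef
      have ht : t ∈ (i : Subgroup G) := horbE e e.2 i
      have hts : t * s * t⁻¹ ∈ W i :=
        (mem_normalizer_iff.1 (hWn i (hEH i ht)) s).1 (horbW w w.2 i)
      have hf : t * s * t⁻¹ * (d e * t⁻¹) = d e * t⁻¹ * (t * s * t⁻¹) := (hdF e i).2 _ hts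
      have hdC : d e ∈ normalizer (C i : Set G) := by
        refine mem_normalizer_inf (mem_normalizer_iff_map_conj_eq.2 ?_)
          (mem_normalizer_centralizer (hEn i (hdH e)))
        show (⨆ i, W i).map (MulAut.conj (d e)).toMonoidHom = ⨆ i, W i
        rw [Subgroup.map_iSup]
        exact iSup_congr fun i => cjg_eq_self (hWn i (hdH e))
      have hgoal := (mem_normalizer_iff.1 hdC _).1 (hvC w i)
      have heq : t * s * t⁻¹ = d e * s * (d e)⁻¹ := by
        calc t * s * t⁻¹ = t * s * t⁻¹ * (d e * t⁻¹) * (d e * t⁻¹)⁻¹ := by group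
          _ = d e * t⁻¹ * (t * s * t⁻¹) * (d e * t⁻¹)⁻¹ := by rw [hf]
          _ = d e * s * (d e)⁻¹ := by group
      rw [heq]
      rw [← hsdef] at hgoal
      convert hgoal using 1
      group
  have hEW : ∀ (e : (E₀ : Subgroup G)) (w : W E₀), (e : G) * w * (e : G)⁻¹ ∈ W E₀ := fun e w =>
    (mem_normalizer_iff.1 (hWn E₀ (hEH E₀ e.2)) _).1 w.2
  refine ⟨δ, ω, ?_, ?_, fun e => ⟨⟨hdH e, hdX e⟩, hd0 e⟩, fun w => ⟨hUV (hvU w), hvX w⟩, ?_, ?_⟩
  · rw [injective_iff_map_eq_one]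
    intro e he
    have h := hd0 e
    rw [show d e = 1 from he, one_mul] at h
    have h' : (e : G) ∈ comp p H T ⊓ centralizer ((⁅V, comp p H T⁆ : Subgroup G) : Set G) :=
      ⟨e.2, (centralizer _).inv_mem_iff.1 h.2⟩
    rw [hs.inf_centralizer_plane hT, mem_bot] at h'
    exact Subtype.ext h'
  · rw [injective_iff_map_eq_one]
    intro w hw
    have h := hvC w E₀
    rw [show v w = 1 from hw, one_mul, horb1 w (Or.inr w.2)] at h
    have h' : (w : G) ∈ ⁅V, comp p H T⁆ ⊓ (V ⊓ centralizer (comp p H T : Set G)) :=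
      ⟨w.2, hWV E₀ w.2, (centralizer _).inv_mem_iff.1 h.2⟩
    rw [(hs.plane_split hgen hT).2.1, mem_bot] at h'
    exact Subtype.ext h'
  · rintro _ ⟨e, rfl⟩
    rw [mem_normalizer_iff_map_conj_eq]
    refine eq_of_le_of_card_ge ?_ (card_cjg (δ e) ω.range).ge
    rintro _ ⟨_, ⟨w, rfl⟩, rfl⟩
    exact ⟨⟨_, hEW e w⟩, (hact e w ⟨_, hEW e w⟩ rfl).symm⟩
  · rw [eq_bot_iff]
    rintro _ ⟨⟨e, rfl⟩, hc⟩
    have h' : (e : G) ∈ comp p H T ⊓ centralizer ((⁅V, comp p H T⁆ : Subgroup G) : Set G) := by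
      refine ⟨e.2, fun w hw => ?_⟩
      have h1 := hact e ⟨w, hw⟩ ⟨_, hEW e ⟨w, hw⟩⟩ rfl
      rw [← (show v ⟨w, hw⟩ * d e = d e * v ⟨w, hw⟩ from hc _ ⟨⟨w, hw⟩, rfl⟩),
        mul_inv_cancel_right] at h1
      have hi : (⟨w, hw⟩ : W E₀) = ⟨_, hEW e ⟨w, hw⟩⟩ := by
        have hv1 := hvC ⟨w, hw⟩ E₀
        have hv2 := hvC ⟨_, hEW e ⟨w, hw⟩⟩ E₀
        rw [horb1 _ (Or.inr (Subtype.prop _))] at hv1 hv2
        rw [← h1] at hv2
        have h3 := mul_mem (inv_mem hv1) hv2
        apply Subtype.ext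
        have h4 : w * ((e : G) * w * (e : G)⁻¹)⁻¹ ∈
            ⁅V, comp p H T⁆ ⊓ (V ⊓ centralizer (comp p H T : Set G)) := by
          have h5 : w * ((e : G) * w * (e : G)⁻¹)⁻¹ ∈ W E₀ :=
            mul_mem hw (inv_mem (hEW e ⟨w, hw⟩))
          refine ⟨h5, hWV E₀ h5, ?_⟩
          have h6 := h3.2
          simp only [mul_inv_rev, inv_inv, mul_assoc, inv_mul_cancel_left] at h6 ⊢
          exact h6
        rw [(hs.plane_split hgen hT).2.1, mem_bot, mul_inv_eq_one] at h4
        exact h4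
      have h7 : w = (e : G) * w * (e : G)⁻¹ := congrArg Subtype.val hi
      calc w * (e : G) = (e : G) * w * (e : G)⁻¹ * (e : G) := by rw [← h7]
        _ = (e : G) * w := by group
    rw [hs.inf_centralizer_plane hT, mem_bot] at h'
    rw [mem_bot, show (e : comp p H T) = 1 from Subtype.ext h', map_one]

/-- The fixed points and enough transvection subgroups generate. -/
theorem le_sup_fixed {P : Subgroup G} (hP : ∀ T, IsTV p V H T → ∃ h ∈ H, cjg h T ≤ P) :
    H ≤ P ⊔ (H ⊓ centralizer (X : Set G)) := by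
  refine hs.le_of_forall_tv hgen fun T hT _ => ?_
  obtain ⟨h, hh, hTP⟩ := hP T hT
  have hT' := hs.isTV_cjg hT hh
  refine le_trans (le_sup_right : T ≤ comp p H T) ?_
  show comp p H T ≤ _
  rw [← cjg_eq_self (hs.le_normalizer_component hgen hT hh), ← comp_cjg_of_normalizer (le_normalizer hh)]
  set S := cjg h T
  refine hs.comp_le fun y hy => ?_
  obtain ⟨δ, -, -, -, hδ, -⟩ := hs.exists_diagonal hgen hXH hXV hX hT'
  obtain ⟨ε, hε, f, hf, rfl⟩ : ∃ ε ∈ comp p H S,
      ∃ f ∈ H ⊓ centralizer ((⁅V, comp p H S⁆ : Subgroup G) : Set G), ε * f = y :=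
    CfsgLib.Coprime.exists_mul_of_mem_sup
      (inf_le_left.trans (hs.le_normalizer_component hgen hT'))
      ((hs.sup_centralizer_plane hgen hT').ge (coreIn_le hy))
  obtain ⟨hd, hdf⟩ := hδ ⟨ε, hε⟩
  have hcomm := hs.commutator_centralizer_plane hgen hT'
  rw [commutator_eq_bot_iff_le_centralizer] at hcomm
  rintro _ ⟨a, ha, rfl⟩
  show ε * f * a * (ε * f)⁻¹ ∈ _
  have hfa : f * a = a * f := (hcomm (mem_sup_right ha : a ∈ comp p H S) f hf)
  have hεa : ε * a * ε⁻¹ ∈ comp p H S :=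
    mul_mem (mul_mem hε (mem_sup_right ha)) (inv_mem hε)
  set d := δ ⟨ε, hε⟩
  have hda : (d * ε⁻¹) * (ε * a * ε⁻¹) = (ε * a * ε⁻¹) * (d * ε⁻¹) := hcomm hεa _ hdf
  have h1 : ε * f * a * (ε * f)⁻¹ = d * a * d⁻¹ := by
    calc ε * f * a * (ε * f)⁻¹ = ε * (f * a) * (f⁻¹ * ε⁻¹) := by group
      _ = (ε * a * ε⁻¹) * (d * ε⁻¹) * (d * ε⁻¹)⁻¹ := by rw [hfa]; group
      _ = (d * ε⁻¹) * (ε * a * ε⁻¹) * (d * ε⁻¹)⁻¹ := by rw [hda]
      _ = d * a * d⁻¹ := by group
  rw [h1]
  have hd' : d ∈ P ⊔ (H ⊓ centralizer (X : Set G)) := mem_sup_right hd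
  exact mul_mem (mul_mem hd' (mem_sup_left (hTP ha))) (inv_mem hd')

end Setup

end CfsgLib.PLocal.Offender
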