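/-
The dual of the Hall–Higman lemma 1.2.3: without a normal `p`-subgroup, a `p`-soluble group's `p'`-core
contains its centralizer.
-/
import Cfsg.Agent.PLocal.PSolvable
set_option autoImplicit false

namespace CfsgLib.PLocal

open Cfsg Subgroup

variable {G : Type*} [Group G] {p : ℕ}

/-- In a `p`-soluble group with `O_p(G) = 1`, the centralizer of `O_{p'}(G)` lies in `O_{p'}(G)`. -/
theorem centralizer_pPrimeCore_le [Fact p.Prime] [Finite G] (hG : IsPSolvable p G)
    (hO : pCore p G = ⊥) : centralizer (pPrimeCore p G : Set G) ≤ pPrimeCore p G := by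
  set P := pPrimeCore p G with hP
  set C := centralizer (P : Set G) with hC
  set Z := C ⊓ P with hZdef
  haveI : P.Normal := by rw [hP]; infer_instance
  haveI : Z.Normal := by rw [hZdef, hC]; infer_instance
  by_contra hcon
  let π := QuotientGroup.mk' Z
  let C' : Subgroup (G ⧸ Z) := C.map π
  have hC'n : C'.Normal := Subgroup.Normal.map inferInstance π (QuotientGroup.mk'_surjective Z)
  have : Nontrivial C' := by
    rw [nontrivial_iff_ne_bot]
    intro hbot
    rw [eq_bot_iff, map_le_iff_le_comap, MonoidHom.comap_bot, QuotientGroup.ker_mk'] at hbot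
    exact hcon (hbot.trans inf_le_right)
  have hC' : IsPSolvable p C' :=
    isPSolvable_of_surjective (isPSolvable_subgroup hG C) (f := π.subgroupMap C)
      (π.subgroupMap_surjective C)
  suffices key : ∀ D' : Subgroup (G ⧸ Z), D'.Normal → D' ≤ C' →
      (IsPGroup p D' ∨ (Nat.card D').Coprime p) → D' = ⊥ by
    rcases pCore_ne_bot_or_of_isPSolvable hC' with h | h
    · refine h ((map_eq_bot_iff_of_injective _ C'.subtype_injective).mp
        (key _ (normal_map_subtype C' _) (map_subtype_le _) (Or.inl ((isPGroup_pCore p C').map _))))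
    · refine h ((map_eq_bot_iff_of_injective _ C'.subtype_injective).mp
        (key _ (normal_map_subtype C' _) (map_subtype_le _) (Or.inr
          (Nat.Coprime.coprime_dvd_left (card_map_dvd _ _) (coprime_card_pPrimeCore p C')))))
  intro D' hD'n hD'C hD'
  let D : Subgroup G := D'.comap π
  have hDC : D ≤ C := by
    refine (comap_mono hD'C).trans ?_
    rw [comap_map_eq, QuotientGroup.ker_mk']
    exact sup_le le_rfl inf_le_left
  have hZD : Z ≤ D := by
    have := comap_mono (f := π) (bot_le (a := D'))
    rwa [MonoidHom.comap_bot, QuotientGroup.ker_mk'] at this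
  have hDn : D.Normal := hD'n.comap π
  have hZc : (Nat.card Z).Coprime p :=
    coprime_card_of_le (inf_le_right : Z ≤ P) (coprime_card_pPrimeCore p G)
  suffices hDZ : D ≤ Z by
    rw [eq_bot_iff, ← map_comap_eq_self_of_surjective (QuotientGroup.mk'_surjective Z) D',
      map_le_iff_le_comap, MonoidHom.comap_bot, QuotientGroup.ker_mk']
    exact hDZ
  have hidx : Z.relIndex D = Nat.card D' := by
    have : Z = (⊥ : Subgroup (G ⧸ Z)).comap π := by
      rw [MonoidHom.comap_bot, QuotientGroup.ker_mk']
    nth_rewrite 1 [this]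
    rw [relIndex_comap, map_comap_eq_self_of_surjective (QuotientGroup.mk'_surjective _),
      relIndex_bot_left]
  rcases hD' with hp' | hp'
  · let Z' : Subgroup D := Z.subgroupOf D
    have hZ' : Nat.card Z' = Nat.card Z := Nat.card_congr (subgroupOfEquivOfLe hZD).toEquiv
    obtain ⟨m, hm⟩ := IsPGroup.iff_card.mp hp'
    have hco : (Nat.card Z').Coprime Z'.index := by
      show (Nat.card Z').Coprime (Z.relIndex D)
      rw [hZ', hidx, hm]
      exact hZc.pow_right m
    obtain ⟨K, hK⟩ := exists_left_complement'_of_coprime (N := Z') hco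
    have hcomm : ∀ z ∈ Z', ∀ x : D, z * x = x * z := fun z hz x =>
      Subtype.ext (mem_centralizer_iff.mp (hDC x.2) _ hz.2)
    have hKn : K.Normal := by
      constructor
      intro k hk g
      have hg : g ∈ K ⊔ Z' := hK.sup_eq_top ▸ mem_top g
      obtain ⟨a, ha, z, hz, rfl⟩ := mem_sup_of_normal_right.mp hg
      have : a * z * k * (a * z)⁻¹ = a * k * a⁻¹ := by
        rw [mul_inv_rev, mul_assoc a z k, hcomm z hz k]
        group
      rw [this]
      exact mul_mem (mul_mem ha hk) (inv_mem ha)
    have hKp : IsPGroup p K := IsPGroup.of_card (n := m) (by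
      rw [← hK.index_eq_card]
      exact hidx.trans hm)
    have hKbot : K = ⊥ := by
      have h1 : (pCore p D).map D.subtype = ⊥ := le_bot_iff.mp (hO ▸ pCore_map_subtype_le D)
      rw [map_eq_bot_iff_of_injective _ D.subtype_injective] at h1
      exact le_bot_iff.mp (h1 ▸ le_pCore hKp)
    intro x hx
    have : (⟨x, hx⟩ : D) ∈ K ⊔ Z' := hK.sup_eq_top ▸ mem_top _
    rw [hKbot, bot_sup_eq] at this
    exact this
  · refine le_inf hDC (le_pPrimeCore ?_)
    rw [← card_mul_relIndex hZD, hidx]
    exact Nat.Coprime.mul_left hZc hp'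

end CfsgLib.PLocal
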