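/-
The faithful action of `G / C_G(V)` on a normal subgroup `V`, inside the semidirect product, and the group
that the Thompson subgroup induces there.
-/
import Cfsg.Agent.PLocal.OffenderFixed
import Cfsg.Agent.PLocal.PPrimeConstraint
import Cfsg.Agent.S0606
import Mathlib.GroupTheory.SemidirectProduct
set_option autoImplicit false

namespace CfsgLib.PLocal.Offender

open Cfsg Subgroup
open scoped commutatorElement

variable {G A : Type*} [Group G] [Group A] {p : ℕ}

/-- A faithful representation of the action of `G` on its normal subgroup `V` inside a group `A`. -/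
structure Rep {V : Subgroup G} [V.Normal] (φ : G →* A) (j : V →* A) : Prop where
  inj : Function.Injective j
  conj : ∀ (g : G) (v : V), φ g * j v * (φ g)⁻¹ = j (MulAut.conjNormal g v)
  faithful : ∀ g : G, φ g ∈ centralizer (j.range : Set A) → φ g = 1
  ker : φ.ker = centralizer (V : Set G)

section Amb

variable (V : Subgroup G) [V.Normal]

theorem centralizer_le_ker_conjNormal :
    centralizer (V : Set G) ≤ (MulAut.conjNormal : G →* MulAut V).ker := by
  intro g hg
  rw [MonoidHom.mem_ker]
  refine MulEquiv.ext fun v => Subtype.ext ?_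
  rw [MulAut.conjNormal_apply, MulAut.one_apply, ← hg v v.2, mul_inv_cancel_right]

/-- The action of `G / C_G(V)` on `V`. -/
noncomputable def quotientAction : G ⧸ centralizer (V : Set G) →* MulAut V :=
  QuotientGroup.lift _ MulAut.conjNormal (centralizer_le_ker_conjNormal V)

/-- The semidirect product of `V` by `G / C_G(V)`. -/
abbrev Amb := V ⋊[quotientAction V] (G ⧸ centralizer (V : Set G))

instance [Finite G] : Finite (Amb V) := Finite.of_equiv _ SemidirectProduct.equivProd.symm

theorem rep_amb : Rep ((SemidirectProduct.inr : _ →* Amb V).comp (QuotientGroup.mk' _))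
    (SemidirectProduct.inl : V →* Amb V) := by
  have hconj : ∀ (g : G) (v : V),
      (SemidirectProduct.inr (QuotientGroup.mk' _ g) : Amb V) * SemidirectProduct.inl v *
        (SemidirectProduct.inr (QuotientGroup.mk' _ g))⁻¹ =
        SemidirectProduct.inl (MulAut.conjNormal g v) := fun g v => by
    rw [show MulAut.conjNormal g v = quotientAction V (QuotientGroup.mk' _ g) v from rfl,
      SemidirectProduct.inl_aut, map_inv]
  refine ⟨SemidirectProduct.inl_injective, hconj, fun g hg => ?_, ?_⟩
  · have hgC : g ∈ centralizer (V : Set G) := by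
      intro v hv
      have h1 := hconj g ⟨v, hv⟩
      have h0 : (SemidirectProduct.inr (QuotientGroup.mk' _ g) : Amb V) * SemidirectProduct.inl ⟨v, hv⟩ =
          SemidirectProduct.inl ⟨v, hv⟩ * SemidirectProduct.inr (QuotientGroup.mk' _ g) :=
        (hg _ ⟨⟨v, hv⟩, rfl⟩).symm
      rw [h0, mul_inv_cancel_right] at h1
      have h2 := congrArg Subtype.val (SemidirectProduct.inl_injective h1)
      rw [MulAut.conjNormal_apply, eq_mul_inv_iff_mul_eq] at h2
      exact h2
    show (SemidirectProduct.inr (QuotientGroup.mk' _ g) : Amb V) = 1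
    rw [show QuotientGroup.mk' (centralizer (V : Set G)) g = 1 from
      (QuotientGroup.eq_one_iff g).2 hgC, map_one]
  · rw [← MonoidHom.comap_ker, (MonoidHom.ker_eq_bot_iff _).2 SemidirectProduct.inr_injective,
      MonoidHom.comap_bot, QuotientGroup.ker_mk']

end Amb

namespace Rep

variable {V : Subgroup G} [V.Normal] {φ : G →* A} {j : V →* A} (r : Rep φ j)
include r

theorem range_le_normalizer [Finite G] : φ.range ≤ normalizer (j.range : Set A) := by
  rintro _ ⟨g, rfl⟩
  haveI : Finite j.range := Finite.of_surjective _ j.rangeRestrict_surjective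
  rw [mem_normalizer_iff_map_conj_eq]
  refine eq_of_le_of_card_ge ?_ (card_cjg (φ g) j.range).ge
  rintro _ ⟨_, ⟨v, rfl⟩, rfl⟩
  exact ⟨_, (r.conj g v).symm⟩

theorem isElementaryAbelian (hV : IsElementaryAbelian p V) : IsElementaryAbelian p j.range := by
  refine ⟨⟨⟨?_⟩⟩, ?_⟩
  · rintro ⟨_, v, rfl⟩ ⟨_, w, rfl⟩
    exact Subtype.ext (show j v * j w = j w * j v by
      rw [← map_mul, ← map_mul,
        show v * w = w * v from Subtype.ext (comm_of_isMulCommutative hV.1 v.2 w.2)])
  · rintro _ ⟨v, rfl⟩
    rw [← map_pow, show v ^ p = 1 from Subtype.ext (hV.2 v v.2), map_one]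

theorem mem_centralizer_iff' (B : Subgroup G) (v : V) :
    j v ∈ centralizer (B.map φ : Set A) ↔ (v : G) ∈ centralizer (B : Set G) := by
  constructor
  · intro h b hb
    have h1 : j (MulAut.conjNormal b v) = j v := by
      rw [← r.conj, h _ (mem_map_of_mem φ hb), mul_inv_cancel_right]
    have h2 := congrArg Subtype.val (r.inj h1)
    rw [MulAut.conjNormal_apply, mul_inv_eq_iff_eq_mul] at h2
    exact h2
  · rintro h _ ⟨b, hb, rfl⟩
    rw [← mul_inv_eq_iff_eq_mul, r.conj]
    congr 1
    refine Subtype.ext ?_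
    rw [MulAut.conjNormal_apply, h b hb, mul_inv_cancel_right]

theorem inf_centralizer (B : Subgroup G) :
    j.range ⊓ centralizer (B.map φ : Set A) = ((V ⊓ centralizer (B : Set G)).subgroupOf V).map j := by
  refine le_antisymm ?_ ?_
  · rintro _ ⟨⟨v, rfl⟩, hv⟩
    exact ⟨v, ⟨v.2, (r.mem_centralizer_iff' B v).1 hv⟩, rfl⟩
  · rintro _ ⟨v, hv, rfl⟩
    exact ⟨⟨v, rfl⟩, (r.mem_centralizer_iff' B v).2 hv.2⟩

theorem card_inf_centralizer (B : Subgroup G) :
    Nat.card ↥(j.range ⊓ centralizer (B.map φ : Set A)) = Nat.card ↥(V ⊓ centralizer (B : Set G)) := by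
  rw [r.inf_centralizer, card_map_of_injective r.inj,
    Nat.card_congr (subgroupOfEquivOfLe inf_le_left).toEquiv]

theorem card_map_mul (B : Subgroup G) :
    Nat.card (B.map φ) * Nat.card ↥(B ⊓ centralizer (V : Set G)) = Nat.card B := by
  rw [show B.map φ = (φ.comp B.subtype).range by rw [MonoidHom.range_comp, range_subtype], ← index_ker,
    ← MonoidHom.comap_ker, r.ker, mul_comm]
  have h : Nat.card ↥((centralizer (V : Set G)).subgroupOf B) =
      Nat.card ↥(B ⊓ centralizer (V : Set G)) := by
    rw [← card_map_of_injective B.subtype_injective, subgroupOf_map_subtype, inf_comm]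
  rw [← h]
  exact card_mul_index _

theorem isBestOffenderOn [Finite G] {B : Subgroup G} (hB : IsBestOffenderOn p V B) :
    IsBestOffenderOn p j.range (B.map φ) := by
  refine ⟨fun D hD => ?_, ?_, ?_⟩
  · set D' := B ⊓ D.comap φ
    have hD' : D'.map φ = D := by
      refine le_antisymm (map_le_iff_le_comap.2 inf_le_right) fun d hd => ?_
      obtain ⟨b, hb, rfl⟩ := hD hd
      exact ⟨b, ⟨hb, hd⟩, rfl⟩
    have heq : D' ⊓ centralizer (V : Set G) = B ⊓ centralizer (V : Set G) := by
      refine le_antisymm (inf_le_inf_right _ inf_le_left) fun b hb => ⟨⟨hb.1, ?_⟩, hb.2⟩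
      show φ b ∈ D
      rw [MonoidHom.mem_ker.1 (r.ker.ge hb.2)]
      exact one_mem D
    rw [← hD']
    show Nat.card (D'.map φ) * _ ≤ _
    rw [r.card_inf_centralizer, r.card_inf_centralizer]
    have h1 : Nat.card D' * Nat.card ↥(V ⊓ centralizer (D' : Set G)) ≤
        Nat.card B * Nat.card ↥(V ⊓ centralizer (B : Set G)) := hB.1 D' inf_le_left
    rw [← r.card_map_mul D', ← r.card_map_mul B, heq] at h1
    refine Nat.le_of_mul_le_mul_right ?_ (Nat.card_pos (α := ↥(B ⊓ centralizer (V : Set G))))
    calc _ = Nat.card (D'.map φ) * Nat.card ↥(B ⊓ centralizer (V : Set G)) *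
          Nat.card ↥(V ⊓ centralizer (D' : Set G)) := by ring
      _ ≤ _ := h1
      _ = _ := by ring
  · rw [← map_commutator, map_le_iff_le_comap]
    intro c hc
    show φ c ∈ centralizer _
    rw [MonoidHom.mem_ker.1 (r.ker.ge (hB.2.1 hc))]
    exact one_mem _
  · rintro _ ⟨b, hb, rfl⟩
    rw [← map_pow, MonoidHom.mem_ker.1 (r.ker.ge (hB.2.2 b hb))]
    exact one_mem _

theorem pCore_map_eq_bot [Finite G] [Fact p.Prime] (hO : pCore p (G ⧸ centralizer (V : Set G)) = ⊥)
    (L : Subgroup G) [L.Normal] : pCore p (L.map φ) = ⊥ := by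
  have e : (G ⧸ centralizer (V : Set G)) ≃* φ.range :=
    (QuotientGroup.quotientMulEquivOfEq r.ker.symm).trans (QuotientGroup.quotientKerEquivRange φ)
  have h1 : pCore p φ.range = ⊥ := by rw [← map_pCore_equiv e, hO, Subgroup.map_bot]
  haveI : Finite φ.range := Finite.of_surjective _ φ.rangeRestrict_surjective
  set N := L.map φ.rangeRestrict
  haveI : N.Normal := Subgroup.Normal.map inferInstance _ φ.rangeRestrict_surjective
  have h2 : pCore p N = ⊥ := by
    have := pCore_map_subtype_le (p := p) N
    rwa [h1, le_bot_iff, map_eq_bot_iff_of_injective _ N.subtype_injective] at this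
  have hN : N.map φ.range.subtype = L.map φ := by
    rw [map_map]
    rfl
  rw [← map_pCore_equiv ((N.equivMapOfInjective _ φ.range.subtype_injective).trans
    (MulEquiv.subgroupCongr hN)), h2, Subgroup.map_bot]

theorem setup [Finite G] [Finite A] [Fact p.Prime] (hsep : IsPSolvable p G)
    (hV : IsElementaryAbelian p V) (hO : pCore p (G ⧸ centralizer (V : Set G)) = ⊥)
    (L : Subgroup G) [L.Normal] : Setup p j.range (L.map φ) := by
  refine ⟨r.isElementaryAbelian hV, (map_le_range _ _).trans r.range_le_normalizer,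
    eq_bot_iff.2 ?_, ?_⟩
  · rintro _ ⟨⟨g, -, rfl⟩, hc⟩
    rw [mem_bot]
    exact r.faithful g hc
  · exact centralizer_pPrimeCore_le
      (isPSolvable_of_surjective (isPSolvable_subgroup hsep L) (f := φ.subgroupMap L)
        (φ.subgroupMap_surjective L)) (r.pCore_map_eq_bot hO L)

theorem thompson_gen [Finite G] [Fact p.Prime] (hV : IsElementaryAbelian p V) :
    (thompsonSubgroup p G).map φ =
      ⨆ B : {B : Subgroup A // B ≤ (thompsonSubgroup p G).map φ ∧ IsBestOffenderOn p j.range B},
        (B : Subgroup A) := by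
  refine le_antisymm ?_ (iSup_le fun B => B.2.1)
  rw [map_le_iff_le_comap]
  refine sSup_le fun B hB => map_le_iff_le_comap.1 ?_
  exact le_iSup_of_le ⟨B.map φ, map_mono (le_sSup hB),
    r.isBestOffenderOn (Cfsg.Agent.S0606.result V hV B hB)⟩ le_rfl

end Rep

end CfsgLib.PLocal.Offender
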