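import Cfsg.Agent.MetacyclicPGroup.Basic
import Mathlib.GroupTheory.Sylow
import Mathlib.GroupTheory.Nilpotent
import Mathlib.Tactic

/-!
Non-abelian `p`-groups with a cyclic subgroup of index `p`.
-/

namespace CfsgLib.PLocal.CyclicMaximal

variable {G : Type*} [Group G]

theorem zpow_eq_zpow_of_dvd {a : G} {x y : ℤ} (h : (orderOf a : ℤ) ∣ x - y) : a ^ x = a ^ y :=
  zpow_eq_zpow_iff_modEq.2 (Int.modEq_of_dvd h).symm

theorem dvd_of_zpow_eq_zpow {a : G} {x y : ℤ} (h : a ^ x = a ^ y) : (orderOf a : ℤ) ∣ x - y :=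
  (Int.modEq_iff_dvd.1 (zpow_eq_zpow_iff_modEq.1 h).symm)

theorem conj_zpow_eq {a b : G} {r : ℤ} (h : b * a * b⁻¹ = a ^ r) (t : ℤ) :
    b * a ^ t * b⁻¹ = a ^ (r * t) := by
  rw [← conj_zpow, h, ← zpow_mul]

theorem pow_conj_eq {a b : G} {r : ℤ} (h : b * a * b⁻¹ = a ^ r) (j : ℕ) :
    b ^ j * a * (b ^ j)⁻¹ = a ^ (r ^ j) := by
  induction j with
  | zero => simp
  | succ j ih =>
    calc b ^ (j + 1) * a * (b ^ (j + 1))⁻¹ = b * (b ^ j * a * (b ^ j)⁻¹) * b⁻¹ := by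
          rw [pow_succ']; group
      _ = a ^ (r ^ (j + 1)) := by rw [ih, conj_zpow_eq h, pow_succ']

theorem zpow_mul_pow_eq {a b : G} {r : ℤ} (h : b * a * b⁻¹ = a ^ r) (t : ℤ) (j : ℕ) :
    (a ^ t * b) ^ j = a ^ (t * ∑ i ∈ Finset.range j, r ^ i) * b ^ j := by
  induction j with
  | zero => simp
  | succ j ih =>
    have hs : ∑ i ∈ Finset.range (j + 1), r ^ i = r * (∑ i ∈ Finset.range j, r ^ i) + 1 := by
      rw [Finset.sum_range_succ', Finset.mul_sum]
      simp [pow_succ']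
    rw [pow_succ', ih, hs, mul_add, mul_one, add_comm, zpow_add,
      show t * (r * ∑ i ∈ Finset.range j, r ^ i) = r * (t * ∑ i ∈ Finset.range j, r ^ i) by ring,
      ← conj_zpow_eq h, pow_succ' b]
    group

/-- The raw data: a generator of the cyclic subgroup, an outside element and its action. -/
theorem exists_data [Finite G] {p : ℕ} [hp : Fact p.Prime] {n : ℕ} (hn : 1 ≤ n)
    (hG : Nat.card G = p ^ n) (C : Subgroup G) (hC : IsCyclic C) (hCi : C.index = p)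
    (hna : ∃ x y : G, x * y ≠ y * x) :
    ∃ (a b : G) (r m : ℤ), orderOf a = p ^ (n - 1) ∧ b ∉ Subgroup.zpowers a ∧
      b * a * b⁻¹ = a ^ r ∧ b ^ p = a ^ m ∧ ¬ ((p ^ (n - 1) : ℕ) : ℤ) ∣ r - 1 ∧
      ((p ^ (n - 1) : ℕ) : ℤ) ∣ r ^ p - 1 ∧ ((p ^ (n - 1) : ℕ) : ℤ) ∣ r * m - m := by
  have hCn : C.Normal := Subgroup.normal_of_index_eq_minFac_card (by
    rw [hCi, hG, Nat.Prime.pow_minFac hp.out (by omega)])
  obtain ⟨⟨a, haC⟩, ha⟩ := hC.exists_generator
  have hCa : C = Subgroup.zpowers a := by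
    refine le_antisymm (fun x hx => ?_) (Subgroup.zpowers_le.mpr haC)
    obtain ⟨k, hk⟩ := Subgroup.mem_zpowers_iff.mp (ha ⟨x, hx⟩)
    exact Subgroup.mem_zpowers_iff.mpr ⟨k, by simpa using congrArg Subtype.val hk⟩
  subst hCa
  have hord : orderOf a = p ^ (n - 1) := by
    have h := Subgroup.card_mul_index (Subgroup.zpowers a)
    rw [hCi, hG, Nat.card_zpowers, show p ^ n = p ^ (n - 1) * p by rw [← pow_succ]; congr 1; omega] at h
    exact Nat.eq_of_mul_eq_mul_right hp.out.pos h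
  obtain ⟨b, hb⟩ : ∃ b, b ∉ Subgroup.zpowers a := by
    by_contra h
    push Not at h
    rw [(Subgroup.eq_top_iff' _).2 h, Subgroup.index_top] at hCi
    exact hp.out.one_lt.ne hCi
  obtain ⟨r, hr⟩ := Subgroup.mem_zpowers_iff.1 (hCn.conj_mem a (Subgroup.mem_zpowers a) b)
  obtain ⟨m, hm⟩ := Subgroup.mem_zpowers_iff.1 (show b ^ p ∈ Subgroup.zpowers a from hCi ▸
    Subgroup.pow_index_mem (Subgroup.zpowers a) b)
  refine ⟨a, b, r, m, hord, hb, hr.symm, hm.symm, ?_, ?_, ?_⟩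
  · intro hdvd
    rw [← hord] at hdvd
    have hcomm : Commute b a := by
      have := hr.symm
      rw [zpow_eq_zpow_of_dvd hdvd, zpow_one, mul_inv_eq_iff_eq_mul] at this
      exact this
    obtain ⟨x, y, hxy⟩ := hna
    apply hxy
    have hle : ∀ z : G, z ∈ Subgroup.closure ({a, b} : Set G) := by
      intro z
      have hlt : Subgroup.zpowers a < Subgroup.closure ({a, b} : Set G) := by
        refine lt_of_le_of_ne (Subgroup.zpowers_le.2 (Subgroup.subset_closure (by simp))) fun e => hb ?_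
        rw [e]; exact Subgroup.subset_closure (by simp)
      have h1 : (Subgroup.closure ({a, b} : Set G)).index = 1 := by
        have hmul := Subgroup.relIndex_mul_index hlt.le
        rw [hCi] at hmul
        rcases (Nat.dvd_prime hp.out).1 (Dvd.intro_left _ hmul) with h1 | h1
        · exact h1
        · rw [h1] at hmul
          have h2 : (Subgroup.zpowers a).relIndex (Subgroup.closure {a, b}) = 1 :=
            Nat.eq_of_mul_eq_mul_right hp.out.pos (by rw [one_mul]; exact hmul)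
          exact absurd (Subgroup.relIndex_eq_one.1 h2) (not_le_of_gt hlt)
      rw [Subgroup.index_eq_one] at h1
      rw [h1]; exact Subgroup.mem_top z
    have hc : IsMulCommutative ↥(Subgroup.closure ({a, b} : Set G)) := Subgroup.isMulCommutative_closure (by
      intro u hu v hv
      rcases hu with rfl | rfl <;> rcases hv with rfl | rfl
      · rfl
      · exact hcomm.symm
      · exact hcomm
      · rfl)
    exact setLike_mul_comm (s := Subgroup.closure ({a, b} : Set G)) (hle x) (hle y)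
  · rw [← hord]
    apply dvd_of_zpow_eq_zpow
    rw [← pow_conj_eq hr.symm p, zpow_one, ← hm, mul_inv_eq_iff_eq_mul]
    exact (Commute.zpow_self a m)
  · rw [← hord]
    apply dvd_of_zpow_eq_zpow
    rw [← conj_zpow_eq hr.symm, hm, mul_inv_eq_iff_eq_mul, ← pow_succ', ← pow_succ]

theorem exists_modular [Finite G] {p : ℕ} [hp : Fact p.Prime] (hp2 : p ≠ 2) {n : ℕ} (hn : 3 ≤ n)
    (hG : Nat.card G = p ^ n) (C : Subgroup G) (hC : IsCyclic C) (hCi : C.index = p)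
    (hna : ∃ x y : G, x * y ≠ y * x) :
    ∃ a b : G, orderOf a = p ^ (n - 1) ∧ orderOf b = p ∧ b ∉ Subgroup.zpowers a ∧
      b * a * b⁻¹ = a ^ (1 + p ^ (n - 2)) := by
  obtain ⟨a, b, r, m, hord, hb, hr, hm, hr1, hrp, hfix⟩ :=
    exists_data (by omega) hG C hC hCi hna
  obtain ⟨e, rfl⟩ : ∃ e, n = e + 2 := ⟨n - 2, by omega⟩
  simp only [show e + 2 - 1 = e + 1 from rfl, show e + 2 - 2 = e from rfl] at *
  have he : 1 ≤ e := by omega
  set q : ℤ := (p : ℤ) ^ e with hq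
  have hN : ((p ^ (e + 1) : ℕ) : ℤ) = q * p := by rw [hq, Nat.cast_pow, pow_succ]
  have hN' : (p : ℤ) ^ (e + 1) = q * p := by rw [hq, pow_succ]
  have hP : Prime (p : ℤ) := Nat.prime_iff_prime_int.mp hp.out
  have hqq : q * p ∣ q * q := mul_dvd_mul_left _ (dvd_pow_self _ (by omega))
  have hpN : (p : ℤ) ∣ ((p ^ (e + 1) : ℕ) : ℤ) := by rw [hN]; exact dvd_mul_left _ _
  have hpr : (p : ℤ) ∣ r - 1 := by
    have h1 : (p : ℤ) ∣ r ^ p - 1 := hpN.trans hrp
    rw [← ZMod.intCast_zmod_eq_zero_iff_dvd] at h1 ⊢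
    push_cast at h1 ⊢
    rwa [ZMod.pow_card] at h1
  have hqr : q ∣ r - 1 := by
    have h2 := (CfsgLib.MetacyclicPGroup.dvd_pow_sub_one_iff hp.out hp2 hpr (e + 1) 1 0).1 (by
      rw [pow_zero, one_mul, pow_one, ← Nat.cast_pow]; exact hrp)
    rw [show (1 : ℕ) + 0 = 1 from rfl, pow_one, hN', mul_comm (p : ℤ)] at h2
    exact (mul_dvd_mul_iff_right hP.ne_zero).1 h2
  obtain ⟨k, hk⟩ := hqr
  have hpk : ¬ (p : ℤ) ∣ k := fun h => hr1 (by rw [hN, hk]; exact mul_dvd_mul_left _ h)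
  obtain ⟨u, v, huv⟩ := ((hP.coprime_iff_not_dvd).2 hpk)
  -- huv : u * p + v * k = 1
  obtain ⟨j, hj⟩ : ∃ j : ℕ, (p : ℤ) ∣ (j : ℤ) * k - 1 := by
    refine ⟨(v % p).toNat, ?_⟩
    rw [Int.toNat_of_nonneg (Int.emod_nonneg _ hP.ne_zero)]
    refine ⟨-(u + (v / p) * k), ?_⟩
    rw [Int.emod_def]; linear_combination huv
  have hpow : ∀ i : ℕ, q * p ∣ r ^ i - (1 + i * k * q) := by
    intro i
    induction i with
    | zero => simp
    | succ i ih =>
      have e1 : r ^ (i + 1) - (1 + ((i + 1 : ℕ) : ℤ) * k * q) =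
          r * (r ^ i - (1 + i * k * q)) + q * q * (i * k * k) := by
        have : r = 1 + q * k := by linarith
        rw [pow_succ', this]; push_cast; ring
      rw [e1]
      exact dvd_add (dvd_mul_of_dvd_right ih _) (dvd_mul_of_dvd_left hqq _)
  have hrj : b ^ j * a * (b ^ j)⁻¹ = a ^ (1 + q) := by
    rw [pow_conj_eq hr]
    apply zpow_eq_zpow_of_dvd
    rw [hord, hN, show r ^ j - (1 + q) = (r ^ j - (1 + j * k * q)) + q * (j * k - 1) by ring]
    exact dvd_add (hpow j) (mul_dvd_mul_left _ hj)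
  have hb' : b ^ j ∉ Subgroup.zpowers a := by
    intro hmem
    apply hr1
    obtain ⟨i, hi⟩ := Subgroup.mem_zpowers_iff.1 hmem
    rw [← hi, mul_inv_eq_iff_eq_mul.2 (Commute.zpow_self a i).eq, ← zpow_one a, ← zpow_mul] at hrj
    simp only [one_mul] at hrj
    have hq0 := dvd_of_zpow_eq_zpow hrj
    rw [hord, hN, show (1 : ℤ) - (1 + q) = q * (-1) by ring] at hq0
    exact absurd (isUnit_of_dvd_unit ((mul_dvd_mul_iff_left (pow_ne_zero _ hP.ne_zero)).1 hq0) isUnit_one.neg)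
      hP.not_unit
  set c := b ^ j with hc
  have hcp : c ^ p = a ^ (m * j) := by rw [hc, ← pow_mul, mul_comm j p, pow_mul, hm, zpow_mul, zpow_natCast]
  obtain ⟨m', hm'⟩ : (p : ℤ) ∣ m * j := by
    have h3 : a ^ ((1 + q) * (m * j)) = a ^ (m * (j : ℤ)) := by
      rw [← conj_zpow_eq hrj, ← hcp, mul_inv_eq_iff_eq_mul, ← pow_succ', ← pow_succ]
    have h4 := dvd_of_zpow_eq_zpow h3
    rw [hord, hN, show (1 + q) * (m * j) - m * j = q * (m * j) by ring] at h4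
    exact (mul_dvd_mul_iff_left (pow_ne_zero _ hP.ne_zero)).1 h4
  have hsum : q * p ∣ (∑ i ∈ Finset.range p, (1 + q) ^ i) - p := by
    have hgeom : ∀ l : ℕ, q * p ∣ (∑ i ∈ Finset.range l, (1 + q) ^ i) -
        (l + q * ((∑ i ∈ Finset.range l, i : ℕ) : ℤ)) := by
      intro l
      induction l with
      | zero => simp
      | succ l ih =>
        have hl : q * p ∣ (1 + q) ^ l - (1 + l * q) := by
          clear ih
          induction l with
          | zero => simp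
          | succ l ih =>
            have e1 : (1 + q) ^ (l + 1) - (1 + ((l + 1 : ℕ) : ℤ) * q) =
                (1 + q) * ((1 + q) ^ l - (1 + l * q)) + q * q * l := by
              rw [pow_succ']; push_cast; ring
            rw [e1]
            exact dvd_add (dvd_mul_of_dvd_right ih _) (dvd_mul_of_dvd_left hqq _)
        have e2 : (∑ i ∈ Finset.range (l + 1), (1 + q) ^ i) -
            (((l + 1 : ℕ) : ℤ) + q * ((∑ i ∈ Finset.range (l + 1), i : ℕ) : ℤ)) =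
            ((∑ i ∈ Finset.range l, (1 + q) ^ i) - (l + q * ((∑ i ∈ Finset.range l, i : ℕ) : ℤ))) +
              ((1 + q) ^ l - (1 + l * q)) := by
          rw [Finset.sum_range_succ, Finset.sum_range_succ]; push_cast; ring
        rw [e2]; exact dvd_add ih hl
    have hS : p ∣ ∑ i ∈ Finset.range p, i := by
      have h2 := Finset.sum_range_id_mul_two p
      exact (Nat.Coprime.dvd_of_dvd_mul_right ((Nat.coprime_primes hp.out Nat.prime_two).2 hp2)
        (h2 ▸ dvd_mul_right p _))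
    have := dvd_add (hgeom p) (mul_dvd_mul_left q (Int.natCast_dvd_natCast.2 hS))
    rwa [show ∀ A S : ℤ, A - ((p : ℤ) + S) + S = A - p by intros; ring] at this
  refine ⟨a, a ^ (-m') * c, hord, ?_, ?_, ?_⟩
  · refine orderOf_eq_prime ?_ ?_
    · rw [zpow_mul_pow_eq hrj, hcp, ← zpow_add, ← zpow_zero a]
      apply zpow_eq_zpow_of_dvd
      obtain ⟨w, hw⟩ := hsum
      refine ⟨-(m' * w), ?_⟩
      rw [hord, hN]
      linear_combination (-m') * hw + hm'
    · intro h1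
      exact hb' (Subgroup.mem_zpowers_iff.2 ⟨m', by rw [← mul_one (a ^ m'), ← h1, ← mul_assoc, ← zpow_add]; simp⟩)
  · intro hmem
    exact hb' ((Subgroup.mul_mem_cancel_left _ (Subgroup.zpow_mem_zpowers a (-m'))).1 hmem)
  · calc a ^ (-m') * c * a * (a ^ (-m') * c)⁻¹ = a ^ (-m') * (c * a * c⁻¹) * (a ^ (-m'))⁻¹ := by group
      _ = a ^ (1 + q) := by rw [hrj, ← zpow_add, ← zpow_neg, ← zpow_add]; congr 1; ring
      _ = a ^ (1 + p ^ e) := by rw [hq, ← zpow_natCast, Nat.cast_add, Nat.cast_one, Nat.cast_pow]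

theorem exists_two [Finite G] {n : ℕ} (hn : 3 ≤ n)
    (hG : Nat.card G = 2 ^ n) (C : Subgroup G) (hC : IsCyclic C) (hCi : C.index = 2)
    (hna : ∃ x y : G, x * y ≠ y * x) :
    ∃ a b : G, orderOf a = 2 ^ (n - 1) ∧ b ∉ Subgroup.zpowers a ∧
      ((b ^ 2 = 1 ∧ b * a * b⁻¹ = a⁻¹) ∨ (b ^ 2 = a ^ (2 ^ (n - 2)) ∧ b * a * b⁻¹ = a⁻¹) ∨
        (4 ≤ n ∧ b ^ 2 = 1 ∧ b * a * b⁻¹ = a ^ (1 + 2 ^ (n - 2))) ∨
        (4 ≤ n ∧ b ^ 2 = 1 ∧ b * a * b⁻¹ = a ^ (2 ^ (n - 2) - 1))) := by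
  haveI : Fact (Nat.Prime 2) := ⟨Nat.prime_two⟩
  obtain ⟨a, b, r, m, hord, hb, hr, hm, hr1, hrp, hfix⟩ :=
    exists_data (by omega) hG C hC hCi hna
  obtain ⟨e, rfl⟩ : ∃ e, n = e + 2 := ⟨n - 2, by omega⟩
  simp only [show e + 2 - 1 = e + 1 from rfl, show e + 2 - 2 = e from rfl] at *
  have he : 1 ≤ e := by omega
  set q : ℤ := (2 : ℤ) ^ e with hq
  have hq0 : q ≠ 0 := pow_ne_zero _ two_ne_zero
  have hN : ((2 ^ (e + 1) : ℕ) : ℤ) = q * 2 := by rw [hq, Nat.cast_pow, pow_succ]; norm_num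
  have hqn : a ^ q = a ^ (2 ^ e) := by rw [hq, ← zpow_natCast, Nat.cast_pow]; norm_num
  rw [hN] at hrp hr1 hfix
  rw [← hN] at hr1
  -- `r` is odd
  obtain ⟨s, hs⟩ : ∃ s, r = 2 * s + 1 := by
    rcases Int.even_or_odd r with ⟨s, hs⟩ | ⟨s, hs⟩
    · exfalso
      obtain ⟨w, hw⟩ := hrp
      subst hs
      exact Int.not_even_one ⟨2 * s * s - q * w, by linear_combination -hw⟩
    · exact ⟨s, hs⟩
  have hss : q * 2 ∣ 4 * (s * (s + 1)) := by
    rw [show 4 * (s * (s + 1)) = r ^ 2 - 1 by rw [hs]; ring]; exact hrp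
  obtain ⟨d, hd⟩ : ∃ d, e = d + 1 := ⟨e - 1, by omega⟩
  set h : ℤ := (2 : ℤ) ^ d with hh
  have hqh : q = 2 * h := by rw [hq, hh, hd, pow_succ']
  have hs2 : h ∣ s ∨ h ∣ s + 1 := by
    have h0 : h ∣ s * (s + 1) := (mul_dvd_mul_iff_left (show (4 : ℤ) ≠ 0 by norm_num)).1
      (by rwa [hqh, show 2 * h * 2 = 4 * h by ring] at hss)
    rcases Int.even_or_odd s with ⟨i, hi⟩ | ⟨i, hi⟩
    · left
      exact ((((Int.prime_two.coprime_iff_not_dvd).2 (by
        rintro ⟨w, hw⟩; omega : ¬ (2 : ℤ) ∣ s + 1)).pow_left (m := d))).dvd_of_dvd_mul_right h0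
    · right
      exact ((((Int.prime_two.coprime_iff_not_dvd).2 (by
        rintro ⟨w, hw⟩; omega : ¬ (2 : ℤ) ∣ s)).pow_left (m := d))).dvd_of_dvd_mul_left h0
  have hord' : (orderOf a : ℤ) = q * 2 := by rw [hord, hN]
  -- the four possible values of `r`
  have hcases : q * 2 ∣ r + 1 ∨ (4 ≤ e + 2 ∧ q * 2 ∣ r - (1 + q)) ∨ (4 ≤ e + 2 ∧ q * 2 ∣ r - (q - 1)) := by
    by_cases he1 : e = 1
    · left
      rcases Int.even_or_odd s with ⟨i, hi⟩ | ⟨i, hi⟩
      · exact absurd ⟨i, by rw [hN, hq, he1, hs, hi]; ring⟩ hr1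
      · exact ⟨i + 1, by rw [hq, he1, hs, hi]; ring⟩
    · rcases hs2 with ⟨w, hw⟩ | ⟨w, hw⟩
      · rcases Int.even_or_odd w with ⟨i, hi⟩ | ⟨i, hi⟩
        · exact absurd ⟨i, by rw [hN, hs, hw, hqh, hi]; ring⟩ hr1
        · exact Or.inr (Or.inl ⟨by omega, i, by rw [hs, hw, hqh, hi]; ring⟩)
      · rcases Int.even_or_odd w with ⟨i, hi⟩ | ⟨i, hi⟩
        · exact Or.inl ⟨i, by rw [hs, show s = h * w - 1 by omega, hqh, hi]; ring⟩
        · exact Or.inr (Or.inr ⟨by omega, i, by rw [hs, show s = h * w - 1 by omega, hqh, hi]; ring⟩)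
  rcases hcases with hc | ⟨h4, hc⟩ | ⟨h4, hc⟩
  · have hinv : b * a * b⁻¹ = a⁻¹ := by
      rw [hr, ← zpow_neg_one]
      exact zpow_eq_zpow_of_dvd (by rw [hord', sub_neg_eq_add]; exact hc)
    obtain ⟨w, hw⟩ : q ∣ m := by
      obtain ⟨x, hx⟩ := hfix
      obtain ⟨y, hy⟩ := hc
      exact ⟨y * m - x, mul_left_cancel₀ two_ne_zero (by linear_combination m * hy - hx)⟩
    rcases Int.even_or_odd w with ⟨i, hi⟩ | ⟨i, hi⟩
    · refine ⟨a, b, hord, hb, Or.inl ⟨?_, hinv⟩⟩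
      rw [hm, ← zpow_zero a]
      exact zpow_eq_zpow_of_dvd ⟨i, by rw [hord', hw, hi]; ring⟩
    · refine ⟨a, b, hord, hb, Or.inr (Or.inl ⟨?_, hinv⟩)⟩
      rw [hm, ← hqn]
      exact zpow_eq_zpow_of_dvd ⟨i, by rw [hord', hw, hi]; ring⟩
  · have hconj : b * a * b⁻¹ = a ^ (1 + q) := by
      rw [hr]; exact zpow_eq_zpow_of_dvd (by rw [hord']; exact hc)
    obtain ⟨m', hm'⟩ : (2 : ℤ) ∣ m := by
      obtain ⟨y, hy⟩ := hc
      obtain ⟨x, hx⟩ := hfix
      exact ⟨x - y * m, mul_left_cancel₀ hq0 (by linear_combination hx - m * hy)⟩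
    have hh2 : ∃ w, h = 2 * w := ⟨(2 : ℤ) ^ (d - 1), by rw [hh, ← pow_succ']; congr 1; omega⟩
    obtain ⟨w, hw⟩ := hh2
    obtain ⟨u, v, huv⟩ : IsCoprime (1 + h) q := by
      refine IsCoprime.pow_right ?_
      exact ((Int.prime_two.coprime_iff_not_dvd).2 (by rintro ⟨i, hi⟩; omega)).symm
    refine ⟨a, a ^ (-(u * m')) * b, hord, fun hmem => hb
      ((Subgroup.mul_mem_cancel_left _ (Subgroup.zpow_mem_zpowers a _)).1 hmem),
      Or.inr (Or.inr (Or.inl ⟨h4, ?_, ?_⟩))⟩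
    · rw [zpow_mul_pow_eq hconj, hm, ← zpow_add, ← zpow_zero a]
      refine zpow_eq_zpow_of_dvd ⟨m' * v, ?_⟩
      rw [hord', Finset.sum_range_succ, Finset.sum_range_one]
      linear_combination hm' + (2 * m') * (-huv) - (u * m') * hqh
    · calc a ^ (-(u * m')) * b * a * (a ^ (-(u * m')) * b)⁻¹
          = a ^ (-(u * m')) * (b * a * b⁻¹) * (a ^ (-(u * m')))⁻¹ := by group
        _ = a ^ (1 + q) := by rw [hconj, ← zpow_add, ← zpow_neg, ← zpow_add]; congr 1; ring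
        _ = a ^ (1 + 2 ^ e) := by rw [hq, ← zpow_natCast, Nat.cast_add, Nat.cast_one, Nat.cast_pow]; norm_num
  · have hconj : b * a * b⁻¹ = a ^ (q - 1) := by
      rw [hr]; exact zpow_eq_zpow_of_dvd (by rw [hord']; exact hc)
    have hconj' : b * a * b⁻¹ = a ^ (2 ^ e - 1) := by
      rw [hconj, hq, ← zpow_natCast, Nat.cast_sub Nat.one_le_two_pow, Nat.cast_pow]; norm_num
    obtain ⟨w, hw⟩ : q ∣ m := by
      obtain ⟨y, hy⟩ := hc
      obtain ⟨x, hx⟩ := hfix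
      obtain ⟨t, ht⟩ : ∃ t, h = 2 * t := ⟨(2 : ℤ) ^ (d - 1), by rw [hh, ← pow_succ']; congr 1; omega⟩
      have h5 : q ∣ m * (h - 1) :=
        ⟨x - y * m, mul_left_cancel₀ two_ne_zero (by linear_combination hx - m * hy - m * hqh)⟩
      exact (IsCoprime.pow_left ((Int.prime_two.coprime_iff_not_dvd).2
        (by rintro ⟨i, hi⟩; omega : ¬ (2 : ℤ) ∣ h - 1))).dvd_of_dvd_mul_right h5
    rcases Int.even_or_odd w with ⟨i, hi⟩ | ⟨i, hi⟩
    · refine ⟨a, b, hord, hb, Or.inr (Or.inr (Or.inr ⟨h4, ?_, hconj'⟩))⟩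
      rw [hm, ← zpow_zero a]
      exact zpow_eq_zpow_of_dvd ⟨i, by rw [hord', hw, hi]; ring⟩
    · refine ⟨a, a ^ (1 : ℤ) * b, hord, fun hmem => hb
        ((Subgroup.mul_mem_cancel_left _ (Subgroup.zpow_mem_zpowers a _)).1 hmem),
        Or.inr (Or.inr (Or.inr ⟨h4, ?_, ?_⟩))⟩
      · rw [zpow_mul_pow_eq hconj, hm, ← zpow_add, ← zpow_zero a]
        refine zpow_eq_zpow_of_dvd ⟨i + 1, ?_⟩
        rw [hord', Finset.sum_range_succ, Finset.sum_range_one, hw, hi]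
        ring
      · calc a ^ (1 : ℤ) * b * a * (a ^ (1 : ℤ) * b)⁻¹ = a * (b * a * b⁻¹) * a⁻¹ := by group
          _ = a * a ^ (2 ^ e - 1) * a⁻¹ := by rw [hconj']
          _ = a ^ (2 ^ e - 1) := by group

end CfsgLib.PLocal.CyclicMaximal
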