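/-
Operators of coprime order on a `p`-soluble group with trivial `p'`-core: generation by the Thompson
normalizer, the centre's centralizer and the fixed points (Kurzweil–Stellmacher 9.3).
-/
import Cfsg.Agent.PLocal.OffenderQuotient
import Cfsg.Agent.PLocal.Stability
import Cfsg.Agent.Coprime.Action
import Cfsg.Agent.QdFree.Basic
import Cfsg.Agent.S0601
import Cfsg.Agent.S0604
import Cfsg.Agent.S0608
set_option autoImplicit false

namespace CfsgLib.PLocal.Offender

open Cfsg Subgroup
open scoped commutatorElement MatrixGroups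

/-- The subgroup generated by the `Ω₁(Z(S))`. -/
abbrev omegaClosure (p : ℕ) (K : Type*) [Group K] : Subgroup K :=
  ⨆ S : Sylow p K, omegaOne p ((S : Subgroup K) ⊓ centralizer ((S : Subgroup K) : Set K))

theorem omegaClosure_characteristic (p : ℕ) [Fact p.Prime] (K : Type*) [Group K] [Finite K] :
    (omegaClosure p K).Characteristic := by
  refine characteristic_iff_map_le.2 fun e => ?_
  rw [omegaClosure, Subgroup.map_iSup]
  refine iSup_le fun S => le_iSup_of_le (S.mapSurjective (f := e.toMonoidHom) (show Function.Surjective e.toMonoidHom from e.surjective)) ?_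
  have hi : Function.Injective e.toMonoidHom := e.injective
  rw [Sylow.coe_mapSurjective, map_omegaOne hi, map_inf_centralizer hi]

/-- The image of a characteristic subgroup in a group where the image of the whole group is normal. -/
theorem normal_map_of_characteristic {K M : Type*} [Group K] [Group M] {ι : K →* M}
    (hι : Function.Injective ι) [ι.range.Normal] (C : Subgroup K) [C.Characteristic] :
    (C.map ι).Normal := by
  set e := MonoidHom.ofInjective hι
  have hC : (C.map e.toMonoidHom).Characteristic := by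
    refine characteristic_iff_map_eq.2 fun a => ?_
    have h := characteristic_iff_map_eq.1 (inferInstance : C.Characteristic) (e.trans (a.trans e.symm))
    conv_rhs => rw [← h]
    rw [map_map, map_map]
    congr 1
    exact MonoidHom.ext fun x => (e.apply_symm_apply (a (e x))).symm
  have h2 := normal_map_subtype ι.range (C.map e.toMonoidHom)
  rwa [map_map, show ι.range.subtype.comp e.toMonoidHom = ι from MonoidHom.ext fun _ => rfl] at h2

variable {K M A : Type*} [Group K] [Group M] [Group A]

theorem Rep.comap {V : Subgroup M} [V.Normal] {φ : M →* A} {j : V →* A} (r : Rep φ j)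
    {ι : K →* M} (hι : Function.Injective ι) {W : Subgroup K} [W.Normal] (hW : W.map ι = V) :
    ∃ j' : W →* A, Rep (φ.comp ι) j' ∧ j'.range = j.range := by
  let e : W ≃* V := (W.equivMapOfInjective ι hι).trans (MulEquiv.subgroupCongr hW)
  have he : ∀ w : W, (e w : M) = ι w := fun _ => rfl
  refine ⟨j.comp e.toMonoidHom, ⟨r.inj.comp e.injective, fun g v => ?_, fun g hg => ?_, ?_⟩, ?_⟩
  · show φ (ι g) * j (e v) * (φ (ι g))⁻¹ = j (e _)
    rw [r.conj]
    congr 1
    refine Subtype.ext ?_
    rw [MulAut.conjNormal_apply, he, he, MulAut.conjNormal_apply, map_mul, map_mul, map_inv]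
  · refine r.faithful _ ?_
    rwa [MonoidHom.range_comp, MonoidHom.range_eq_top.2 e.surjective, ← MonoidHom.range_eq_map] at hg
  · rw [← MonoidHom.comap_ker, r.ker]
    ext k
    rw [mem_comap]
    constructor
    · intro h w hw
      have h1 := h (ι w) (hW ▸ mem_map_of_mem ι hw)
      rw [← map_mul, ← map_mul] at h1
      exact hι h1
    · intro h v hv
      rw [← hW] at hv
      obtain ⟨w, hw, rfl⟩ := hv
      rw [← map_mul, ← map_mul, h w hw]
  · rw [MonoidHom.range_comp, MonoidHom.range_eq_top.2 e.surjective, ← MonoidHom.range_eq_map]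

variable [Finite K] [Finite M] {p : ℕ} [Fact p.Prime] {ι : K →* M} {X : Subgroup M}

omit [Finite M] in
theorem omegaClosure_facts (hsep : IsPSolvable p K) (hO : pPrimeCore p K = ⊥) :
    (omegaClosure p K).Normal ∧ IsElementaryAbelian p (omegaClosure p K) ∧
      ∀ [(omegaClosure p K).Normal],
        pCore p (K ⧸ centralizer (omegaClosure p K : Set K)) = ⊥ := by
  obtain ⟨h1, h2, h3⟩ := Cfsg.Agent.S0601.result (p := p) (centralizer_pCore_le hsep hO)
  exact ⟨h1, h2, fun {_} => (pCore_quotient_eq_bot_iff _).2 h3⟩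

/-- Generation by the normalizer of `J(S)`, the centralizer of `Ω₁(Z(S))` and the fixed points. -/
theorem eq_top_of_fixed_le (hι : Function.Injective ι) [ι.range.Normal] (hsep : IsPSolvable p K)
    (hO : pPrimeCore p K = ⊥) (hX : (Nat.card X).Coprime (Nat.card K)) (hXs : Group.IsSolvable X)
    (S : Sylow p K) {R : Subgroup K}
    (hN : normalizer (thompsonSubgroupOf p (S : Subgroup K) : Set K) ≤ R)
    (hC : centralizer (omegaOne p ((S : Subgroup K) ⊓ centralizer ((S : Subgroup K) : Set K)) : Set K) ≤ R)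
    (hF : (centralizer (X : Set M)).comap ι ≤ R) : R = ⊤ := by
  haveI := omegaClosure_characteristic p K
  obtain ⟨-, hV, hO'⟩ := omegaClosure_facts hsep hO
  haveI : ((omegaClosure p K).map ι).Normal := normal_map_of_characteristic hι _
  have r := rep_amb ((omegaClosure p K).map ι)
  set V := (omegaClosure p K).map ι
  set φ := (SemidirectProduct.inr : _ →* Amb V).comp (QuotientGroup.mk' (centralizer (V : Set M)))
  obtain ⟨j', r', hjr⟩ := r.comap hι (W := omegaClosure p K) rfl
  set J := thompsonSubgroup p K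
  haveI : (J.map ι).Normal := normal_map_of_characteristic hι J
  have hs := r'.setup hsep hV hO' J
  have hgen := r'.thompson_gen (p := p) hV
  rw [hjr] at hs hgen
  have hXH : X.map φ ≤ normalizer (J.map (φ.comp ι) : Set (Amb V)) := by
    rw [show J.map (φ.comp ι) = (J.map ι).map φ from (map_map _ _ _).symm]
    exact (map_mono le_normalizer_of_normal).trans (le_normalizer_map φ)
  have hXV : X.map φ ≤ normalizer ((SemidirectProduct.inl : V →* Amb V).range : Set (Amb V)) :=
    (map_le_range _ _).trans r.range_le_normalizer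
  have hcop : (Nat.card (X.map φ)).Coprime (Nat.card (J.map (φ.comp ι))) :=
    (hX.coprime_dvd_left (card_map_dvd _ _)).coprime_dvd_right
      ((card_map_dvd _ _).trans (card_subgroup_dvd_card J))
  have hJR : J ≤ R := by
    have hker : (φ.comp ι).ker ≤ R := by
      rw [r'.ker]
      exact (centralizer_le (le_iSup (fun T : Sylow p K =>
        omegaOne p ((T : Subgroup K) ⊓ centralizer ((T : Subgroup K) : Set K))) S)).trans hC
    have hP : ∀ T, IsTV p (SemidirectProduct.inl : V →* Amb V).range (J.map (φ.comp ι)) T →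
        ∃ h ∈ J.map (φ.comp ι), cjg h T ≤ ((S : Subgroup K) ⊓ J).map (φ.comp ι) := by
      intro T hT
      set ψ := (φ.comp ι).subgroupMap J
      obtain ⟨Q, hQ, hQT⟩ := CfsgLib.QdFree.exists_pGroup_map_eq ψ ((φ.comp ι).subgroupMap_surjective J)
        (T.subgroupOf (J.map (φ.comp ι))) ((hs.isPGroup_tv hT).comap_subtype)
      obtain ⟨P, hQP⟩ := (hQ.map J.subtype).exists_le_sylow
      obtain ⟨g, hg⟩ := MulAction.exists_smul_eq K P S
      have hg' : g ∈ normalizer (((J ⊓ (S : Subgroup K)) : Subgroup K) : Set K) ⊔ J := by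
        rw [normalizer_inf_sylow_sup]; exact mem_top g
      obtain ⟨n, hn, j, hj, rfl⟩ := mem_sup_of_normal_right.mp hg'
      refine ⟨(φ.comp ι) j, mem_map_of_mem _ hj, ?_⟩
      rintro _ ⟨t, ht, rfl⟩
      obtain ⟨q, hq, hqt⟩ : (⟨t, hT.le ht⟩ : J.map (φ.comp ι)) ∈ Q.map ψ := hQT ▸ ht
      have h1 : n * j * q * (n * j)⁻¹ ∈ (S : Subgroup K) := by
        rw [← hg]
        exact ⟨q, hQP ⟨q, hq, rfl⟩, rfl⟩
      have hjq : j * (q : K) * j⁻¹ ∈ J := mul_mem (mul_mem hj q.2) (inv_mem hj)
      have h2 : n * (j * q * j⁻¹) * n⁻¹ ∈ J ⊓ (S : Subgroup K) := by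
        refine ⟨(inferInstance : J.Normal).conj_mem _ hjq n, ?_⟩
        show n * (j * (q : K) * j⁻¹) * n⁻¹ ∈ (S : Subgroup K)
        rwa [show n * (j * (q : K) * j⁻¹) * n⁻¹ = n * j * q * (n * j)⁻¹ by group]
      refine ⟨j * q * j⁻¹, inf_comm J (S : Subgroup K) ▸ (mem_normalizer_iff.1 hn _).2 h2, ?_⟩
      show (φ.comp ι) (j * q * j⁻¹) = (φ.comp ι) j * t * ((φ.comp ι) j)⁻¹
      rw [map_mul, map_mul, map_inv, show (φ.comp ι) (q : K) = t from congrArg Subtype.val hqt]
    have hle := hs.le_sup_fixed hgen hXH hXV hcop hP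
    have hfix : J.map (φ.comp ι) ⊓ centralizer ((X.map φ : Subgroup (Amb V)) : Set (Amb V)) ≤
        R.map (φ.comp ι) := by
      rw [show J.map (φ.comp ι) = (J.map ι).map φ from (map_map _ _ _).symm,
        ← CfsgLib.Coprime.map_inf_centralizer φ le_normalizer_of_normal ?_ (Or.inl hXs)]
      · rintro _ ⟨_, ⟨⟨k, hk, rfl⟩, hc⟩, rfl⟩
        exact ⟨k, hF hc, rfl⟩
      · refine hX.coprime_dvd_right ((card_dvd_of_le inf_le_left).trans ?_)
        exact (card_map_dvd _ _).trans (card_subgroup_dvd_card J)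
    have hSR : ((S : Subgroup K) ⊓ J).map (φ.comp ι) ≤ R.map (φ.comp ι) :=
      map_mono (inf_le_left.trans (le_normalizer.trans
        ((normalizer_le_normalizer_thompsonSubgroupOf p _).trans hN)))
    intro x hx
    obtain ⟨y, hy, hxy⟩ := (hle.trans (sup_le hSR hfix)) (mem_map_of_mem (φ.comp ι) hx)
    have h3 : y⁻¹ * x ∈ R := hker (MonoidHom.eq_iff _ |>.1 hxy.symm)
    have := mul_mem hy h3
    rwa [mul_inv_cancel_left] at this
  rw [eq_top_iff, ← normalizer_inf_sylow_sup S J]
  refine sup_le (le_trans ?_ hN) hJR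
  have hle : thompsonSubgroupOf p (S : Subgroup K) ≤ J := by
    show _ ≤ thompsonSubgroup p K
    rw [Cfsg.Agent.S0604.result]
    exact le_iSup (fun T : Sylow p K => thompsonSubgroupOf p (T : Subgroup K)) S
  rw [← thompsonSubgroupOf_eq_of_le (inf_le_right : J ⊓ (S : Subgroup K) ≤ _)
    (le_inf hle (thompsonSubgroupOf_le p _))]
  exact normalizer_le_normalizer_thompsonSubgroupOf p _

/-- Failure of factorization: the fixed points induce `SL(2, p)` on a plane. -/
theorem exists_fixed_sl2 (hι : Function.Injective ι) [ι.range.Normal] (hsep : IsPSolvable p K)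
    (hO : pPrimeCore p K = ⊥) (hX : (Nat.card X).Coprime (Nat.card K)) (hXs : Group.IsSolvable X)
    (hnf : ¬ IsThompsonFactorizable p K) :
    (p = 2 ∨ p = 3) ∧ ∃ W D : Subgroup M, W ≤ ι.range ⊓ centralizer (X : Set M) ∧
      D ≤ ι.range ⊓ centralizer (X : Set M) ∧ IsElementaryAbelian p W ∧ Nat.card W = p ^ 2 ∧
      D ≤ normalizer (W : Set M) ∧ ∃ f : D →* SL(2, ZMod p), Function.Surjective f ∧
        f.ker = (centralizer (W : Set M)).subgroupOf D := by
  haveI := omegaClosure_characteristic p K
  obtain ⟨-, hV, hO'⟩ := omegaClosure_facts hsep hO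
  haveI : ((omegaClosure p K).map ι).Normal := normal_map_of_characteristic hι _
  have r := rep_amb ((omegaClosure p K).map ι)
  set V := (omegaClosure p K).map ι with hVdef
  set φ := (SemidirectProduct.inr : _ →* Amb V).comp (QuotientGroup.mk' (centralizer (V : Set M)))
  set j := (SemidirectProduct.inl : V →* Amb V)
  obtain ⟨j', r', hjr⟩ := r.comap hι (W := omegaClosure p K) rfl
  set J := thompsonSubgroup p K
  haveI : (J.map ι).Normal := normal_map_of_characteristic hι J
  have hs := r'.setup hsep hV hO' J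
  have hgen := r'.thompson_gen (p := p) hV
  rw [hjr] at hs hgen
  obtain ⟨T, hT⟩ : ∃ T, IsTV p j.range (J.map (φ.comp ι)) T := by
    by_contra h
    refine hnf ((Cfsg.Agent.S0608.result hO).2 ?_)
    intro x hx
    refine r'.ker.le (MonoidHom.mem_ker.2 (mem_bot.1 ?_))
    exact (hs.le_of_forall_tv hgen fun S hS _ => absurd ⟨S, hS⟩ h) (mem_map_of_mem (φ.comp ι) hx)
  have hXH : X.map φ ≤ normalizer (J.map (φ.comp ι) : Set (Amb V)) := by
    rw [show J.map (φ.comp ι) = (J.map ι).map φ from (map_map _ _ _).symm]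
    exact (map_mono le_normalizer_of_normal).trans (le_normalizer_map φ)
  have hXV : X.map φ ≤ normalizer (j.range : Set (Amb V)) :=
    (map_le_range _ _).trans r.range_le_normalizer
  have hcop : (Nat.card (X.map φ)).Coprime (Nat.card (J.map (φ.comp ι))) :=
    (hX.coprime_dvd_left (card_map_dvd _ _)).coprime_dvd_right
      ((card_map_dvd _ _).trans (card_subgroup_dvd_card J))
  obtain ⟨δ, ω, hδi, hωi, hδ, hω, hnorm, hfaith⟩ := hs.exists_diagonal hgen hXH hXV hcop hT
  set W := (ω.range.comap j).map V.subtype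
  set D := (J.map ι ⊓ centralizer (X : Set M)) ⊓ δ.range.comap φ
  have hWV : W ≤ V := map_subtype_le _
  have hWX : W ≤ centralizer (X : Set M) := by
    rintro _ ⟨v, ⟨w, hw⟩, rfl⟩ x hx
    have h1 : φ x * j v = j v * φ x := hw ▸ (hω w).2 _ (mem_map_of_mem φ hx)
    have h2 := r.conj x v
    rw [h1, mul_inv_cancel_right] at h2
    have h3 := congrArg Subtype.val (r.inj h2)
    rw [MulAut.conjNormal_apply, eq_mul_inv_iff_mul_eq] at h3
    exact h3.symm
  have hWc : Nat.card W = p ^ 2 := by
    rw [card_map_of_injective V.subtype_injective, ← card_map_of_injective r.inj,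
      map_comap_eq_self (show ω.range ≤ j.range by rintro _ ⟨w, rfl⟩; exact (hω w).1),
      ← Nat.card_congr (MonoidHom.ofInjective hωi).toEquiv]
    exact (hs.plane_split hgen hT).1
  have hconjmem : ∀ d ∈ D, ∀ v : V, v ∈ ω.range.comap j → MulAut.conjNormal d v ∈ ω.range.comap j := by
    intro d hd v hv
    show j _ ∈ ω.range
    rw [← r.conj]
    exact (mem_normalizer_iff.1 (hnorm hd.2) _).1 hv
  have hDW : D ≤ normalizer (W : Set M) := by
    intro d hd
    rw [mem_normalizer_iff_map_conj_eq]
    refine eq_of_le_of_card_ge ?_ (card_cjg d W).ge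
    rintro _ ⟨_, ⟨v, hv, rfl⟩, rfl⟩
    exact ⟨_, hconjmem d hd v hv, MulAut.conjNormal_apply d v⟩
  refine ⟨hs.eq_two_or_three hT, W, D, le_inf (hWV.trans (map_le_range _ _)) hWX,
    inf_le_left.trans (inf_le_inf_right _ (map_le_range _ _)),
    isElementaryAbelian_of_le (isElementaryAbelian_map hV ι) hWV, hWc, hDW, ?_⟩
  obtain ⟨e⟩ := hs.nonempty_comp_equiv hT
  set g : D →* δ.range := (φ.comp D.subtype).codRestrict δ.range fun d => d.2.2
  refine ⟨(((MonoidHom.ofInjective hδi).symm.trans e).toMonoidHom).comp g, ?_, ?_⟩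
  · refine ((MonoidHom.ofInjective hδi).symm.trans e).surjective.comp fun y => ?_
    obtain ⟨c, hc⟩ := y.2
    have h1 : (y : Amb V) ∈ (J.map ι).map φ ⊓ centralizer ((X.map φ : Subgroup (Amb V)) : Set (Amb V)) := by
      rw [map_map, ← hc]
      exact (hδ c).1
    rw [← CfsgLib.Coprime.map_inf_centralizer φ le_normalizer_of_normal
      (hX.coprime_dvd_right ((card_dvd_of_le inf_le_left).trans
        ((card_map_dvd _ _).trans (card_subgroup_dvd_card J)))) (Or.inl hXs)] at h1
    obtain ⟨d, hd, hdy⟩ := h1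
    exact ⟨⟨d, hd, show φ d ∈ δ.range by rw [hdy]; exact y.2⟩, Subtype.ext hdy⟩
  · ext d
    rw [MonoidHom.mem_ker, MonoidHom.comp_apply, MulEquiv.coe_toMonoidHom, MulEquiv.map_eq_one_iff,
      mem_subgroupOf]
    constructor
    · intro h
      have h1 : φ d = 1 := congrArg Subtype.val h
      exact centralizer_le hWV (r.ker.le h1)
    · intro h
      refine Subtype.ext ?_
      show φ d = 1
      rw [← mem_bot (G := Amb V), ← hfaith]
      refine ⟨d.2.2, ?_⟩
      rintro _ ⟨w, rfl⟩
      obtain ⟨v, hv⟩ := (hω w).1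
      have h2 := r.conj d v
      have h3 : MulAut.conjNormal (d : M) v = v := by
        refine Subtype.ext ?_
        rw [MulAut.conjNormal_apply, ← h v ⟨v, ⟨w, hv.symm⟩, rfl⟩, mul_inv_cancel_right]
      rw [h3, mul_inv_eq_iff_eq_mul] at h2
      exact (hv ▸ h2.symm : ω w * φ d = φ d * ω w)

end CfsgLib.PLocal.Offender
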