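/-
The stable normal closure `W(S)` of `Ω₁(Z(S))` and its normality in action-`p`-stable groups.
-/
import Cfsg.Agent.PLocal.Stability
import Cfsg.Agent.PLocal.Thompson
import Cfsg.Agent.S0605
import Cfsg.Agent.S0607
set_option autoImplicit false

namespace CfsgLib.PLocal.StableClosure

open Cfsg Subgroup
open scoped commutatorElement

universe u

variable {p : ℕ} {S S' H : Type u} [Group S] [Group S'] [Group H]

theorem omega_center_le_omegaCenterThompson [Finite S] [Fact p.Prime] :
    omegaOne p (center S) ≤ omegaCenterThompson p S := by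
  refine (closure_le _).2 ?_
  rintro x ⟨hx, hxp⟩
  rcases eq_or_ne x 1 with rfl | hne
  · exact one_mem _
  have hc : x ∈ centralizer (thompsonSubgroup p S : Set S) := fun y _ => mem_center_iff.1 hx y
  exact mem_omegaOne ⟨Cfsg.Agent.S0605.result x hc (orderOf_eq_prime hxp hne), hc⟩ hxp

theorem isElementaryAbelian_omegaCenterThompson (p : ℕ) (S : Type u) [Group S] :
    IsElementaryAbelian p (omegaCenterThompson p S) :=
  isElementaryAbelian_omegaOne
    (le_centralizer_iff_isMulCommutative.1 (inf_le_right.trans (centralizer_le inf_le_left)))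

instance omegaCenterThompson_characteristic' (p : ℕ) (S : Type u) [Group S] :
    (omegaCenterThompson p S).Characteristic :=
  characteristic_iff_map_eq.2 fun e => by
    have h : ∀ {f : S →* S}, Function.Injective f → f.range = ⊤ →
        (omegaCenterThompson p S).map f = omegaCenterThompson p S := fun {f} hf hr => by
      rw [map_omegaCenterThompson hf, hr, thompsonSubgroupOf_top]
      rfl
    exact h e.injective (MonoidHom.range_eq_top.2 e.surjective)

instance thompsonSubgroup_characteristic' (p : ℕ) (S : Type u) [Group S] :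
    (thompsonSubgroup p S).Characteristic :=
  characteristic_iff_map_eq.2 fun e => by
    rw [map_thompsonSubgroup (f := e.toMonoidHom) e.injective,
      MonoidHom.range_eq_top.2 (show Function.Surjective e.toMonoidHom from e.surjective),
      thompsonSubgroupOf_top]

/-- The family whose intersection defines `W(S)`. -/
def closedSet (p : ℕ) (S : Type u) [Group S] : Set (Subgroup S) :=
  {W : Subgroup S | omegaOne p (center S) ≤ W ∧
    ∀ (H : Type u) [Group H] (τ : S →* H), IsStableEmbedding p τ → (W.map τ).Normal}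

theorem stableNormalClosure_eq (p : ℕ) (S : Type u) [Group S] :
    stableNormalClosure p S = sInf (closedSet p S) := rfl

theorem omegaCenterThompson_mem [Finite S] [Fact p.Prime] :
    omegaCenterThompson p S ∈ closedSet p S := by
  refine ⟨omega_center_le_omegaCenterThompson, fun H _ τ hτ => ?_⟩
  obtain ⟨hinj, -, -, -, hJ, -⟩ := hτ
  haveI := hJ
  have e : (omegaCenterThompson p S).map τ =
      omegaOne p ((thompsonSubgroup p S).map τ ⊓
        centralizer (((thompsonSubgroup p S).map τ : Subgroup H) : Set H)) := by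
    rw [omegaCenterThompson, map_omegaOne hinj, map_inf_centralizer hinj]
  rw [e]
  exact omegaOne_normal _

theorem omega_center_le : omegaOne p (center S) ≤ stableNormalClosure p S :=
  le_sInf fun _ hW => hW.1

theorem le_omegaCenterThompson [Finite S] [Fact p.Prime] :
    stableNormalClosure p S ≤ omegaCenterThompson p S := sInf_le omegaCenterThompson_mem

theorem isElementaryAbelian [Finite S] [Fact p.Prime] :
    IsElementaryAbelian p (stableNormalClosure p S) :=
  isElementaryAbelian_of_le (isElementaryAbelian_omegaCenterThompson p S) le_omegaCenterThompson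

theorem map_normal [Finite S] [Fact p.Prime] {τ : S →* H} (hτ : IsStableEmbedding p τ) :
    ((stableNormalClosure p S).map τ).Normal := by
  haveI : Nonempty (closedSet p S) := ⟨⟨_, omegaCenterThompson_mem⟩⟩
  rw [stableNormalClosure_eq, sInf_eq_iInf', map_iInf τ hτ.1]
  exact normal_iInf_normal fun W => W.2.2 H τ hτ

theorem isStableEmbedding_comp (η : S ≃* S') {τ : S' →* H} (hτ : IsStableEmbedding p τ) :
    IsStableEmbedding p (τ.comp η.toMonoidHom) := by
  obtain ⟨hinj, hfin, ⟨P, hP⟩, hc, hJ, hst⟩ := hτ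
  have hr : η.toMonoidHom.range = ⊤ := MonoidHom.range_eq_top.2 η.surjective
  have hinj' : Function.Injective (τ.comp η.toMonoidHom) := hinj.comp η.injective
  refine ⟨hinj', hfin, ⟨P, ?_⟩, hc, ?_, fun V hV hle => hst V ?_⟩
  · rw [MonoidHom.range_comp, hr, ← MonoidHom.range_eq_map, hP]
  · rwa [← Subgroup.map_map, map_thompsonSubgroup (f := η.toMonoidHom) η.injective, hr,
      thompsonSubgroupOf_top]
  · rwa [← Subgroup.map_map, map_omegaCenterThompson (f := η.toMonoidHom) η.injective, hr,
      thompsonSubgroupOf_top] at hle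

theorem map_mem_closedSet (η : S ≃* S') {W : Subgroup S} (hW : W ∈ closedSet p S) :
    W.map η.toMonoidHom ∈ closedSet p S' := by
  refine ⟨?_, fun H _ τ hτ => ?_⟩
  · have h := Subgroup.map_mono (f := η.toMonoidHom) hW.1
    rw [map_omegaOne η.injective] at h
    refine le_trans (omegaOne_mono fun x hx => ?_) h
    exact ⟨η.symm x, mem_center_iff.2 fun y => η.injective (by
      simpa using mem_center_iff.1 hx (η y)), by simp⟩
  · rw [Subgroup.map_map]
    exact hW.2 H _ (isStableEmbedding_comp η hτ)

theorem map_equiv (η : S ≃* S') :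
    (stableNormalClosure p S).map η.toMonoidHom = stableNormalClosure p S' := by
  refine le_antisymm (le_sInf fun W hW => ?_) ?_
  · rw [map_le_iff_le_comap]
    refine sInf_le (show W.comap η.toMonoidHom ∈ closedSet p S from ?_)
    rw [comap_equiv_eq_map_symm']
    exact map_mem_closedSet η.symm hW
  · rw [show (stableNormalClosure p S).map η.toMonoidHom =
      (stableNormalClosure p S).comap η.symm.toMonoidHom from map_equiv_eq_comap_symm _ _]
    rw [← map_le_iff_le_comap]
    refine le_sInf fun W hW => ?_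
    rw [map_le_iff_le_comap, comap_equiv_eq_map_symm', MulEquiv.symm_symm]
    exact sInf_le (map_mem_closedSet η hW)

theorem ne_bot [Finite S] [Fact p.Prime] (hS : IsPGroup p S) [Nontrivial S] :
    stableNormalClosure p S ≠ ⊥ := by
  intro h
  haveI := hS.center_nontrivial
  refine omegaOne_ne_bot (p := p) ?_ (le_bot_iff.1 (h ▸ omega_center_le))
  exact (hS.to_subgroup (center S)).card_eq_or_dvd.resolve_left Finite.one_lt_card.ne'

/-- No element of `S` acts quadratically and non-trivially on `W(S)`. -/
theorem commute_of_quadratic [Finite S] [Fact p.Prime] {x : S}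
    (hx : ⁅⁅stableNormalClosure p S, zpowers x⁆, zpowers x⁆ = ⊥) :
    stableNormalClosure p S ≤ centralizer {x} := by
  set W := stableNormalClosure p S with hWdef
  set X : Set S := {y | ⁅⁅W, zpowers y⁆, zpowers y⁆ = ⊥} with hX
  set W0 := W ⊓ centralizer X with hW0
  suffices h : W0 ∈ closedSet p S by
    have h1 : W ≤ W0 := sInf_le h
    exact (h1.trans inf_le_right).trans (centralizer_le (Set.singleton_subset_iff.2 hx))
  refine ⟨le_inf omega_center_le fun z hz y _ => mem_center_iff.1 (omegaOne_le p _ hz) y, ?_⟩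
  intro H _ τ hτ
  haveI hWn : (W.map τ).Normal := map_normal hτ
  have hle : W.map τ ≤ (omegaCenterThompson p S).map τ :=
    Subgroup.map_mono le_omegaCenterThompson
  obtain ⟨hinj, hfin, ⟨P, hP⟩, -, -, hst⟩ := hτ
  constructor
  rintro _ ⟨w, hw, rfl⟩ h
  obtain ⟨u, hu, hu'⟩ := hWn.conj_mem _ (mem_map_of_mem τ hw.1) h
  refine ⟨u, ⟨hu, fun y hy => hinj ?_⟩, hu'⟩
  rw [map_mul, map_mul, hu']
  -- the conjugate of `y` is congruent to an element of the Sylow subgroup, which centralizes `w`
  have hq := quadratic_map (MulAut.conj h⁻¹).toMonoidHom (quadratic_map τ hy)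
  rw [show (W.map τ).map (MulAut.conj h⁻¹).toMonoidHom = W.map τ from le_antisymm
    (by rintro _ ⟨v, hv, rfl⟩; exact hWn.conj_mem v hv h⁻¹)
    (fun v hv => ⟨h * v * h⁻¹, hWn.conj_mem v hv h, by simp [mul_assoc]⟩)] at hq
  set a := (MulAut.conj h⁻¹).toMonoidHom (τ y) with ha
  obtain ⟨D, hDn, hCD, ⟨k, hk⟩, haD⟩ := exists_normal_of_isPStableOn (hst (W.map τ) hle) hq
  have haD' := le_inf_sylow_sup P hCD hk haD
  obtain ⟨s, hs, c, hc, hsc⟩ := mem_sup_of_normal_right.1 haD'
  have hsP : s ∈ (P : Subgroup H) := hs.2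
  rw [hP] at hsP
  obtain ⟨t, rfl⟩ := hsP
  have htq : t ∈ X := by
    refine quadratic_of_map hinj (show ⁅⁅W.map τ, zpowers (τ t)⁆, zpowers (τ t)⁆ = ⊥ from ?_)
    have hcc : τ t * c⁻¹ * (τ t)⁻¹ ∈ centralizer (W.map τ : Set H) :=
      (inferInstance : (centralizer (W.map τ : Set H)).Normal).conj_mem _ (inv_mem hc) _
    have h1 := quadratic_centralizer_mul hcc ((normalizer_eq_top (W.map τ)).ge (mem_top a)) hq
    rwa [show τ t * c⁻¹ * (τ t)⁻¹ * a = τ t by rw [← hsc]; group] at h1
  have hwt : τ t * τ w = τ w * τ t := by rw [← map_mul, ← map_mul, hw.2 t htq]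
  have hwa : a * τ w = τ w * a := by
    rw [← hsc, mul_assoc, ← hc (τ w) (mem_map_of_mem τ hw.1), ← mul_assoc, hwt, mul_assoc]
  have e : τ y = h * a * h⁻¹ := by rw [ha]; simp [mul_assoc]
  rw [e]
  calc h * a * h⁻¹ * (h * τ w * h⁻¹) = h * (a * τ w) * h⁻¹ := by group
    _ = h * (τ w * a) * h⁻¹ := by rw [hwa]
    _ = h * τ w * h⁻¹ * (h * a * h⁻¹) := by group

/-- `W(S)` is normal as soon as the actions used in the proof are `p`-stable. -/
theorem map_subtype_normal_of_stable {G : Type u} [Group G] [Finite G] [Fact p.Prime]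
    (hc : centralizer (pCore p G : Set G) ≤ pCore p G) (P : Sylow p G)
    (hV : ∀ (V : Subgroup G) [V.Normal], IsElementaryAbelian p V → IsPStableOn p V)
    (hR : ∀ w : G, ⁅⁅pCore p G, zpowers w⁆, zpowers w⁆ = ⊥ → w ∈ pCore p G)
    (hN : ∀ (V : Subgroup ↥(normalizer (thompsonSubgroupOf p (P : Subgroup G) : Set G))) [V.Normal],
      V.map (normalizer (thompsonSubgroupOf p (P : Subgroup G) : Set G)).subtype ≤
        (omegaCenterThompson p ↥(P : Subgroup G)).map (P : Subgroup G).subtype →
      IsPStableOn p V) :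
    ((stableNormalClosure p ↥(P : Subgroup G)).map (P : Subgroup G).subtype).Normal := by
  set J := thompsonSubgroupOf p (P : Subgroup G) with hJ
  set N := normalizer (J : Set G) with hNdef
  have hPN : (P : Subgroup G) ≤ N :=
    le_normalizer.trans (normalizer_le_normalizer_thompsonSubgroupOf p _)
  let τ : ↥(P : Subgroup G) →* ↥N := Subgroup.inclusion hPN
  have hτ : Function.Injective τ := Subgroup.inclusion_injective hPN
  have hcomp : N.subtype.comp τ = (P : Subgroup G).subtype := rfl
  have hτr : τ.range = (P.subtype hPN : Subgroup ↥N) := by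
    rw [Sylow.coe_subtype]
    exact Subgroup.inclusion_range hPN
  set W := (stableNormalClosure p ↥(P : Subgroup G)).map (P : Subgroup G).subtype with hW
  have hemb : IsStableEmbedding p τ := by
    refine ⟨hτ, inferInstance, ⟨P.subtype hPN, hτr.symm⟩, ?_, ?_, ?_⟩
    · intro x hx
      have hRN : pCore p G ≤ N := (pCore_le_sylow P).trans hPN
      have h1 : (pCore p G).subgroupOf N ≤ pCore p N :=
        le_pCore ((isPGroup_pCore p G).comap_subtype)
      have h2 : (x : G) ∈ centralizer (pCore p G : Set G) := fun y hy =>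
        congrArg Subtype.val (hx (⟨y, hRN hy⟩ : N) (h1 hy))
      exact h1 (hc h2)
    · have e : (thompsonSubgroup p ↥(P : Subgroup G)).map τ = J.subgroupOf N := by
        apply Subgroup.map_injective N.subtype_injective
        rw [Subgroup.map_map, hcomp, subgroupOf_map_subtype,
          inf_eq_left.2 (show J ≤ N from (thompsonSubgroupOf_le p _).trans hPN)]
        rfl
      rw [e]
      exact normal_subgroupOf_iff_le_normalizer
        ((thompsonSubgroupOf_le p _).trans hPN) |>.2 le_rfl
    · intro V hVn hVle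
      refine hN V ?_
      have := Subgroup.map_mono (f := N.subtype) hVle
      rwa [Subgroup.map_map, hcomp] at this
  have hWN : N ≤ normalizer (W : Set G) := by
    haveI := map_normal hemb
    have := le_normalizer_map (H := (stableNormalClosure p ↥(P : Subgroup G)).map τ) N.subtype
    rwa [normalizer_eq_top, ← MonoidHom.range_eq_map, range_subtype, Subgroup.map_map, hcomp] at this
  have hWea : IsElementaryAbelian p W := isElementaryAbelian_map isElementaryAbelian _
  have hWc : ∀ x ∈ W, ∀ y ∈ W, x * y = y * x := fun x hx y hy =>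
    mem_centralizer_iff.1 (le_centralizer_iff_isMulCommutative.2 hWea.1 hy) x hx
  have hWP : W ≤ P := map_subtype_le _
  set R := pCore p G with hRdef
  -- `W` lies in `O_p(G)`
  have hWR : W ≤ R := by
    intro w hw
    refine hR w ?_
    have h1 : ⁅R, zpowers w⁆ ≤ W := by
      refine (commutator_mono le_rfl (zpowers_le.2 hw)).trans ?_
      exact le_normalizer_iff_commutator_le_right.1
        ((pCore_le_sylow P).trans (hPN.trans hWN))
    rw [commutator_eq_bot_iff_le_centralizer]
    exact h1.trans ((le_centralizer_iff_isMulCommutative.2 hWea.1).trans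
      (centralizer_le (zpowers_le.2 hw)))
  -- quadratic elements of `G` on the normal closure are trivial
  set V := normalClosure (W : Set G) with hVdef
  have hWV : W ≤ V := subset_normalClosure
  have hquadW : ∀ s ∈ (P : Subgroup G), ⁅⁅W, zpowers s⁆, zpowers s⁆ = ⊥ →
      ∀ w ∈ W, s * w = w * s := by
    intro s hs hq w hw
    obtain ⟨u, hu, rfl⟩ := hw
    exact congrArg Subtype.val (commute_of_quadratic (x := (⟨s, hs⟩ : (P : Subgroup G)))
      (quadratic_of_map (f := (P : Subgroup G).subtype) Subtype.coe_injective hq) hu ⟨s, hs⟩ rfl)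
  have hcomm : ∀ x ∈ Group.conjugatesOfSet (W : Set G), ∀ w ∈ W, x * w = w * x := by
    intro x hx w hw
    obtain ⟨v, hv, hcj⟩ := Group.mem_conjugatesOfSet_iff.1 hx
    obtain ⟨g, rfl⟩ := isConj_iff.1 hcj
    set W' := W.map (MulAut.conj g).toMonoidHom with hW'
    have hxW' : g * v * g⁻¹ ∈ W' := ⟨v, hv, rfl⟩
    have hxR : g * v * g⁻¹ ∈ R := (inferInstance : R.Normal).conj_mem v (hWR hv) g
    refine hquadW _ (pCore_le_sylow P hxR) ?_ w hw
    have hRW' : R ≤ normalizer (W' : Set G) := by
      intro r hr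
      have h0 : g⁻¹ * r * g ∈ normalizer (W : Set G) := hWN (hPN (pCore_le_sylow P (by
        simpa using (inferInstance : R.Normal).conj_mem r hr g⁻¹)))
      have h2 := le_normalizer_map (H := W) (MulAut.conj g).toMonoidHom ⟨_, h0, rfl⟩
      have h3 : (MulAut.conj g).toMonoidHom (g⁻¹ * r * g) = r := by simp [mul_assoc]
      rwa [h3] at h2
    rw [commutator_eq_bot_iff_le_centralizer]
    refine ((commutator_mono (hWR) (zpowers_le.2 hxW')).trans
      (le_normalizer_iff_commutator_le_right.1 hRW')).trans ?_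
    exact (le_centralizer_iff_isMulCommutative.2 (isMulCommutative_map hWea.1 _)).trans
      (centralizer_le (zpowers_le.2 hxW'))
  have hVea : IsElementaryAbelian p V := by
    refine isElementaryAbelian_closure (fun x hx y hy => ?_) fun x hx => ?_
    · obtain ⟨v, hv, hcj⟩ := Group.mem_conjugatesOfSet_iff.1 hy
      obtain ⟨g, rfl⟩ := isConj_iff.1 hcj
      have hx' : g⁻¹ * x * g ∈ Group.conjugatesOfSet (W : Set G) := by
        simpa using Group.conj_mem_conjugatesOfSet (c := g⁻¹) hx
      calc x * (g * v * g⁻¹) = g * ((g⁻¹ * x * g) * v) * g⁻¹ := by group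
        _ = g * (v * (g⁻¹ * x * g)) * g⁻¹ := by rw [hcomm _ hx' v hv]
        _ = g * v * g⁻¹ * x := by group
    · obtain ⟨v, hv, hcj⟩ := Group.mem_conjugatesOfSet_iff.1 hx
      obtain ⟨g, rfl⟩ := isConj_iff.1 hcj
      rw [conj_pow, hWea.2 v hv, mul_one, mul_inv_cancel]
  set C := centralizer (V : Set G) with hC
  have hquad : ∀ a : G, ⁅⁅V, zpowers a⁆, zpowers a⁆ = ⊥ → a ∈ C := by
    have key : ∀ a : G, ⁅⁅V, zpowers a⁆, zpowers a⁆ = ⊥ → ∀ w ∈ W, a * w = w * a := by
      intro a hq w hw
      obtain ⟨D, hDn, hCD, ⟨k, hk⟩, haD⟩ := exists_normal_of_isPStableOn (hV V hVea) hq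
      obtain ⟨s, hs, c, hc', hsc⟩ := mem_sup_of_normal_right.1 (le_inf_sylow_sup P hCD hk haD)
      have hcc : s * c⁻¹ * s⁻¹ ∈ C :=
        (inferInstance : C.Normal).conj_mem _ (inv_mem hc') _
      have h1 := quadratic_centralizer_mul hcc ((normalizer_eq_top V).ge (mem_top a)) hq
      rw [show s * c⁻¹ * s⁻¹ * a = s by rw [← hsc]; group] at h1
      rw [← hsc, mul_assoc, ← hc' w (hWV hw), ← mul_assoc,
        hquadW s hs.2 (quadratic_mono hWV h1) w hw, mul_assoc]
    intro a hq
    rw [hC, hVdef, normalClosure, centralizer_closure]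
    intro x hx
    obtain ⟨v, hv, hcj⟩ := Group.mem_conjugatesOfSet_iff.1 hx
    obtain ⟨g, rfl⟩ := isConj_iff.1 hcj
    have hq' := quadratic_map (MulAut.conj g⁻¹).toMonoidHom hq
    rw [show V.map (MulAut.conj g⁻¹).toMonoidHom = V from le_antisymm
      (by rintro _ ⟨u, hu, rfl⟩; exact normalClosure_normal.conj_mem u hu g⁻¹)
      (fun u hu => ⟨g * u * g⁻¹, normalClosure_normal.conj_mem u hu g, by simp [mul_assoc]⟩)] at hq'
    have h := key _ hq' v hv
    simp only [MulEquiv.coe_toMonoidHom, MulAut.conj_apply, inv_inv] at h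
    calc g * v * g⁻¹ * a = g * (v * (g⁻¹ * a * g)) * g⁻¹ := by group
      _ = g * (g⁻¹ * a * g * v) * g⁻¹ := by rw [h]
      _ = a * (g * v * g⁻¹) := by group
  -- so `J(P)` centralizes the normal closure
  have hJC : J ≤ C := by
    rw [hJ, thompsonSubgroupOf_eq, maxEAIn_sylow]
    refine sSup_le fun A hA => ?_
    rw [hC, ← commutator_eq_bot_iff_le_centralizer, commutator_comm]
    by_contra hne
    obtain ⟨-, h2, h3⟩ := Cfsg.Agent.S0607.result V hVea A hA.1
    refine h3 hne ?_
    rw [commutator_comm, commutator_eq_bot_iff_le_centralizer]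
    intro b hb
    exact hquad b (le_bot_iff.1 (h2 ▸
      commutator_mono (commutator_mono le_rfl (zpowers_le.2 hb)) (zpowers_le.2 hb)))
  have hJeq := thompsonSubgroupOf_eq_of_le (inf_le_right : C ⊓ (P : Subgroup G) ≤ P)
    (le_inf hJC (thompsonSubgroupOf_le p _))
  refine normalizer_eq_top_iff.1 (top_unique ?_)
  rw [← normalizer_inf_sylow_sup P C]
  refine sup_le (le_trans ?_ hWN) ?_
  · rw [hNdef, hJ, ← hJeq]
    exact normalizer_le_normalizer_thompsonSubgroupOf p _
  · exact le_trans (centralizer_le hWV) (centralizer_le_normalizer _)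

/-- In an action-`p`-stable group with `C_G(O_p(G)) ≤ O_p(G)`, the subgroup `W(S)` is normal. -/
theorem map_subtype_normal {G : Type u} [Group G] [Finite G] [Fact p.Prime]
    (hst : IsActionPStable p G) (hc : centralizer (pCore p G : Set G) ≤ pCore p G)
    (P : Sylow p G) :
    ((stableNormalClosure p ↥(P : Subgroup G)).map (P : Subgroup G).subtype).Normal := by
  obtain ⟨hV, hR, hN⟩ := hst
  refine map_subtype_normal_of_stable hc P hV (fun w hq => ?_) (hN P)
  obtain ⟨D, hDn, hKD, ⟨k, hk⟩, hwD⟩ := hR w (hq.le.trans bot_le)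
  haveI := hDn
  obtain ⟨j, hj⟩ := IsPGroup.iff_card.1 (isPGroup_sectionKernel_frattini hc)
  refine le_pCore (p := p) (N := D) (IsPGroup.of_card (n := j + k) ?_) hwD
  rw [← card_mul_relIndex hKD, hj, hk, pow_add]

end CfsgLib.PLocal.StableClosure
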