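/-
Thompson's normal `p`-complement theorem and the factorization `G = O_{p'}(G) N_G(W(S))` for the
stable normal closure `W(S)`.
-/
import Cfsg.Agent.PLocal.StableClosure
import Cfsg.Agent.PLocal.PStabilityCor
import Cfsg.Agent.PLocal.LocalConstraint
import Cfsg.Agent.Transfer.GlaubermanThompson
set_option autoImplicit false

namespace CfsgLib.PLocal.StableClosure

open Cfsg Subgroup

universe u

variable {p : ℕ} {G : Type u} [Group G]

/-- `W(P)` inside `G`. -/
def closureOf (p : ℕ) (P : Subgroup G) : Subgroup G :=
  (stableNormalClosure p P).map P.subtype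

theorem closureOf_le (P : Subgroup G) : closureOf p P ≤ P := map_subtype_le _

theorem closureOf_ne_bot [Finite G] [Fact p.Prime] {P : Subgroup G} (hP : IsPGroup p P)
    (h : P ≠ ⊥) : closureOf p P ≠ ⊥ := by
  haveI := (nontrivial_iff_ne_bot P).2 h
  rw [closureOf, Ne, Subgroup.map_eq_bot_iff_of_injective _ P.subtype_injective]
  exact ne_bot hP

theorem map_closureOf {H : Type u} [Group H] {f : G →* H} {P : Subgroup G} (hf : Set.InjOn f P) :
    (closureOf p P).map f = closureOf p (P.map f) := by
  let e : ↥P ≃* ↥(P.map f) := MulEquiv.ofBijective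
    ((f.comp P.subtype).codRestrict (P.map f) fun x => mem_map_of_mem f x.2)
    ⟨fun x y hxy => Subtype.ext (hf x.2 y.2 (congrArg Subtype.val hxy)),
      fun y => by
        obtain ⟨x, hx, hxy⟩ := y.2
        exact ⟨⟨x, hx⟩, Subtype.ext hxy⟩⟩
  rw [closureOf, closureOf, ← map_equiv e, Subgroup.map_map, Subgroup.map_map]
  rfl

theorem normalizer_le_normalizer_closureOf (P : Subgroup G) :
    normalizer (P : Set G) ≤ normalizer (closureOf p P : Set G) := by
  intro g hg
  have h := map_closureOf (p := p) (f := (MulAut.conj g).toMonoidHom) (P := P)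
    ((MulAut.conj g).injective.injOn)
  exact mem_normalizer_iff_map_conj_eq.2
    (h.trans (congrArg (closureOf p) (mem_normalizer_iff_map_conj_eq.1 hg)))

/-- The condition of Thompson's theorem in the form with `W(S)`. -/
def CondW (p : ℕ) (G : Type u) [Group G] (S : Subgroup G) : Prop :=
  HasNormalPComplement p (normalizer (closureOf p S : Set G))

open CfsgLib.Transfer CfsgLib.Transfer.GlaubermanThompson in
theorem functorW [Fact p.Prime] : Skeleton.Functor.{u} p (CondW p) where
  sub G _ _ S H h hSH := by
    refine pnil_normalizer_of_map H.subtype H.subtype_injective ?_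
    rw [map_closureOf H.subtype_injective.injOn, map_subgroupOf_eq_of_le hSH]
    exact hasNormalPComplement_of_injective h (H.subtype.subgroupComap _)
      fun a b hab => Subtype.ext (H.subtype_injective (congrArg Subtype.val hab :))
  quot G _ _ S N _ hN h := by
    show HasNormalPComplement p _
    rw [← map_closureOf (fun x hx y hy hxy => congrArg Subtype.val
      (inj_of_coprime S N hN (a₁ := ⟨x, hx⟩) (a₂ := ⟨y, hy⟩) hxy))]
    exact pnil_normalizer_image N hN (S.isPGroup'.to_le (closureOf_le _)) h
  norm G _ _ S h := hasNormalPComplement_of_le (normalizer_le_normalizer_closureOf _) h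
  witness G H _ _ _ _ f hf R hR hc := by
    refine ⟨closureOf p ((R : Subgroup H).map f), closureOf_le _,
      closureOf_ne_bot (R.isPGroup'.map f) ?_, normalizer_le_normalizer_closureOf _,
      fun h => hc ?_⟩
    · rwa [ne_eq, Subgroup.map_eq_bot_iff_of_injective _ hf]
    · refine pnil_normalizer_of_map f hf ?_
      rw [map_closureOf hf.injOn]
      exact h

theorem criticalW [Finite G] [Fact p.Prime] (S : Sylow p G)
    (h : CfsgLib.Transfer.Skeleton.Critical p (CondW p) G S) : False := by
  set N := normalizer (thompsonSubgroupOf p (S : Subgroup G) : Set G)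
  have hSN : (S : Subgroup G) ≤ N :=
    le_normalizer.trans (normalizer_le_normalizer_thompsonSubgroupOf p _)
  have hV : ∀ (V : Subgroup G) [V.Normal], IsPGroup p V → IsPStableOn p V := fun V _ hV a ha =>
    h.stable V hV a ((quadratic_iff (by rw [normalizer_eq_top]; exact mem_top a)).1 ha)
  have hW : (closureOf p (S : Subgroup G)).Normal := by
    refine map_subtype_normal_of_stable h.constrained S
      (fun V _ hVe => hV V (isPGroup_of_isElementaryAbelian hVe)) (fun w hw => ?_)
      (fun V _ hle => ?_)
    · set C := centralizer (pCore p G : Set G)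
      have h1 := hV (pCore p G) (isPGroup_pCore p G) w hw
      have hp : IsPGroup p ↥((pCore p (G ⧸ C)).comap (QuotientGroup.mk' C)) :=
        (isPGroup_pCore p (G ⧸ C)).comap_of_ker_isPGroup _
          (by rw [QuotientGroup.ker_mk']; exact (isPGroup_pCore p G).to_le h.constrained)
      exact le_pCore hp h1
    · intro a ha
      by_cases hN : N = ⊤
      · -- `V` is normal in `G`
        set V' := V.map N.subtype
        haveI hn : V'.Normal := normalizer_eq_top_iff.1 (top_unique (by
          have := le_normalizer_map (H := V) N.subtype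
          rw [normalizer_eq_top V, ← MonoidHom.range_eq_map, range_subtype] at this
          exact hN.ge.trans this))
        obtain ⟨D, hD, hCD, ⟨k, hk⟩, haD⟩ := exists_normal_of_isPStableOn
          (hV V' (S.isPGroup'.to_le (hle.trans (map_subtype_le _)))) (quadratic_map N.subtype ha)
        set C := centralizer (V : Set N)
        set π := QuotientGroup.mk' C
        have hp : IsPGroup p ↥((D.comap N.subtype).map π) := by
          refine IsPGroup.of_card_dvd_pow (n := k) ?_
          have h2 := Subgroup.relIndex_ker (K := D.comap N.subtype) π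
          rw [QuotientGroup.ker_mk'] at h2
          rw [← h2, ← hk, relIndex_comap_of_surjective (f := N.subtype)
            (fun g => ⟨⟨g, hN ▸ mem_top g⟩, rfl⟩) (centralizer (V' : Set G)) D |>.symm]
          refine dvd_of_eq ?_
          congr 1
          ext x
          simp only [mem_comap, C, V', mem_centralizer_iff, SetLike.mem_coe, Subgroup.mem_map]
          constructor
          · rintro hx _ ⟨v, hv, rfl⟩
            exact congrArg Subtype.val (hx v hv)
          · intro hx v hv
            exact Subtype.ext (hx _ ⟨v, hv, rfl⟩)
        haveI : ((D.comap N.subtype).map π).Normal :=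
          (Subgroup.Normal.comap hD _).map _ (QuotientGroup.mk'_surjective C)
        exact le_pCore hp (mem_map_of_mem π (show a ∈ D.comap N.subtype from haD))
      · -- `N` is a `p`-group
        have hN' := h.proper N hSN hN
        have hp : IsPGroup p N := by
          refine isPGroup_of_forall_coprime_eq_one fun y hy => ?_
          have hyP : y ∈ pResidual p N := CfsgLib.Transfer.mem_pResidual_of_coprime hy
          have hR : pCore p G ≤ N := (pCore_le_sylow S).trans hSN
          have hdis : (pCore p G).subgroupOf N ⊓ pResidual p N = ⊥ :=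
            disjoint_of_isPGroup_of_coprime (isPGroup_pCore p G).comap_subtype
              (not_dvd_iff_coprime.mpr (CfsgLib.Transfer.hasNormalPComplement_iff.mp hN'))
          have hyR : (y : G) ∈ pCore p G := by
            refine h.constrained fun r hr => ?_
            have : (⟨r, hR hr⟩ : N) * y = y * ⟨r, hR hr⟩ :=
              commutatorElement_eq_one_iff_mul_comm.mp (mem_bot.mp (hdis ▸
                (commutator_le_inf ((pCore p G).subgroupOf N) (pResidual p N))
                  (commutator_mem_commutator
                    (show (⟨r, hR hr⟩ : N) ∈ (pCore p G).subgroupOf N from hr) hyP)))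
            exact congrArg Subtype.val this
          exact mem_bot.mp (hdis ▸ mem_inf.mpr ⟨hyR, hyP⟩)
        haveI : (⊤ : Subgroup (N ⧸ centralizer (V : Set N))).Normal := inferInstance
        exact le_pCore ((hp.to_quotient _).to_subgroup ⊤) (mem_top _)
  have h1 := h.cond
  haveI := hW
  rw [CondW, normalizer_eq_top] at h1
  exact h.not_pnil ((CfsgLib.Transfer.hasNormalPComplement_congr Subgroup.topEquiv).1 h1)

/-- Thompson's normal `p`-complement theorem, `W(S)` form. -/
theorem hasNormalPComplement_of_normalizer [Finite G] [Fact p.Prime] (hp : p ≠ 2) (S : Sylow p G)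
    (h : HasNormalPComplement p (normalizer (closureOf p (S : Subgroup G) : Set G))) :
    HasNormalPComplement p G :=
  CfsgLib.Transfer.Skeleton.hasNormalPComplement_of_critical hp functorW
    (fun _ _ _ S h => criticalW S h) _ G le_rfl S h

/-- `G = O_{p'}(G) N_G(W(S))` for `p`-soluble `G`, `p ≥ 5`. -/
theorem pPrimeCore_sup_normalizer [Finite G] [Fact p.Prime] (hp : 5 ≤ p) (hsep : IsPSolvable p G)
    (S : Sylow p G) :
    pPrimeCore p G ⊔ normalizer (closureOf p (S : Subgroup G) : Set G) = ⊤ := by
  set O := pPrimeCore p G
  set π := QuotientGroup.mk' O with hπ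
  have hco := coprime_card_pPrimeCore p G
  have hq : IsPSolvable p (G ⧸ O) := isPSolvable_quotient hsep O
  have hp2 : p ≠ 2 := by omega
  set T := S.mapSurjective (QuotientGroup.mk'_surjective O)
  have hn : (closureOf p (T : Subgroup (G ⧸ O))).Normal :=
    map_subtype_normal
      (isActionPStable_of_no_section hp2 (not_hasSL2Section_of_isPSolvable hp
        (isPSolvable_subgroup hq ⊤)))
      (centralizer_pCore_le hq (pPrimeCore_quotient_pPrimeCore_eq_bot p G)) T
  have hinj : Set.InjOn π (S : Subgroup G) := fun x hx y hy hxy =>
    congrArg Subtype.val (@injective_comp_subtype_of_coprime G _ p _ _ π _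
      S.isPGroup' (by rw [hπ, QuotientGroup.ker_mk']; exact hco) ⟨x, hx⟩ ⟨y, hy⟩ hxy)
  have htop : (normalizer (closureOf p (S : Subgroup G) : Set G)).map π = ⊤ := by
    rw [← normalizer_map_mk'_eq O hco (S.isPGroup'.to_le (closureOf_le _)), ← hπ,
      map_closureOf hinj]
    exact normalizer_eq_top_iff.2 hn
  rw [eq_top_iff, ← comap_top (f := π), ← htop, comap_map_eq, hπ, QuotientGroup.ker_mk', sup_comm]

end CfsgLib.PLocal.StableClosure
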